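import Cfsg.Agent.RealClassGraph11.Cores

/-!
A minimal spread action has no real element of odd prime power order in a proper normal subgroup.
-/

set_option autoImplicit false

namespace CfsgLib.RealClassGraph11

open CfsgLib.CoprimeLargest (idx)
open CfsgLib.TwoSizes (cen mem_cen)

universe u v

variable {L : Type u} [Group L]

/-- A normal abelian subgroup of odd prime exponent. -/
structure EltAb (A : Subgroup L) (q : ℕ) : Prop where
  prime : q.Prime
  ne_two : q ≠ 2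
  normal : A.Normal
  comm : ∀ a ∈ A, ∀ b ∈ A, Commute a b
  exp : ∀ a ∈ A, a ^ q = 1

/-- An element inducing an involution on a subgroup. -/
def InvAct (A : Subgroup L) (g : L) : Prop :=
  (∀ a ∈ A, Commute (g * g) a) ∧ ∃ a ∈ A, ¬ Commute g a

/-- Conjugation by `g` inverts `a`. -/
def Inverts (g a : L) : Prop := g * a * g⁻¹ = a⁻¹

theorem Inverts.zpow {g a : L} (h : Inverts g a) (i : ℤ) : Inverts g (a ^ i) := by
  show g * a ^ i * g⁻¹ = (a ^ i)⁻¹
  rw [← conj_zpow, show g * a * g⁻¹ = a⁻¹ from h, inv_zpow]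

theorem Inverts.of_mem_zpowers {g a b : L} (h : Inverts g a) (hb : b ∈ Subgroup.zpowers a) :
    Inverts g b := by
  obtain ⟨i, rfl⟩ := Subgroup.mem_zpowers_iff.1 hb
  exact h.zpow i

variable {A : Subgroup L} {q : ℕ}

theorem Inverts.mul (hA : EltAb A q) {g a b : L} (ha : a ∈ A) (hb : b ∈ A) (h1 : Inverts g a)
    (h2 : Inverts g b) : Inverts g (a * b) := by
  show g * (a * b) * g⁻¹ = _
  calc g * (a * b) * g⁻¹ = (g * a * g⁻¹) * (g * b * g⁻¹) := by group
    _ = (b * a)⁻¹ := by rw [show g * a * g⁻¹ = _ from h1, show g * b * g⁻¹ = _ from h2, mul_inv_rev]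
    _ = (a * b)⁻¹ := by rw [(hA.comm b hb a ha).eq]

theorem EltAb.orderOf_eq (hA : EltAb A q) {a : L} (ha : a ∈ A) (h1 : a ≠ 1) : orderOf a = q := by
  haveI : Fact q.Prime := ⟨hA.prime⟩
  exact orderOf_eq_prime (hA.exp a ha) h1

theorem EltAb.oddReal (hA : EltAb A q) {g a : L} (ha : a ∈ A) (h1 : a ≠ 1) (h : Inverts g a) :
    OddReal a :=
  ⟨q, 0, hA.prime, hA.ne_two, by rw [hA.orderOf_eq ha h1]; simp, isConj_iff.2 ⟨g, h⟩⟩

theorem EltAb.eq_one_of_inverts_of_commute (hA : EltAb A q) {g a : L} (ha : a ∈ A)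
    (h : Inverts g a) (hc : g * a * g⁻¹ = a) : a = 1 := by
  refine eq_one_of_mul_self ?_ ?_
  · rcases eq_or_ne a 1 with rfl | h1
    · simp
    · rw [hA.orderOf_eq ha h1]; exact hA.prime.odd_of_ne_two hA.ne_two
  · rw [show g * a * g⁻¹ = a⁻¹ from h] at hc
    nth_rw 1 [← hc]
    exact inv_mul_cancel a

theorem InvAct.exists_inverts (hA : EltAb A q) {g : L} (hg : InvAct A g) :
    ∃ a ∈ A, a ≠ 1 ∧ Inverts g a := by
  obtain ⟨a, ha, hna⟩ := hg.2
  have hga := hA.normal.conj_mem a ha g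
  refine ⟨a⁻¹ * (g * a * g⁻¹), mul_mem (inv_mem ha) hga, fun h1 => hna ?_, ?_⟩
  · rw [inv_mul_eq_one] at h1
    exact mul_inv_eq_iff_eq_mul.1 h1.symm
  · show g * (a⁻¹ * (g * a * g⁻¹)) * g⁻¹ = _
    calc g * (a⁻¹ * (g * a * g⁻¹)) * g⁻¹
        = (g * a * g⁻¹)⁻¹ * (g * g * a * (g * g)⁻¹) := by group
      _ = (g * a * g⁻¹)⁻¹ * a := by rw [(hg.1 a ha).eq, mul_inv_cancel_right]
      _ = _ := by group

variable {V : Type v} [AddCommGroup V] [DistribMulAction L V]

theorem norm_smul_eq_zero {y : L} {n : ℕ} (hy : y ^ n = 1) (hfpf : ∀ w : V, y • w = w → w = 0)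
    (x : V) : ∑ i ∈ Finset.range n, y ^ i • x = 0 := by
  refine hfpf _ ?_
  have h1 := Finset.sum_range_succ' (fun i => y ^ i • x) n
  have h2 := Finset.sum_range_succ (fun i => y ^ i • x) n
  rw [h1, hy, pow_zero, one_smul] at h2
  rw [Finset.smul_sum]
  refine Eq.trans ?_ (add_right_cancel h2)
  exact Finset.sum_congr rfl fun i _ => by rw [pow_succ', mul_smul]

/-- Commonly inverted elements form a cyclic group. -/
theorem Inverts.mem_zpowers (h : Spread L V) (hA : EltAb A q) {g w x : L} (hw : w ∈ A)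
    (hw1 : w ≠ 1) (hgw : Inverts g w) (hx : x ∈ A) (hgx : Inverts g x) :
    x ∈ Subgroup.zpowers w := by
  by_contra hxw
  obtain ⟨v, hv⟩ := h.exists_ne
  have hfpf : ∀ a ∈ A, a ≠ 1 → Inverts g a → ∀ u : V, a • u = u → u = 0 :=
    fun a ha h1 hga => h.fpf a (hA.oddReal ha h1 hga)
  have hT : ∑ i ∈ Finset.range q, ∑ j ∈ Finset.range q, (x * w ^ i) ^ j • v = 0 := by
    refine Finset.sum_eq_zero fun i _ => ?_
    have hm : x * w ^ i ∈ A := mul_mem hx (pow_mem hw i)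
    refine norm_smul_eq_zero (hA.exp _ hm) (hfpf _ hm (fun h1 => hxw ?_) ?_) v
    · rw [mul_eq_one_iff_eq_inv] at h1
      rw [h1]; exact inv_mem (pow_mem (Subgroup.mem_zpowers w) i)
    · refine hgx.mul hA hx (pow_mem hw i) ?_
      exact hgw.of_mem_zpowers (pow_mem (Subgroup.mem_zpowers w) i)
  rw [Finset.sum_comm] at hT
  obtain ⟨q', rfl⟩ : ∃ q', q = q' + 1 := ⟨q - 1, (Nat.sub_add_cancel hA.prime.pos).symm⟩
  rw [Finset.sum_range_succ'] at hT
  have hz : ∀ j ∈ Finset.range q',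
      ∑ i ∈ Finset.range (q' + 1), (x * w ^ i) ^ (j + 1) • v = 0 := by
    intro j hj
    rw [Finset.mem_range] at hj
    have hwj : w ^ (j + 1) ≠ 1 := pow_ne_one_of_lt_orderOf (Nat.succ_ne_zero j)
      (by rw [hA.orderOf_eq hw hw1]; omega)
    have e : ∀ i, (x * w ^ i) ^ (j + 1) • v = x ^ (j + 1) • ((w ^ (j + 1)) ^ i • v) := fun i => by
      rw [(hA.comm x hx _ (pow_mem hw i)).mul_pow, mul_smul, ← pow_mul, ← pow_mul, mul_comm i]
    rw [Finset.sum_congr rfl (fun i _ => e i), ← Finset.smul_sum,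
      norm_smul_eq_zero (hA.exp _ (pow_mem hw _)) (hfpf _ (pow_mem hw _) hwj
        (hgw.of_mem_zpowers (pow_mem (Subgroup.mem_zpowers w) _))), smul_zero]
  rw [Finset.sum_eq_zero hz, zero_add] at hT
  simp only [pow_zero, one_smul, Finset.sum_const, Finset.card_range] at hT
  obtain ⟨t, ht⟩ := hA.prime.odd_of_ne_two hA.ne_two
  rw [show q' + 1 = 2 * t + 1 from ht, add_smul, one_smul, mul_comm, mul_smul, two_nsmul, h.exp2,
    smul_zero, zero_add] at hT
  exact hv hT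

/-- Two involutory actions that commute are equal. -/
theorem InvAct.eq_of_commute (h : Spread L V) (hA : EltAb A q) {z z' : L} (hz : InvAct A z)
    (hz' : InvAct A z')
    (hc : ∀ a ∈ A, z * (z' * a * z'⁻¹) * z⁻¹ = z' * (z * a * z⁻¹) * z'⁻¹) :
    ∀ a ∈ A, z * a * z⁻¹ = z' * a * z'⁻¹ := by
  have hconj : ∀ g a : L, a ∈ A → g * a * g⁻¹ ∈ A := fun g a ha => hA.normal.conj_mem a ha g
  -- the difference element `a⁻¹ g a g⁻¹` is inverted by `g`
  have hdiff : ∀ g : L, InvAct A g → ∀ a ∈ A, Inverts g (a⁻¹ * (g * a * g⁻¹)) := by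
    intro g hg a ha
    show g * (a⁻¹ * (g * a * g⁻¹)) * g⁻¹ = _
    calc g * (a⁻¹ * (g * a * g⁻¹)) * g⁻¹
        = (g * a * g⁻¹)⁻¹ * (g * g * a * (g * g)⁻¹) := by group
      _ = (g * a * g⁻¹)⁻¹ * a := by rw [(hg.1 a ha).eq, mul_inv_cancel_right]
      _ = _ := by group
  obtain ⟨w, hw, hw1, hzw⟩ := hz.exists_inverts hA
  have hz'w : Inverts z' w := by
    set u := w⁻¹ * (z' * w * z'⁻¹) with hu
    have huA : u ∈ A := mul_mem (inv_mem hw) (hconj z' w hw)
    have hzu : Inverts z u := by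
      refine Inverts.mul hA (inv_mem hw) (hconj z' w hw) (hzw.of_mem_zpowers
        (inv_mem (Subgroup.mem_zpowers w))) ?_
      show z * (z' * w * z'⁻¹) * z⁻¹ = _
      rw [hc w hw, show z * w * z⁻¹ = w⁻¹ from hzw]; group
    by_cases hu1 : u = 1
    · exfalso
      rw [hu, inv_mul_eq_one] at hu1
      obtain ⟨w', hw', hw'1, hz'w'⟩ := hz'.exists_inverts hA
      set u' := w'⁻¹ * (z * w' * z⁻¹) with hu'
      have hz'u' : Inverts z' u' := by
        refine Inverts.mul hA (inv_mem hw') (hconj z w' hw') (hz'w'.of_mem_zpowers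
          (inv_mem (Subgroup.mem_zpowers w'))) ?_
        show z' * (z * w' * z⁻¹) * z'⁻¹ = _
        rw [← hc w' hw', show z' * w' * z'⁻¹ = w'⁻¹ from hz'w']; group
      by_cases hu'1 : u' = 1
      · rw [hu', inv_mul_eq_one] at hu'1
        have h1 : Inverts (z * z') w := by
          show z * z' * w * (z * z')⁻¹ = _
          rw [show z * z' * w * (z * z')⁻¹ = z * (z' * w * z'⁻¹) * z⁻¹ by group, ← hu1]
          exact hzw
        have h2 : Inverts (z * z') w' := by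
          show z * z' * w' * (z * z')⁻¹ = _
          rw [show z * z' * w' * (z * z')⁻¹ = z * (z' * w' * z'⁻¹) * z⁻¹ by group,
            show z' * w' * z'⁻¹ = w'⁻¹ from hz'w',
            show z * w'⁻¹ * z⁻¹ = (z * w' * z⁻¹)⁻¹ by group, ← hu'1]
        exact hw'1 (hA.eq_one_of_inverts_of_commute hw'
          (hzw.of_mem_zpowers (Inverts.mem_zpowers h hA hw hw1 h1 hw' h2)) hu'1.symm)
      · have hu'A : u' ∈ A := mul_mem (inv_mem hw') (hconj z w' hw')
        have hzw' : Inverts z w' := (hdiff z hz w' hw').of_mem_zpowers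
          (Inverts.mem_zpowers h hA hu'A hu'1 hz'u' hw' hz'w')
        exact hw'1 (hA.eq_one_of_inverts_of_commute hw' hz'w' (by
          obtain ⟨i, hi⟩ := Subgroup.mem_zpowers_iff.1 (Inverts.mem_zpowers h hA hw hw1 hzw hw' hzw')
          rw [← hi, ← conj_zpow, ← hu1]))
    · exact (hdiff z' hz' w hw).of_mem_zpowers (Inverts.mem_zpowers h hA huA hu1 hzu hw hzw)
  intro a ha
  set x := a⁻¹ * (z * a * z⁻¹) with hx
  set x' := a⁻¹ * (z' * a * z'⁻¹) with hx'
  have hxA : x ∈ A := mul_mem (inv_mem ha) (hconj z a ha)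
  have hx'A : x' ∈ A := mul_mem (inv_mem ha) (hconj z' a ha)
  have hxw := Inverts.mem_zpowers h hA hw hw1 hzw hxA (hdiff z hz a ha)
  have hx'w := Inverts.mem_zpowers h hA hw hw1 hz'w hx'A (hdiff z' hz' a ha)
  have e1 : z * (z' * a * z'⁻¹) * z⁻¹ = a * x * x'⁻¹ := by
    calc z * (z' * a * z'⁻¹) * z⁻¹ = (z * a * z⁻¹) * (z * x' * z⁻¹) := by rw [hx']; group
      _ = a * x * x'⁻¹ := by
        rw [show z * x' * z⁻¹ = x'⁻¹ from hzw.of_mem_zpowers hx'w, hx, mul_inv_cancel_left]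
  have e2 : z' * (z * a * z⁻¹) * z'⁻¹ = a * x' * x⁻¹ := by
    calc z' * (z * a * z⁻¹) * z'⁻¹ = (z' * a * z'⁻¹) * (z' * x * z'⁻¹) := by rw [hx]; group
      _ = a * x' * x⁻¹ := by
        rw [show z' * x * z'⁻¹ = x⁻¹ from hz'w.of_mem_zpowers hxw, hx', mul_inv_cancel_left]
  have e3 := hc a ha
  rw [e1, e2] at e3
  have e4 : x * x'⁻¹ = x' * x⁻¹ := mul_left_cancel (a := a) ((mul_assoc _ _ _).symm.trans (e3.trans (mul_assoc _ _ _)))
  have hm : x * x'⁻¹ ∈ A := mul_mem hxA (inv_mem hx'A)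
  have h4 : x * x'⁻¹ = 1 := by
    refine eq_one_of_mul_self ?_ ?_
    · rcases eq_or_ne (x * x'⁻¹) 1 with h1 | h1
      · rw [h1]; simp
      · rw [hA.orderOf_eq hm h1]; exact hA.prime.odd_of_ne_two hA.ne_two
    · nth_rw 2 [e4]; group
  rw [mul_inv_eq_one, hx, hx', mul_right_inj] at h4
  exact h4

variable [Finite L] [FaithfulSMul L V]

/-- No proper normal subgroup contains a real element of odd prime power order. -/
theorem Minimal.not_oddReal_of_normal (h : Minimal L V) {N : Subgroup L} (hN : N.Normal)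
    (hNt : N ≠ ⊤) {y : L} (hyN : y ∈ N) : ¬ OddReal y := by
  intro hy
  haveI : Fact (Nat.Prime 2) := ⟨Nat.prime_two⟩
  obtain ⟨q, hq, hq2, w0, hw0, hw0q, hw0O⟩ := h.exists_core hN hNt hyN hy
  haveI : Fact q.Prime := ⟨hq⟩
  haveI := Cfsg.pCore_normal q L
  let S : Set L := {w | OddReal w ∧ orderOf w = q ∧ w ∈ Cfsg.pCore q L}
  let A : Subgroup L := Subgroup.closure S
  have hw0A : w0 ∈ A := Subgroup.subset_closure ⟨hw0, hw0q, hw0O⟩
  have hAO : A ≤ Cfsg.pCore q L := (Subgroup.closure_le _).2 fun w hw => hw.2.2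
  have hcomm : ∀ a ∈ A, ∀ b ∈ A, Commute a b := by
    intro a ha b hb
    have hle : A ≤ cen b := (Subgroup.closure_le _).2 fun w hw =>
      mem_cen.2 (h.spread.commute_pCore hw.1 hq (hAO hb)).eq
    exact mem_cen.1 (hle ha)
  have hexp : ∀ a ∈ A, a ^ q = 1 := by
    intro a ha
    induction ha using Subgroup.closure_induction with
    | mem w hw => rw [← hw.2.1, pow_orderOf_eq_one]
    | one => exact one_pow q
    | mul x y hxm hym hx hy => rw [(hcomm x hxm y hym).mul_pow, hx, hy, one_mul]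
    | inv x _ hx => rw [inv_pow, hx, inv_one]
  haveI hAn : A.Normal := by
    refine ⟨fun a ha g => ?_⟩
    induction ha using Subgroup.closure_induction with
    | mem w hw =>
      exact Subgroup.subset_closure ⟨hw.1.conj g, by
        rw [show g * w * g⁻¹ = MulAut.conj g w from rfl, MulEquiv.orderOf_eq, hw.2.1],
        (inferInstance : (Cfsg.pCore q L).Normal).conj_mem w hw.2.2 g⟩
    | one => simp
    | mul x y _ _ hx hy => rw [← conj_mul]; exact mul_mem hx hy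
    | inv x _ hx => rw [← conj_inv]; exact inv_mem hx
  have hA : EltAb A q := ⟨hq, hq2, hAn, hcomm, hexp⟩
  obtain ⟨P⟩ : Nonempty (Sylow 2 L) := inferInstance
  let C : Subgroup L := Subgroup.centralizer (A : Set L)
  haveI : C.Normal := inferInstanceAs (Subgroup.centralizer (A : Set L)).Normal
  have memC : ∀ {g : L}, g ∈ C ↔ ∀ a ∈ A, Commute g a := fun {g} =>
    ⟨fun hg a ha => (Subgroup.mem_centralizer_iff.1 hg a ha).symm,
      fun hg => Subgroup.mem_centralizer_iff.2 fun a ha => (hg a ha).symm.eq⟩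
  let K : Subgroup (P : Subgroup L) := C.subgroupOf (P : Subgroup L)
  haveI : K.Normal := inferInstanceAs (C.subgroupOf (P : Subgroup L)).Normal
  obtain ⟨z, hzP, hzC, hz2, hzc⟩ : ∃ z ∈ (P : Subgroup L), z ∉ C ∧ z * z ∈ C ∧
      ∀ g ∈ (P : Subgroup L), (z * g)⁻¹ * (g * z) ∈ C := by
    haveI : Nontrivial ((P : Subgroup L) ⧸ K) := by
      obtain ⟨g, k, hk, hg⟩ := exists_two_inverter hw0.real
      obtain ⟨Q, hQ⟩ := (IsPGroup.of_card (n := k)
        (show Nat.card (Subgroup.zpowers g) = 2 ^ k by rw [Nat.card_zpowers, hk])).exists_le_sylow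
      obtain ⟨c, hc⟩ := MulAction.exists_smul_eq L Q P
      have hgP : c * g * c⁻¹ ∈ (P : Subgroup L) := by
        rw [← hc, Sylow.coe_subgroup_smul]
        exact ⟨g, hQ (Subgroup.mem_zpowers g), rfl⟩
      refine ⟨⟨QuotientGroup.mk ⟨_, hgP⟩, 1, fun he => ?_⟩⟩
      rw [QuotientGroup.eq_one_iff, Subgroup.mem_subgroupOf, memC] at he
      have hcm := (he (c * w0 * c⁻¹) (hAn.conj_mem _ hw0A c)).eq
      have hgw : g * w0 = w0 * g := by
        calc g * w0 = c⁻¹ * ((c * g * c⁻¹) * (c * w0 * c⁻¹)) * c := by group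
          _ = c⁻¹ * ((c * w0 * c⁻¹) * (c * g * c⁻¹)) * c := by rw [hcm]
          _ = w0 * g := by group
      exact hw0.ne_one (hA.eq_one_of_inverts_of_commute hw0A hg
        (by rw [hgw, mul_inv_cancel_right]))
    have hQp : IsPGroup 2 ((P : Subgroup L) ⧸ K) := P.isPGroup'.to_quotient K
    haveI := hQp.center_nontrivial
    have hdvd : 2 ∣ Nat.card (Subgroup.center ((P : Subgroup L) ⧸ K)) := by
      obtain ⟨m, hm⟩ := (hQp.to_subgroup (Subgroup.center ((P : Subgroup L) ⧸ K))).exists_card_eq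
      rw [hm]
      refine dvd_pow_self 2 fun h0 => ?_
      rw [h0, pow_zero] at hm
      exact absurd hm Finite.one_lt_card.ne'
    obtain ⟨⟨u, hu⟩, huo⟩ := exists_prime_orderOf_dvd_card' 2 hdvd
    rw [Subgroup.orderOf_mk] at huo
    obtain ⟨⟨z, hzP⟩, rfl⟩ := QuotientGroup.mk_surjective u
    refine ⟨z, hzP, fun hz => ?_, ?_, fun g hg => ?_⟩
    · rw [(QuotientGroup.eq_one_iff (⟨z, hzP⟩ : (P : Subgroup L))).2
        (Subgroup.mem_subgroupOf.2 hz), orderOf_one] at huo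
      omega
    · have h1 := pow_orderOf_eq_one (QuotientGroup.mk (⟨z, hzP⟩ : (P : Subgroup L)) :
        (P : Subgroup L) ⧸ K)
      rw [huo, ← QuotientGroup.mk_pow, QuotientGroup.eq_one_iff, Subgroup.mem_subgroupOf] at h1
      rw [← pow_two]
      exact h1
    · have h1 := (Subgroup.mem_center_iff.1 hu (QuotientGroup.mk ⟨g, hg⟩)).symm
      rw [← QuotientGroup.mk_mul, ← QuotientGroup.mk_mul, QuotientGroup.eq,
        Subgroup.mem_subgroupOf] at h1
      exact h1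
  have hinvact : ∀ g : L, g ∉ C → g * g ∈ C → InvAct A g := by
    intro g hg hg2
    refine ⟨memC.1 hg2, ?_⟩
    by_contra hne
    push Not at hne
    exact hg (memC.2 hne)
  have hz := hinvact z hzC hz2
  obtain ⟨w, hw, hw1, hzw⟩ := hz.exists_inverts hA
  have hwR : OddReal w := hA.oddReal hw hw1 hzw
  let ℓ := Subgroup.zpowers w
  have hNl : ∀ n ∈ Subgroup.normalizer ((P : Subgroup L) : Set L), n * w * n⁻¹ ∈ ℓ := by
    intro n hn
    set z' := n * z * n⁻¹ with hz'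
    have hz'P : z' ∈ (P : Subgroup L) := (Subgroup.mem_normalizer_iff.1 hn z).1 hzP
    have hz'a : InvAct A z' := by
      refine hinvact z' (fun hc => hzC ?_) ?_
      · have := (inferInstance : C.Normal).conj_mem z' hc n⁻¹
        rwa [hz', show n⁻¹ * (n * z * n⁻¹) * n⁻¹⁻¹ = z by group] at this
      · rw [hz', show n * z * n⁻¹ * (n * z * n⁻¹) = n * (z * z) * n⁻¹ by group]
        exact (inferInstance : C.Normal).conj_mem _ hz2 n
    have hsame := hz.eq_of_commute h.spread hA hz'a fun a ha => by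
      have := (memC.1 (hzc z' hz'P) a ha).eq
      calc z * (z' * a * z'⁻¹) * z⁻¹
          = z * z' * (a * ((z * z')⁻¹ * (z' * z))) * (z' * z)⁻¹ := by group
        _ = z * z' * (((z * z')⁻¹ * (z' * z)) * a) * (z' * z)⁻¹ := by rw [this]
        _ = z' * (z * a * z⁻¹) * z'⁻¹ := by group
    refine Inverts.mem_zpowers h.spread hA hw hw1 hzw (hAn.conj_mem w hw n) ?_
    show z * (n * w * n⁻¹) * z⁻¹ = _
    rw [hsame _ (hAn.conj_mem w hw n), hz',
      show n * z * n⁻¹ * (n * w * n⁻¹) * (n * z * n⁻¹)⁻¹ = n * (z * w * z⁻¹) * n⁻¹ by group,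
      show z * w * z⁻¹ = w⁻¹ from hzw]
    group
  have hall : ∀ g : L, ∃ i : ℤ, g * w * g⁻¹ = w ^ i := by
    intro g
    obtain ⟨a, ha, b, hb, rfl⟩ := h.spread.exists_mul hwR P g
    obtain ⟨i, hi⟩ := Subgroup.mem_zpowers_iff.1 (hNl b hb)
    refine ⟨i, ?_⟩
    rw [show a * b * w * (a * b)⁻¹ = a * (b * w * b⁻¹) * a⁻¹ by group, ← hi, ← conj_zpow,
      mem_cen.1 ha, mul_inv_cancel_right]
  have hcen : commutator L ≤ cen w := by
    rw [commutator_def, Subgroup.commutator_le]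
    intro g1 _ g2 _
    obtain ⟨i, hi⟩ := hall g1
    obtain ⟨j, hj⟩ := hall g2
    have e : (g1 * g2) * w * (g1 * g2)⁻¹ = (g2 * g1) * w * (g2 * g1)⁻¹ := by
      rw [show (g1 * g2) * w * (g1 * g2)⁻¹ = g1 * (g2 * w * g2⁻¹) * g1⁻¹ by group,
        show (g2 * g1) * w * (g2 * g1)⁻¹ = g2 * (g1 * w * g1⁻¹) * g2⁻¹ by group, hi, hj,
        ← conj_zpow, ← conj_zpow, hi, hj, ← zpow_mul, ← zpow_mul, mul_comm]
    rw [mem_cen, commutatorElement_def]
    have e' : w = (g2 * g1)⁻¹ * ((g1 * g2) * w * (g1 * g2)⁻¹) * (g2 * g1) := by rw [e]; group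
    have e'' : (g2 * g1)⁻¹ * (g1 * g2) * w = w * ((g2 * g1)⁻¹ * (g1 * g2)) := by
      conv_rhs => rw [e']
      group
    have hcw : Commute ((g2 * g1)⁻¹ * (g1 * g2)) w := e''
    have hconj := hcw
    obtain ⟨k, hk⟩ := hall (g2 * g1)
    have h3 : Commute ((g2 * g1) * ((g2 * g1)⁻¹ * (g1 * g2)) * (g2 * g1)⁻¹)
        ((g2 * g1) * w * (g2 * g1)⁻¹) := hcw.map (MulAut.conj (g2 * g1)).toMonoidHom
    obtain ⟨k', hk'⟩ := hall (g2 * g1)⁻¹
    have h4 : (g2 * g1) * (w ^ k') * (g2 * g1)⁻¹ = w := by rw [← hk']; group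
    have h5 := h3.zpow_right k'
    rw [conj_zpow, h4] at h5
    rw [show g1 * g2 * g1⁻¹ * g2⁻¹ =
      (g2 * g1) * ((g2 * g1)⁻¹ * (g1 * g2)) * (g2 * g1)⁻¹ by group]
    exact h5.eq
  rw [h.commutator_eq_top] at hcen
  obtain ⟨g, hg⟩ := isConj_iff.1 hwR.real
  refine hw1 (hA.eq_one_of_inverts_of_commute hw (show Inverts g w from hg) ?_)
  rw [mem_cen.1 (hcen (Subgroup.mem_top g)), mul_inv_cancel_right]

end CfsgLib.RealClassGraph11
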