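import Cfsg.Agent.RealClassGraph11.Defs
import Cfsg.Agent.Involution.BaerSuzuki
import Cfsg.Agent.Involution.Dihedral
import Cfsg.Agent.LocalP.Basic
import Cfsg.Agent.SolvableStructure.Product

/-!
Fixed spaces of Sylow 2-subgroups and involutions in a spread action.
-/

set_option autoImplicit false

namespace CfsgLib.RealClassGraph11

open CfsgLib.CoprimeLargest (idx)
open CfsgLib.TwoSizes (cen mem_cen)

universe u v

variable {L : Type u} [Group L] [Finite L]

theorem exists_sq_eq {y : L} (h : Odd (orderOf y)) : ∃ j : ℕ, (y ^ j) * (y ^ j) = y := by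
  obtain ⟨j, hj⟩ := h
  refine ⟨j + 1, ?_⟩
  rw [← pow_add, show j + 1 + (j + 1) = orderOf y + 1 by omega, pow_succ, pow_orderOf_eq_one, one_mul]

/-- An involution outside `O₂` inverts a real element of odd prime order. -/
theorem exists_inverted {t : L} (ht : orderOf t = 2) (hO : t ∉ Cfsg.pCore 2 L) :
    ∃ y : L, OddReal y ∧ t * y * t⁻¹ = y⁻¹ := by
  classical
  obtain ⟨g, hg⟩ : ∃ g, ¬ IsPGroup 2 ↥(Subgroup.closure ({t, g * t * g⁻¹} : Set L)) := by
    by_contra h
    push Not at h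
    obtain ⟨N, hN, hN2, htN⟩ := CfsgLib.Involution.baerSuzuki_mem t h
    exact hO (CfsgLib.LocalP.le_pCore hN hN2 htN)
  set u := g * t * g⁻¹ with hu
  have hu2 : orderOf u = 2 := by rw [← ht]; exact (MulAut.conj g).orderOf_eq t
  obtain ⟨q, hq, hq2, hqz⟩ : ∃ q, Nat.Prime q ∧ q ≠ 2 ∧ q ∣ orderOf (t * u) := by
    by_contra h
    push Not at h
    apply hg
    have hz := Nat.eq_prime_pow_of_unique_prime_dvd (orderOf_pos (t * u)).ne'
      (fun {d} hd hdn => by_contra fun hne => h d hd hne hdn)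
    intro w
    obtain ⟨i, hi | hi⟩ := CfsgLib.Involution.mem_closure_pair ht hu2 w.2
    · refine ⟨(orderOf (t * u)).primeFactorsList.length, Subtype.ext ?_⟩
      rw [Subgroup.coe_pow, Subgroup.coe_one, hi, ← hz, ← zpow_natCast, ← zpow_mul, mul_comm,
        zpow_mul, zpow_natCast, pow_orderOf_eq_one, one_zpow]
    · refine ⟨1, Subtype.ext ?_⟩
      rw [Subgroup.coe_pow, Subgroup.coe_one, hi, pow_one, pow_two]
      rw [← mul_assoc, mul_assoc t ((t * u) ^ i) t, CfsgLib.Involution.zpow_mul_comm ht hu2,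
        ← mul_assoc t t, CfsgLib.Involution.mul_self_of_orderOf_two ht, one_mul, ← zpow_add,
        neg_add_cancel, zpow_zero]
  have hinv : t * (t * u) * t⁻¹ = (t * u)⁻¹ := by
    rw [mul_inv_rev, CfsgLib.Involution.inv_eq_self_of_orderOf_two ht,
      CfsgLib.Involution.inv_eq_self_of_orderOf_two hu2, ← mul_assoc t t,
      CfsgLib.Involution.mul_self_of_orderOf_two ht, one_mul]
  refine ⟨(t * u) ^ (orderOf (t * u) / q), ?_, by rw [← conj_pow, hinv, inv_pow]⟩
  refine ⟨q, 0, hq, hq2, ?_, isConj_iff.2 ⟨t, by rw [← conj_pow, hinv, inv_pow]⟩⟩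
  rw [zero_add, pow_one]
  exact orderOf_pow_orderOf_div (orderOf_pos _).ne' hqz

variable {V : Type v} [AddCommGroup V] [DistribMulAction L V]

variable (V) in
/-- The vectors fixed by a subgroup. -/
def fixV (H : Subgroup L) : AddSubgroup V where
  carrier := {w | ∀ g ∈ H, g • w = w}
  zero_mem' := fun g _ => smul_zero g
  add_mem' := fun {a b} ha hb g hg => by rw [smul_add, ha g hg, hb g hg]
  neg_mem' := fun {a} ha g hg => by rw [smul_neg, ha g hg]

omit [Finite L] in
theorem mem_fixV {H : Subgroup L} {w : V} : w ∈ fixV V H ↔ ∀ g ∈ H, g • w = w := Iff.rfl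

omit [Finite L] in
theorem mem_fixV_zpowers {t : L} {w : V} : w ∈ fixV V (Subgroup.zpowers t) ↔ t • w = w := by
  refine ⟨fun h => h t (Subgroup.mem_zpowers t), fun h g hg => ?_⟩
  have : Subgroup.zpowers t ≤ MulAction.stabilizer L w := Subgroup.zpowers_le.2 h
  exact this hg

omit [Finite L] in
theorem mem_fixV_conj {H : Subgroup L} {g : L} {w : V} :
    g • w ∈ fixV V (H.map (MulAut.conj g).toMonoidHom) ↔ w ∈ fixV V H := by
  constructor
  · intro h a ha
    have := h _ ⟨a, ha, rfl⟩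
    simp only [MulEquiv.coe_toMonoidHom, MulAut.conj_apply, mul_smul, inv_smul_smul] at this
    exact MulAction.injective g this
  · rintro h _ ⟨a, ha, rfl⟩
    simp only [MulEquiv.coe_toMonoidHom, MulAut.conj_apply, mul_smul, inv_smul_smul, h a ha]

/-- A 2-element of a 2-closed subgroup lies in each of its Sylow 2-subgroups. -/
theorem TwoClosed.mem_sylow {H : Subgroup L} (h : TwoClosed H) {g : L} (hg : g ∈ H)
    (hg2 : ∃ k, orderOf g = 2 ^ k) {P : Sylow 2 L} (hP : (P : Subgroup L) ≤ H) : g ∈ P := by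
  haveI : Fact (Nat.Prime 2) := ⟨Nat.prime_two⟩
  haveI : Unique (Sylow 2 H) := Sylow.unique_of_normal _ (h (P.subtype hP))
  obtain ⟨k, hk⟩ := hg2
  have hp : IsPGroup 2 (Subgroup.zpowers (⟨g, hg⟩ : H)) :=
    IsPGroup.of_card (n := k) (by rw [Nat.card_zpowers, Subgroup.orderOf_mk, hk])
  obtain ⟨S, hS⟩ := hp.exists_le_sylow
  have hgS : (⟨g, hg⟩ : H) ∈ (S : Subgroup H) := hS (Subgroup.mem_zpowers _)
  rw [Subsingleton.elim S (P.subtype hP), Sylow.coe_subtype, Subgroup.mem_subgroupOf] at hgS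
  exact hgS

namespace Spread

theorem exists_sylow (h : Spread L V) {w : V} (hw : w ≠ 0) :
    ∃ P : Sylow 2 L, w ∈ fixV V (P : Subgroup L) ∧
      MulAction.stabilizer L w ≤ Subgroup.normalizer ((P : Subgroup L) : Set L) ∧
      ∀ Q : Sylow 2 L, w ∈ fixV V (Q : Subgroup L) → Q = P := by
  obtain ⟨P, hP, hN, huniq⟩ := (h.stab_closed w hw).exists_sylow (h.stab_odd w hw)
  exact ⟨P, fun g hg => hP hg, hN, fun Q hQ => huniq Q fun g hg => hQ g hg⟩

theorem sylow_eq (h : Spread L V) {w : V} (hw : w ≠ 0) {P Q : Sylow 2 L}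
    (hP : w ∈ fixV V (P : Subgroup L)) (hQ : w ∈ fixV V (Q : Subgroup L)) : Q = P := by
  obtain ⟨R, -, -, hR⟩ := h.exists_sylow hw
  rw [hR P hP, hR Q hQ]

theorem exists_fixed_ne (h : Spread L V) (P : Sylow 2 L) :
    ∃ w ∈ fixV V (P : Subgroup L), w ≠ 0 := by
  haveI : Fact (Nat.Prime 2) := ⟨Nat.prime_two⟩
  obtain ⟨w, hw⟩ := h.exists_ne
  obtain ⟨Q, hQ, -, -⟩ := h.exists_sylow hw
  obtain ⟨g, hg⟩ := MulAction.exists_smul_eq L Q P
  refine ⟨g • w, ?_, fun h0 => hw ((smul_eq_zero_iff_eq g).1 h0)⟩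
  rw [← hg, Sylow.coe_subgroup_smul]
  exact mem_fixV_conj.2 hQ

theorem card_sylow_dvd (h : Spread L V) {w : V} (hw : w ≠ 0) :
    Nat.card (Sylow 2 L) ∣ (MulAction.stabilizer L w).index := by
  haveI : Fact (Nat.Prime 2) := ⟨Nat.prime_two⟩
  obtain ⟨P, -, hN, -⟩ := h.exists_sylow hw
  rw [P.card_eq_index_normalizer]
  exact Subgroup.index_dvd_of_le hN

theorem coprime_sylow (h : Spread L V) {y : L} (hy : OddReal y) :
    (idx y).Coprime (Nat.card (Sylow 2 L)) := by
  obtain ⟨w, hw⟩ := h.exists_ne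
  exact (h.coprime y hy w hw).of_dvd_right (h.card_sylow_dvd hw)

/-- The centralizer of a real element is transitive on the Sylow 2-subgroups. -/
theorem exists_mul (h : Spread L V) {y : L} (hy : OddReal y) (P : Sylow 2 L) (g : L) :
    ∃ a ∈ cen y, ∃ b ∈ Subgroup.normalizer ((P : Subgroup L) : Set L), g = a * b := by
  haveI : Fact (Nat.Prime 2) := ⟨Nat.prime_two⟩
  refine CfsgLib.Product.exists_mul_of_coprime_index ?_ g
  have := h.coprime_sylow hy
  rw [P.card_eq_index_normalizer] at this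
  exact this

theorem exists_cen_smul (h : Spread L V) {y : L} (hy : OddReal y) (P Q : Sylow 2 L) :
    ∃ a ∈ cen y, a • P = Q := by
  haveI : Fact (Nat.Prime 2) := ⟨Nat.prime_two⟩
  obtain ⟨g, hg⟩ := MulAction.exists_smul_eq L P Q
  obtain ⟨a, ha, b, hb, rfl⟩ := h.exists_mul hy P g
  refine ⟨a, ha, ?_⟩
  rw [mul_smul, Sylow.smul_eq_iff_mem_normalizer.2 hb] at hg
  exact hg

/-- Real elements of odd prime power order normalise no Sylow 2-subgroup. -/
theorem not_mem_normalizer (h : Spread L V) {y : L} (hy : OddReal y) (P : Sylow 2 L) :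
    y ∉ Subgroup.normalizer ((P : Subgroup L) : Set L) := by
  haveI : Fact (Nat.Prime 2) := ⟨Nat.prime_two⟩
  intro hyP
  obtain ⟨g, k, hk, hg⟩ := exists_two_inverter hy.real
  obtain ⟨Q, hQ⟩ := (IsPGroup.of_card (n := k)
    (show Nat.card (Subgroup.zpowers g) = 2 ^ k by rw [Nat.card_zpowers, hk])).exists_le_sylow
  obtain ⟨a, ha, rfl⟩ := h.exists_cen_smul hy P Q
  have hyQ : y ∈ Subgroup.normalizer (((a • P : Sylow 2 L) : Subgroup L) : Set L) := by
    have e1 : y • P = P := Sylow.smul_eq_iff_mem_normalizer.2 hyP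
    refine Sylow.smul_eq_iff_mem_normalizer.1 ?_
    rw [← mul_smul, ← mem_cen.1 ha, mul_smul, e1]
  have hgQ : g ∈ ((a • P : Sylow 2 L) : Subgroup L) := hQ (Subgroup.mem_zpowers g)
  have hcomm : g * y * g⁻¹ * y⁻¹ ∈ ((a • P : Sylow 2 L) : Subgroup L) := by
    rw [show g * y * g⁻¹ * y⁻¹ = g * (y * g⁻¹ * y⁻¹) by group]
    exact Subgroup.mul_mem _ hgQ ((Subgroup.mem_normalizer_iff.1 hyQ _).1 (Subgroup.inv_mem _ hgQ))
  rw [hg] at hcomm
  obtain ⟨j, hj⟩ := (a • P : Sylow 2 L).isPGroup' ⟨_, hcomm⟩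
  have h1 : (y⁻¹ * y⁻¹) ^ 2 ^ j = 1 := by simpa using congrArg Subtype.val hj
  rw [← pow_two, ← pow_mul, ← pow_succ', inv_pow, inv_eq_one] at h1
  exact hy.ne_one (orderOf_eq_one_iff.1 (Nat.eq_one_of_dvd_coprimes
    ((Nat.coprime_two_right.2 hy.odd).pow_right (j + 1)) dvd_rfl (orderOf_dvd_of_pow_eq_one h1)))

theorem pCore_two_eq_bot [FaithfulSMul L V] (h : Spread L V) : Cfsg.pCore 2 L = ⊥ := by
  haveI : Fact (Nat.Prime 2) := ⟨Nat.prime_two⟩
  rw [eq_bot_iff]
  intro g hg
  refine FaithfulSMul.eq_of_smul_eq_smul (α := V) fun w => ?_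
  rw [one_smul]
  by_cases hw : w = 0
  · rw [hw, smul_zero]
  obtain ⟨P, hP, -, -⟩ := h.exists_sylow hw
  haveI := Cfsg.pCore_normal 2 L
  exact hP g ((IsPGroup.le_sylow_of_normal (CfsgLib.LocalP.isPGroup_pCore) P) hg)

theorem exists_inverted_of_faithful [FaithfulSMul L V] (h : Spread L V) {t : L}
    (ht : orderOf t = 2) : ∃ y : L, OddReal y ∧ t * y * t⁻¹ = y⁻¹ :=
  exists_inverted ht fun hO => by
    rw [h.pCore_two_eq_bot, Subgroup.mem_bot] at hO
    rw [hO, orderOf_one] at ht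
    omega

theorem exp2' (h : Spread L V) (w : V) : -w = w := neg_eq_of_add_eq_zero_left (h.exp2 w)

/-- An involution fixes exactly a subgroup of square root order, the image of `w ↦ t w + w`. -/
theorem involution_fix [Finite V] [FaithfulSMul L V] (h : Spread L V) {t : L} (ht : orderOf t = 2) :
    Nat.card (fixV V (Subgroup.zpowers t)) ^ 2 = Nat.card V ∧
      ∀ w : V, t • w = w → ∃ u : V, t • u + u = w := by
  obtain ⟨y, hy, hty⟩ := h.exists_inverted_of_faithful ht
  set F := fixV V (Subgroup.zpowers t) with hF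
  let δ : V →+ V :=
    { toFun := fun u => t • u + u
      map_zero' := by rw [smul_zero, add_zero]
      map_add' := fun a b => by rw [smul_add]; abel }
  have htt : ∀ u : V, t • t • u = u := fun u => by
    rw [← mul_smul, CfsgLib.Involution.mul_self_of_orderOf_two ht, one_smul]
  have hker : δ.ker = F := by
    ext u
    rw [hF, mem_fixV_zpowers, AddMonoidHom.mem_ker]
    show t • u + u = 0 ↔ _
    rw [add_eq_zero_iff_eq_neg, h.exp2']
  have hran : δ.range ≤ F := by
    rintro _ ⟨u, rfl⟩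
    rw [hF, mem_fixV_zpowers]
    show t • (t • u + u) = t • u + u
    rw [smul_add, htt, add_comm]
  have h1 : Nat.card V = Nat.card δ.range * Nat.card F := by
    rw [← hker, ← Nat.card_congr (QuotientAddGroup.quotientKerEquivRange δ).toEquiv]
    exact AddSubgroup.card_eq_card_quotient_mul_card_addSubgroup δ.ker
  -- the conjugate involution `s = a t a⁻¹ = y t`
  obtain ⟨j, hj⟩ := exists_sq_eq hy.odd
  set a := y ^ j with ha
  have hta : t * a = a⁻¹ * t := by
    rw [ha, ← inv_pow, ← hty, conj_pow]; group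
  have hs : a * t * a⁻¹ = y * t := by
    calc a * t * a⁻¹ = a * (t * a⁻¹) := mul_assoc _ _ _
      _ = a * (a * t) := by
        rw [show t * a⁻¹ = a * t by
          calc t * a⁻¹ = a * (a⁻¹ * t) * a⁻¹ := by group
            _ = a * (t * a) * a⁻¹ := by rw [hta]
            _ = a * t := by group]
      _ = y * t := by rw [← mul_assoc, hj]
  have hinj : Function.Injective (fun p : F × F => (p.1 : V) + a • (p.2 : V)) := by
    intro p q hpq
    simp only at hpq
    have hd : (p.1 : V) - q.1 = a • ((q.2 : V) - p.2) := by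
      rw [smul_sub, sub_eq_sub_iff_add_eq_add, hpq]; abel
    set d := (p.1 : V) - q.1
    have htd : t • d = d := mem_fixV_zpowers.1 (F.sub_mem p.1.2 q.1.2)
    have hsd : (a * t * a⁻¹) • d = d := by
      rw [hd, mul_smul, mul_smul, inv_smul_smul, mem_fixV_zpowers.1 (F.sub_mem q.2.2 p.2.2)]
    rw [hs, mul_smul, htd] at hsd
    have hd0 : d = 0 := h.fpf y hy d hsd
    have e1 : (p.1 : V) = q.1 := sub_eq_zero.1 hd0
    rw [hd0, eq_comm, smul_eq_zero_iff_eq, sub_eq_zero] at hd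
    exact Prod.ext (Subtype.ext e1) (Subtype.ext hd.symm)
  have h2 : Nat.card F * Nat.card F ≤ Nat.card V := by
    rw [← Nat.card_prod]; exact Nat.card_le_card_of_injective _ hinj
  have h3 : Nat.card δ.range ≤ Nat.card F := AddSubgroup.card_le_of_le hran
  have h4 : Nat.card δ.range = Nat.card F := by
    refine le_antisymm h3 ?_
    have : Nat.card F * Nat.card F ≤ Nat.card δ.range * Nat.card F := h1 ▸ h2
    exact Nat.le_of_mul_le_mul_right this Nat.card_pos
  refine ⟨by rw [pow_two, h1, h4], fun w hw => ?_⟩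
  have he : δ.range = F := AddSubgroup.eq_of_le_of_card_ge hran h4.ge
  obtain ⟨u, hu⟩ := he.ge (mem_fixV_zpowers.2 hw)
  exact ⟨u, hu⟩

theorem card_fixV_sylow (P Q : Sylow 2 L) :
    Nat.card (fixV V (P : Subgroup L)) = Nat.card (fixV V (Q : Subgroup L)) := by
  haveI : Fact (Nat.Prime 2) := ⟨Nat.prime_two⟩
  obtain ⟨g, hg⟩ := MulAction.exists_smul_eq L P Q
  refine Nat.card_congr ((MulAction.toPerm g).subtypeEquiv fun w => ?_)
  show w ∈ fixV V (P : Subgroup L) ↔ g • w ∈ fixV V (Q : Subgroup L)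
  rw [← hg, Sylow.coe_subgroup_smul]
  exact mem_fixV_conj.symm

theorem card_ne_zero_subtype [Finite V] (A : AddSubgroup V) :
    Nat.card {w : V // w ∈ A ∧ w ≠ 0} + 1 = Nat.card A := by
  classical
  haveI := Fintype.ofFinite V
  rw [Nat.card_eq_fintype_card, Nat.card_eq_fintype_card, Fintype.card_subtype, Fintype.card_subtype]
  have : (Finset.univ.filter fun w : V => w ∈ A) =
      insert 0 (Finset.univ.filter fun w : V => w ∈ A ∧ w ≠ 0) := by
    ext w
    simp only [Finset.mem_filter, Finset.mem_univ, true_and, Finset.mem_insert]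
    by_cases hw : w = 0
    · simp [hw, A.zero_mem]
    · simp [hw]
  rw [this, Finset.card_insert_of_notMem (by simp)]

/-- The fixed spaces of the Sylow 2-subgroups partition the nonzero vectors. -/
theorem card_partition [Finite V] (h : Spread L V) (P : Sylow 2 L) (A : AddSubgroup V)
    (s : Set (Sylow 2 L)) (hs : ∀ Q : Sylow 2 L, Q ∈ s → fixV V (Q : Subgroup L) ≤ A)
    (hs' : ∀ w ∈ A, w ≠ 0 → ∀ Q : Sylow 2 L, w ∈ fixV V (Q : Subgroup L) → Q ∈ s) :
    Nat.card A - 1 = Nat.card s * (Nat.card (fixV V (P : Subgroup L)) - 1) := by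
  classical
  let e : {w : V // w ∈ A ∧ w ≠ 0} ≃ (Σ Q : s, {w : V // w ∈ fixV V ((Q : Sylow 2 L) : Subgroup L) ∧ w ≠ 0}) :=
    { toFun := fun w => ⟨⟨(h.exists_sylow w.2.2).choose,
          hs' w w.2.1 w.2.2 _ (h.exists_sylow w.2.2).choose_spec.1⟩,
        ⟨w, (h.exists_sylow w.2.2).choose_spec.1, w.2.2⟩⟩
      invFun := fun x => ⟨x.2.1, hs _ x.1.2 x.2.2.1, x.2.2.2⟩
      left_inv := fun w => rfl
      right_inv := by
        rintro ⟨⟨Q, hQ⟩, ⟨w, hwQ, hw⟩⟩
        have hR := (h.exists_sylow hw).choose_spec.2.2 Q hwQ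
        refine Sigma.subtype_ext (Subtype.ext hR.symm) rfl }
  haveI : Fintype s := Fintype.ofFinite _
  have hc : ∀ Q : s, Nat.card {w : V // w ∈ fixV V ((Q : Sylow 2 L) : Subgroup L) ∧ w ≠ 0} =
      Nat.card (fixV V (P : Subgroup L)) - 1 := fun Q => by
    have := card_ne_zero_subtype (fixV V ((Q : Sylow 2 L) : Subgroup L))
    rw [card_fixV_sylow (Q : Sylow 2 L) P] at this
    omega
  have h1 := card_ne_zero_subtype A
  rw [Nat.card_congr e, Nat.card_sigma, Finset.sum_congr rfl (fun Q _ => hc Q), Finset.sum_const,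
    smul_eq_mul, Finset.card_univ, ← Nat.card_eq_fintype_card] at h1
  omega

end Spread

end CfsgLib.RealClassGraph11
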