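import Mathlib
import Cfsg.Agent.S3861
import Cfsg.Agent.S0205
import Cfsg.Agent.ClassSizes.CoprimeProduct
import Cfsg.Agent.ClassSizes.NotDvdIndex
import Cfsg.Agent.Involutions.RealElements
import Cfsg.Agent.OddCons.ClassLemmas
import Cfsg.Agent.Coprime.Glauberman

/-!
Real elements of odd prime power order: existence, lifting from quotients, 2-closed subgroups.
-/

set_option autoImplicit false

namespace CfsgLib.RealClassGraph11

open CfsgLib.CoprimeLargest (idx)
open CfsgLib.TwoSizes (cen mem_cen)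

universe u

variable {G : Type u} [Group G]

/-- A nontrivial real element of odd prime power order. -/
def OddReal (x : G) : Prop :=
  ∃ q k : ℕ, q.Prime ∧ q ≠ 2 ∧ orderOf x = q ^ (k + 1) ∧ IsConj x x⁻¹

/-- A subgroup with a normal Sylow 2-subgroup. -/
def TwoClosed (H : Subgroup G) : Prop := ∀ S : Sylow 2 H, (S : Subgroup H).Normal

theorem OddReal.real {x : G} (h : OddReal x) : IsConj x x⁻¹ := by
  obtain ⟨_, _, _, _, _, h⟩ := h; exact h

theorem OddReal.odd {x : G} (h : OddReal x) : Odd (orderOf x) := by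
  obtain ⟨q, k, hq, hq2, hx, -⟩ := h
  rw [hx]; exact (hq.odd_of_ne_two hq2).pow

theorem OddReal.ne_one {x : G} (h : OddReal x) : x ≠ 1 := by
  obtain ⟨q, k, hq, -, hx, -⟩ := h
  rintro rfl
  rw [orderOf_one] at hx
  exact (Nat.one_lt_pow (Nat.succ_ne_zero k) hq.one_lt).ne hx

theorem OddReal.sq_ne_one {x : G} (h : OddReal x) : x ^ 2 ≠ 1 := fun h2 =>
  h.ne_one (orderOf_eq_one_iff.1 (Nat.eq_one_of_dvd_coprimes
    (Nat.coprime_two_right.2 h.odd) dvd_rfl (orderOf_dvd_of_pow_eq_one h2)))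

theorem eq_one_of_mul_self {x : G} (hodd : Odd (orderOf x)) (h : x * x = 1) : x = 1 :=
  orderOf_eq_one_iff.1 (Nat.eq_one_of_dvd_coprimes
    (Nat.coprime_two_right.2 hodd) dvd_rfl (orderOf_dvd_of_pow_eq_one (by rwa [pow_two])))

/-- Odd powers of an inverting element invert. -/
theorem inverts_pow_odd {g x : G} (h : g * x * g⁻¹ = x⁻¹) (j : ℕ) :
    g ^ (2 * j + 1) * x * (g ^ (2 * j + 1))⁻¹ = x⁻¹ := by
  induction j with
  | zero => simpa using h
  | succ j ih =>
    rw [show 2 * (j + 1) + 1 = 2 + (2 * j + 1) by omega, pow_add]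
    calc g ^ 2 * g ^ (2 * j + 1) * x * (g ^ 2 * g ^ (2 * j + 1))⁻¹
        = g ^ 2 * (g ^ (2 * j + 1) * x * (g ^ (2 * j + 1))⁻¹) * (g ^ 2)⁻¹ := by group
      _ = (g * (g * x * g⁻¹) * g⁻¹)⁻¹ := by rw [ih]; group
      _ = (g * x⁻¹ * g⁻¹)⁻¹ := by rw [h]
      _ = x⁻¹ := by
        rw [show g * x⁻¹ * g⁻¹ = (g * x * g⁻¹)⁻¹ by group, h, inv_inv]

variable [Finite G]

/-- A real element is inverted by a 2-element. -/
theorem exists_two_inverter {x : G} (h : IsConj x x⁻¹) :
    ∃ (g : G) (k : ℕ), orderOf g = 2 ^ k ∧ g * x * g⁻¹ = x⁻¹ := by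
  obtain ⟨g, hg⟩ := isConj_iff.1 h
  obtain ⟨k, m, hm, hgm⟩ := Nat.exists_eq_two_pow_mul_odd (orderOf_pos g).ne'
  obtain ⟨j, rfl⟩ := hm
  refine ⟨g ^ (2 * j + 1), k, ?_, inverts_pow_odd hg j⟩
  rw [orderOf_pow' g (by omega), hgm, Nat.gcd_eq_right (dvd_mul_left _ _), Nat.mul_div_cancel]
  omega

theorem idx_pow_dvd (x : G) (n : ℕ) : idx (x ^ n) ∣ idx x :=
  Subgroup.index_dvd_of_le fun _ hg => mem_cen.2 ((show Commute _ x from mem_cen.1 hg).pow_right n).eq

theorem idx_inv (x : G) : idx x⁻¹ = idx x := by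
  have : cen x⁻¹ = cen x := by
    ext g
    rw [mem_cen, mem_cen]
    exact Commute.inv_right_iff (a := g) (b := x)
  exact congrArg Subgroup.index this

theorem exists_sylow_centralizing {x : G} {p : ℕ} [Fact p.Prime] (h : ¬ p ∣ idx x) :
    ∃ S : Sylow p G, (S : Subgroup G) ≤ cen x :=
  CfsgLib.ClassSizes.exists_sylow_le_of_not_dvd_index _ h

/-- A real element of odd class size squares to one. -/
theorem sq_eq_one_of_odd_idx {x : G} (hr : IsConj x x⁻¹) (h : ¬ 2 ∣ idx x) : x ^ 2 = 1 := by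
  haveI : Fact (Nat.Prime 2) := ⟨Nat.prime_two⟩
  obtain ⟨S, hS⟩ := exists_sylow_centralizing h
  refine CfsgLib.Involutions.sq_eq_one_of_real_of_centralizes_sylow_two S ?_ hr
  exact Subgroup.mem_centralizer_iff.2 fun g hg => mem_cen.1 (hS hg)

theorem OddReal.two_dvd_idx {x : G} (h : OddReal x) : 2 ∣ idx x :=
  by_contra fun h2 => h.sq_ne_one (sq_eq_one_of_odd_idx h.real h2)

/-- Without normal Sylow 2-subgroup there is a real element of odd prime order. -/
theorem exists_oddReal (S : Sylow 2 G) (hS : ¬ (S : Subgroup G).Normal) : ∃ x : G, OddReal x := by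
  obtain ⟨q, x, hq, hq2, hx, hr⟩ := Cfsg.Agent.S3861.exists_real_odd_of_not_normal S hS
  exact ⟨x, q, 0, hq, hq2, by simpa using hx, hr⟩

theorem OddReal.of_subgroup {H : Subgroup G} {x : H} (h : OddReal x) : OddReal (x : G) := by
  obtain ⟨q, k, hq, hq2, hx, hr⟩ := h
  refine ⟨q, k, hq, hq2, by rw [Subgroup.orderOf_coe, hx], ?_⟩
  obtain ⟨g, hg⟩ := isConj_iff.1 hr
  exact isConj_iff.2 ⟨g, by simpa using congrArg Subtype.val hg⟩

theorem twoClosed_of_forall_not_oddReal {H : Subgroup G} (h : ∀ x ∈ H, ¬ OddReal x) : TwoClosed H :=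
  fun S => by_contra fun hS => by
    obtain ⟨x, hx⟩ := exists_oddReal S hS
    exact h x x.2 hx.of_subgroup

/-- A group with a normal Sylow 2-subgroup is solvable. -/
theorem isSolvable_of_normal_sylow (S : Sylow 2 G) (hS : (S : Subgroup G).Normal) :
    Group.IsSolvable G := by
  haveI : Fact (Nat.Prime 2) := ⟨Nat.prime_two⟩
  haveI := hS
  haveI : Group.IsNilpotent (S : Subgroup G) := S.isPGroup'.isNilpotent
  have hodd : Odd (Nat.card (G ⧸ (S : Subgroup G))) := by
    rw [← Subgroup.index_eq_card, ← Nat.not_even_iff_odd, even_iff_two_dvd]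
    exact S.not_dvd_index
  exact solvable_of_ker_le_range (S : Subgroup G).subtype (QuotientGroup.mk' (S : Subgroup G))
    (by simp) (hG' := inferInstance) (hG'' := Cfsg.Agent.S0205.result hodd)

theorem TwoClosed.isSolvable {H : Subgroup G} (h : TwoClosed H) : Group.IsSolvable H :=
  isSolvable_of_normal_sylow (default : Sylow 2 H) (h _)

/-- A 2-closed subgroup of odd index contains just one Sylow 2-subgroup of the group and normalises
it. -/
theorem TwoClosed.exists_sylow {H : Subgroup G} (h : TwoClosed H) (hi : ¬ 2 ∣ H.index) :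
    ∃ P : Sylow 2 G, (P : Subgroup G) ≤ H ∧ H ≤ Subgroup.normalizer ((P : Subgroup G) : Set G) ∧
      ∀ Q : Sylow 2 G, (Q : Subgroup G) ≤ H → Q = P := by
  haveI : Fact (Nat.Prime 2) := ⟨Nat.prime_two⟩
  obtain ⟨P, hP⟩ := CfsgLib.ClassSizes.exists_sylow_le_of_not_dvd_index H hi
  haveI := h (P.subtype hP)
  haveI : Unique (Sylow 2 H) := Sylow.unique_of_normal _ (h (P.subtype hP))
  refine ⟨P, hP, fun g hg => ?_, fun Q hQ => Sylow.subtype_injective (Subsingleton.elim (Q.subtype hQ) (P.subtype hP))⟩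
  have hn : ((P : Subgroup G).subgroupOf H).Normal := by
    have := h (P.subtype hP)
    rwa [Sylow.coe_subtype] at this
  exact (Subgroup.normal_subgroupOf_iff_le_normalizer hP).1 hn hg

/-- Real elements of odd prime power order lift from quotients, up to the cyclic subgroup they
generate. -/
theorem exists_lift (N : Subgroup G) [N.Normal] {v : G ⧸ N} (hv : OddReal v) :
    ∃ w : G, OddReal w ∧ Subgroup.zpowers (QuotientGroup.mk' N w) = Subgroup.zpowers v := by
  obtain ⟨q, k, hq, hq2, hvq, hr⟩ := hv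
  haveI : Fact q.Prime := ⟨hq⟩
  haveI : Fact (Nat.Prime 2) := ⟨Nat.prime_two⟩
  let π := QuotientGroup.mk' N
  obtain ⟨gb, hgb⟩ := isConj_iff.1 hr
  obtain ⟨g0, hg0⟩ := QuotientGroup.mk'_surjective N gb
  let H : Subgroup G := (Subgroup.zpowers v).comap π
  obtain ⟨Q⟩ := (inferInstance : Nonempty (Sylow q H))
  let R : Subgroup G := (Q : Subgroup H).map H.subtype
  have hRH : R ≤ H := Subgroup.map_subtype_le _
  -- the image of `R` is all of `⟨v⟩`
  have hsurj : ∃ r ∈ R, π r = v := by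
    obtain ⟨x, hx⟩ := QuotientGroup.mk'_surjective N v
    have hxH : x ∈ H := by
      rw [Subgroup.mem_comap, show π x = v from hx]; exact Subgroup.mem_zpowers v
    let φ : H →* Subgroup.zpowers v := (π.comp H.subtype).codRestrict _ fun h => h.2
    have hφ : Function.Surjective φ := by
      rintro ⟨w, hw⟩
      obtain ⟨i, rfl⟩ := Subgroup.mem_zpowers_iff.1 hw
      exact ⟨⟨x ^ i, H.zpow_mem hxH i⟩, Subtype.ext (by
        show π (x ^ i) = v ^ i
        rw [map_zpow, show π x = v from hx])⟩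
    have htop : ((Q.mapSurjective hφ : Sylow q (Subgroup.zpowers v)) :
        Subgroup (Subgroup.zpowers v)) = ⊤ := by
      apply Subgroup.eq_top_of_card_eq
      rw [Sylow.card_eq_multiplicity, Nat.card_zpowers, hvq, hq.factorization_pow,
        Finsupp.single_eq_same]
    have hmem : (⟨v, Subgroup.mem_zpowers v⟩ : Subgroup.zpowers v) ∈
        ((Q.mapSurjective hφ : Sylow q (Subgroup.zpowers v)) : Subgroup (Subgroup.zpowers v)) :=
      htop ▸ Subgroup.mem_top _
    rw [Sylow.coe_mapSurjective] at hmem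
    obtain ⟨r, hrQ, hrv⟩ := hmem
    exact ⟨(r : G), ⟨r, hrQ, rfl⟩, congrArg Subtype.val hrv⟩
  -- an inverting 2-element normalising `R`
  have hg0H : g0 ∈ Subgroup.normalizer (H : Set G) := by
    rw [Subgroup.mem_normalizer_iff]
    intro a
    simp only [H, Subgroup.mem_comap, map_mul, map_inv]
    rw [show π g0 = gb from hg0]
    have hconj : ∀ i : ℤ, gb * v ^ i * gb⁻¹ = v ^ (-i) := fun i => by
      rw [← conj_zpow, hgb, inv_zpow, zpow_neg]
    constructor
    · intro ha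
      obtain ⟨i, hi⟩ := Subgroup.mem_zpowers_iff.1 ha
      rw [← hi, hconj]; exact Subgroup.zpow_mem_zpowers _ _
    · intro ha
      obtain ⟨i, hi⟩ := Subgroup.mem_zpowers_iff.1 ha
      refine Subgroup.mem_zpowers_iff.2 ⟨-i, ?_⟩
      have := hconj (-i)
      rw [neg_neg, hi] at this
      exact mul_left_cancel (mul_right_cancel this)
  obtain ⟨g1, hg1v, hg1R, k1, hg1o⟩ : ∃ g1 : G, π g1 * v * (π g1)⁻¹ = v⁻¹ ∧
      g1 ∈ Subgroup.normalizer (R : Set G) ∧ ∃ k1, orderOf g1 = 2 ^ k1 := by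
    let H' : Subgroup G := H ⊔ Subgroup.zpowers g0
    have hH' : H' ≤ Subgroup.normalizer (H : Set G) :=
      sup_le Subgroup.le_normalizer (Subgroup.zpowers_le.2 hg0H)
    haveI : (H.subgroupOf H').Normal :=
      (Subgroup.normal_subgroupOf_iff_le_normalizer le_sup_left).2 hH'
    let e : H.subgroupOf H' ≃* H := Subgroup.subgroupOfEquivOfLe le_sup_left
    let Q' : Sylow q (H.subgroupOf H') := Q.comapOfInjective e.toMonoidHom e.injective
      (by rw [MonoidHom.range_eq_top.2 (show Function.Surjective e.toMonoidHom from e.surjective)]; exact le_top)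
    have htop := Sylow.normalizer_sup_eq_top Q'
    let g0' : H' := ⟨g0, (le_sup_right : Subgroup.zpowers g0 ≤ H') (Subgroup.mem_zpowers g0)⟩
    have hmem : g0' ∈ Subgroup.normalizer (((Q' : Subgroup (H.subgroupOf H')).map
        (H.subgroupOf H').subtype : Subgroup H') : Set H') ⊔ H.subgroupOf H' :=
      htop ▸ Subgroup.mem_top _
    obtain ⟨a, ha, b, hb, hab⟩ := Subgroup.mem_sup_of_normal_right.1 hmem
    have haR : (a : G) ∈ Subgroup.normalizer (R : Set G) := by
      have hQR : ((Q' : Subgroup (H.subgroupOf H')).map (H.subgroupOf H').subtype).map H'.subtype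
          = R := by
        ext z
        simp only [Subgroup.mem_map, Subgroup.coe_subtype, R]
        constructor
        · rintro ⟨_, ⟨c, hc, rfl⟩, rfl⟩
          exact ⟨e c, hc, rfl⟩
        · rintro ⟨c, hc, rfl⟩
          refine ⟨(e.symm c : H'), ⟨e.symm c, ?_, rfl⟩, ?_⟩
          · show e.toMonoidHom (e.symm c) ∈ (Q : Subgroup H)
            simpa using hc
          · simp [e]
      rw [← hQR]
      exact Subgroup.le_normalizer_map H'.subtype ⟨a, ha, rfl⟩
    have hbH : (b : G) ∈ H := Subgroup.mem_subgroupOf.1 hb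
    have habG : (a : G) * (b : G) = g0 := congrArg Subtype.val hab
    have hav : π (a : G) * v * (π (a : G))⁻¹ = v⁻¹ := by
      obtain ⟨i, hi⟩ := Subgroup.mem_zpowers_iff.1 (show π (b : G) ∈ Subgroup.zpowers v from hbH)
      have e1 : π (a : G) = gb * (v ^ i)⁻¹ := by
        rw [eq_mul_inv_iff_mul_eq, hi, ← map_mul, habG]; exact hg0
      rw [e1]
      calc gb * (v ^ i)⁻¹ * v * (gb * (v ^ i)⁻¹)⁻¹
          = gb * ((v ^ i)⁻¹ * v * v ^ i) * gb⁻¹ := by group
        _ = gb * v * gb⁻¹ := by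
          rw [((Commute.zpow_self v i).inv_left).eq, inv_mul_cancel_right]
        _ = v⁻¹ := hgb
    obtain ⟨k1, m, hm, ham⟩ := Nat.exists_eq_two_pow_mul_odd (orderOf_pos (a : G)).ne'
    obtain ⟨j, rfl⟩ := hm
    refine ⟨(a : G) ^ (2 * j + 1), ?_, pow_mem haR _, k1, ?_⟩
    · rw [map_pow]; exact inverts_pow_odd hav j
    · rw [orderOf_pow' _ (by omega), ham, Nat.gcd_eq_right (dvd_mul_left _ _), Nat.mul_div_cancel]
      omega
  obtain ⟨r, hrR, hrv⟩ := hsurj
  let A : Subgroup G := Subgroup.zpowers (g1 ^ 2)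
  let T : Subgroup G := R ⊓ N
  have hA : IsPGroup 2 A := by
    have h1 : IsPGroup 2 (Subgroup.zpowers g1) :=
      IsPGroup.of_card (n := k1) (by rw [Nat.card_zpowers, hg1o])
    exact h1.to_le (Subgroup.zpowers_le.2 (pow_mem (Subgroup.mem_zpowers g1) 2))
  have hRq : IsPGroup q R := Q.isPGroup'.map _
  have hT : ¬ 2 ∣ Nat.card T := by
    obtain ⟨j, hj⟩ := (hRq.to_le (inf_le_left : T ≤ R)).exists_card_eq
    rw [hj]
    intro h2
    exact hq2 ((Nat.prime_dvd_prime_iff_eq Nat.prime_two hq).1 (Nat.prime_two.dvd_of_dvd_pow h2)).symm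
  have hAR : A ≤ Subgroup.normalizer (R : Set G) := Subgroup.zpowers_le.2 (pow_mem hg1R 2)
  have hAT : A ≤ Subgroup.normalizer (T : Set G) := fun a ha => Subgroup.mem_normalizer_iff.2 fun z => by
    simp only [T, Subgroup.mem_inf]
    rw [← Subgroup.mem_normalizer_iff.1 (hAR ha) z]
    refine and_congr_right fun _ => ⟨fun hz => Subgroup.Normal.conj_mem inferInstance z hz a, fun hz => ?_⟩
    have := Subgroup.Normal.conj_mem (inferInstance : N.Normal) _ hz a⁻¹
    simpa [mul_assoc] using this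
  have hfix2 : π (g1 ^ 2) * v * (π (g1 ^ 2))⁻¹ = v := by
    rw [map_pow, pow_two]
    calc π g1 * π g1 * v * (π g1 * π g1)⁻¹ = π g1 * (π g1 * v * (π g1)⁻¹) * (π g1)⁻¹ := by group
      _ = π g1 * v⁻¹ * (π g1)⁻¹ := by rw [hg1v]
      _ = v := by
        rw [show π g1 * v⁻¹ * (π g1)⁻¹ = (π g1 * v * (π g1)⁻¹)⁻¹ by group, hg1v, inv_inv]
  have hcoset : ∀ a ∈ A, r⁻¹ * (a * r * a⁻¹) ∈ T := by
    intro a ha
    obtain ⟨i, rfl⟩ := Subgroup.mem_zpowers_iff.1 ha
    refine Subgroup.mem_inf.2 ⟨R.mul_mem (R.inv_mem hrR)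
      ((Subgroup.mem_normalizer_iff.1 (hAR (Subgroup.zpow_mem_zpowers _ i)) r).1 hrR), ?_⟩
    rw [← QuotientGroup.eq_one_iff, ← QuotientGroup.mk'_apply]
    show π (r⁻¹ * ((g1 ^ 2) ^ i * r * ((g1 ^ 2) ^ i)⁻¹)) = 1
    rw [map_mul, map_inv, map_mul, map_mul, map_inv, map_zpow, hrv,
      ((show Commute (π (g1 ^ 2)) v from mul_inv_eq_iff_eq_mul.1 hfix2).zpow_left i).eq,
      mul_inv_cancel_right, inv_mul_cancel]
  obtain ⟨h, hhT, hfix⟩ := CfsgLib.Coprime.exists_fixed_coset_of_isPGroup hA hT hAT hcoset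
  set r1 := r * h with hr1
  have hr1R : r1 ∈ R := R.mul_mem hrR hhT.1
  have hr1v : π r1 = v := by
    rw [hr1, map_mul, hrv, show π h = 1 from (QuotientGroup.eq_one_iff h).2 hhT.2, mul_one]
  let w := r1⁻¹ * (g1 * r1 * g1⁻¹)
  have hwR : w ∈ R := R.mul_mem (R.inv_mem hr1R) ((Subgroup.mem_normalizer_iff.1 hg1R r1).1 hr1R)
  have hwinv : g1 * w * g1⁻¹ = w⁻¹ := by
    have h2 : g1 ^ 2 * r1 = r1 * g1 ^ 2 :=
      Subgroup.mem_centralizer_iff.1 hfix _ (Subgroup.mem_zpowers _)
    calc g1 * w * g1⁻¹ = (g1 * r1 * g1⁻¹)⁻¹ * (g1 ^ 2 * r1 * (g1 ^ 2)⁻¹) := by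
          simp only [w]; group
      _ = (g1 * r1 * g1⁻¹)⁻¹ * r1 := by rw [h2, mul_inv_cancel_right]
      _ = w⁻¹ := by simp only [w]; group
  have hwv : π w = (v ^ 2)⁻¹ := by
    simp only [w, map_mul, map_inv]
    rw [hr1v, hg1v, pow_two, mul_inv_rev]
  obtain ⟨j, hj⟩ := hRq ⟨w, hwR⟩
  obtain ⟨i, -, hi⟩ := (Nat.dvd_prime_pow hq).1
    (orderOf_dvd_of_pow_eq_one (show w ^ q ^ j = 1 by simpa using congrArg Subtype.val hj))
  have hvodd : Odd (orderOf v) := by rw [hvq]; exact (hq.odd_of_ne_two hq2).pow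
  have hi0 : i ≠ 0 := by
    rintro rfl
    rw [pow_zero, orderOf_eq_one_iff] at hi
    rw [hi, map_one, eq_comm, inv_eq_one, pow_two] at hwv
    have := eq_one_of_mul_self hvodd hwv
    rw [this, orderOf_one] at hvq
    exact (Nat.one_lt_pow (Nat.succ_ne_zero k) hq.one_lt).ne hvq
  refine ⟨w, ⟨q, i - 1, hq, hq2, by rw [hi, Nat.sub_add_cancel (Nat.pos_of_ne_zero hi0)],
    isConj_iff.2 ⟨g1, hwinv⟩⟩, ?_⟩
  show Subgroup.zpowers (π w) = _
  rw [hwv, Subgroup.zpowers_inv]
  refine le_antisymm (Subgroup.zpowers_le.2 (pow_mem (Subgroup.mem_zpowers v) 2))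
    (Subgroup.zpowers_le.2 ?_)
  obtain ⟨t, ht⟩ := hvodd
  refine Subgroup.mem_zpowers_iff.2 ⟨((t + 1 : ℕ) : ℤ), ?_⟩
  rw [zpow_natCast, ← pow_mul, show 2 * (t + 1) = orderOf v + 1 by omega, pow_succ,
    pow_orderOf_eq_one, one_mul]

/-- The class size of the image divides that of the lift. -/
theorem exists_lift_idx (N : Subgroup G) [N.Normal] {v : G ⧸ N} (hv : OddReal v) :
    ∃ w : G, OddReal w ∧ Subgroup.zpowers (QuotientGroup.mk' N w) = Subgroup.zpowers v ∧
      idx v ∣ idx w := by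
  obtain ⟨w, hw, hz⟩ := exists_lift N hv
  refine ⟨w, hw, hz, ?_⟩
  have hc : cen (QuotientGroup.mk' N w) = cen v := by
    have e : ∀ a b : G ⧸ N, Subgroup.zpowers a = Subgroup.zpowers b → cen a ≤ cen b := by
      intro a b hab g hg
      obtain ⟨i, hi⟩ := Subgroup.mem_zpowers_iff.1 (hab ▸ Subgroup.mem_zpowers b)
      rw [mem_cen, ← hi]
      exact ((show Commute g a from mem_cen.1 hg).zpow_right i).eq
    exact le_antisymm (e _ _ hz) (e _ _ hz.symm)
  rw [show idx v = (cen (QuotientGroup.mk' N w)).index by rw [hc]]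
  exact CfsgLib.OddCons.ClassLemmas.index_centralizer_quotient_dvd N w

/-- If every real element of odd prime power order lies in a normal subgroup, the quotient by it has a
normal Sylow 2-subgroup. -/
theorem normal_sylow_quotient (N : Subgroup G) [N.Normal] (h : ∀ x : G, OddReal x → x ∈ N)
    (S : Sylow 2 (G ⧸ N)) : (S : Subgroup (G ⧸ N)).Normal := by
  by_contra hS
  obtain ⟨v, hv⟩ := exists_oddReal S hS
  obtain ⟨w, hw, hz⟩ := exists_lift N hv
  rw [QuotientGroup.mk'_apply, (QuotientGroup.eq_one_iff w).2 (h w hw)] at hz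
  have : v ∈ Subgroup.zpowers (1 : G ⧸ N) := hz ▸ Subgroup.mem_zpowers v
  rw [Subgroup.zpowers_one_eq_bot, Subgroup.mem_bot] at this
  exact hv.ne_one this

/-- The index of a centralizer inside a normal subgroup divides the index. -/
theorem relIndex_dvd_index (C D : Subgroup G) [D.Normal] : C.relIndex D ∣ C.index := by
  rw [← CfsgLib.CoprimeHall.relIndex_sup_eq_left
    (le_of_le_of_eq le_top (Subgroup.normalizer_eq_top D).symm)]
  exact Subgroup.relIndex_dvd_index_of_le le_sup_left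

end CfsgLib.RealClassGraph11
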