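import Cfsg.Agent.RealClassGraph11.Inherit
import Cfsg.Agent.Constrained.Fitting

/-!
Real elements centralise the Fitting subgroup of a spread action.
-/

set_option autoImplicit false

namespace CfsgLib.RealClassGraph11

open CfsgLib.CoprimeLargest (idx)
open CfsgLib.TwoSizes (cen mem_cen)

universe u v

variable {L : Type u} [Group L] [Finite L] {V : Type v} [AddCommGroup V] [DistribMulAction L V]
  [FaithfulSMul L V]

omit [FaithfulSMul L V] in
/-- With trivial `O₂` and class sizes of real elements prime to the number of Sylow 2-subgroups, real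
elements centralise all cores, and the primes of the non-trivially centralised ones divide that
number. -/
theorem commute_pCore_of (hO : Cfsg.pCore 2 L = ⊥)
    (hcop : ∀ y : L, OddReal y → (idx y).Coprime (Nat.card (Sylow 2 L))) {y : L} (hy : OddReal y)
    {s : ℕ} (hs : s.Prime) {z : L} (hz : z ∈ Cfsg.pCore s L) :
    Commute y z ∧ (¬ s ∣ Nat.card (Sylow 2 L) → ∀ g : L, (∃ k, orderOf g = 2 ^ k) → Commute g z) := by
  haveI : Fact (Nat.Prime 2) := ⟨Nat.prime_two⟩
  haveI : Fact s.Prime := ⟨hs⟩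
  haveI := Cfsg.pCore_normal s L
  by_cases hs2 : s = 2
  · subst hs2
    rw [hO, Subgroup.mem_bot] at hz
    rw [hz]; exact ⟨Commute.one_right y, fun _ g _ => Commute.one_right g⟩
  by_cases hd : s ∣ Nat.card (Sylow 2 L)
  · obtain ⟨S, hS⟩ := exists_sylow_centralizing (x := y) (p := s) fun hi =>
      hs.ne_one (Nat.eq_one_of_dvd_coprimes (hcop y hy) hi hd)
    exact ⟨(show Commute z y from
      mem_cen.1 (hS (IsPGroup.le_sylow_of_normal CfsgLib.LocalP.isPGroup_pCore S hz))).symm,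
      fun hnd => absurd hd hnd⟩
  have h2 : ∀ g : L, (∃ k, orderOf g = 2 ^ k) → Commute g z := by
    rintro g ⟨k, hk⟩
    obtain ⟨P, hP⟩ := (IsPGroup.of_card (n := k)
      (show Nat.card (Subgroup.zpowers g) = 2 ^ k by rw [Nat.card_zpowers, hk])).exists_le_sylow
    rw [P.card_eq_index_normalizer] at hd
    obtain ⟨S, hS⟩ := CfsgLib.ClassSizes.exists_sylow_le_of_not_dvd_index _ hd
    have hzN := hS (IsPGroup.le_sylow_of_normal CfsgLib.LocalP.isPGroup_pCore S hz)
    have hgP : g ∈ (P : Subgroup L) := hP (Subgroup.mem_zpowers g)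
    have hc1 : g * z * g⁻¹ * z⁻¹ ∈ Cfsg.pCore s L :=
      mul_mem ((inferInstance : (Cfsg.pCore s L).Normal).conj_mem z hz g) (inv_mem hz)
    have hc2 : g * z * g⁻¹ * z⁻¹ ∈ (P : Subgroup L) := by
      rw [show g * z * g⁻¹ * z⁻¹ = g * (z * g⁻¹ * z⁻¹) by group]
      exact mul_mem hgP ((Subgroup.mem_normalizer_iff.1 hzN _).1 (inv_mem hgP))
    have hdis : Disjoint (Cfsg.pCore s L) (P : Subgroup L) :=
      IsPGroup.disjoint_of_ne s 2 hs2 _ _ CfsgLib.LocalP.isPGroup_pCore P.isPGroup'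
    have h1 := Subgroup.disjoint_def.1 hdis hc1 hc2
    exact mul_inv_eq_iff_eq_mul.1 (mul_inv_eq_one.1 h1)
  obtain ⟨g, k, hk, hg⟩ := exists_two_inverter hy.real
  have hsq : y * y = y * g * y⁻¹ * g⁻¹ := by
    have : g * y⁻¹ * g⁻¹ = y := by
      rw [show g * y⁻¹ * g⁻¹ = (g * y * g⁻¹)⁻¹ by group, hg, inv_inv]
    calc y * y = y * (g * y⁻¹ * g⁻¹) := by rw [this]
      _ = y * g * y⁻¹ * g⁻¹ := by group
  have hc : Commute (y * y) z := by
    rw [hsq]
    exact (h2 _ ⟨k, by rw [← hk]; exact (MulAut.conj y).orderOf_eq g⟩).mul_left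
      (h2 g⁻¹ ⟨k, by rw [orderOf_inv, hk]⟩)
  obtain ⟨j, hj⟩ := exists_sq_eq hy.odd
  have h3 := hc.pow_left j
  rw [(Commute.refl y).mul_pow, hj] at h3
  exact ⟨h3, fun _ => h2⟩

theorem Spread.commute_pCore (h : Spread L V) {y : L} (hy : OddReal y) {s : ℕ} (hs : s.Prime)
    {z : L} (hz : z ∈ Cfsg.pCore s L) : Commute y z :=
  (commute_pCore_of h.pCore_two_eq_bot (fun _ => h.coprime_sylow) hy hs hz).1

theorem Spread.commute_fitting (h : Spread L V) {y : L} (hy : OddReal y) {z : L}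
    (hz : z ∈ Cfsg.fittingSubgroup L) : Commute y z := by
  have hle : Cfsg.fittingSubgroup L ≤ cen y := by
    rw [CfsgLib.Constrained.fitting_eq_iSup_pCore]
    exact iSup₂_le fun s hs x hx => mem_cen.2 (h.commute_pCore hy hs hx).symm.eq
  exact (show Commute z y from mem_cen.1 (hle hz)).symm

/-- A real element in a proper normal subgroup gives one in the core of an odd prime. -/
theorem Minimal.exists_core (h : Minimal L V) {N : Subgroup L} (hN : N.Normal) (hNt : N ≠ ⊤)
    {y : L} (hyN : y ∈ N) (hy : OddReal y) :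
    ∃ q : ℕ, q.Prime ∧ q ≠ 2 ∧ ∃ w : L, OddReal w ∧ orderOf w = q ∧ w ∈ Cfsg.pCore q L := by
  haveI := hN
  haveI := h.solvable_normal N hN hNt
  have hF : y ∈ Cfsg.fittingSubgroup L := by
    have h1 : (⟨y, hyN⟩ : N) ∈ Subgroup.centralizer (Cfsg.fittingSubgroup N : Set N) := by
      rw [Subgroup.mem_centralizer_iff]
      intro z hz
      rw [SetLike.mem_coe, CfsgLib.Constrained.fitting_subgroup_eq, Subgroup.mem_subgroupOf] at hz
      exact Subtype.ext (h.spread.commute_fitting hy hz).symm.eq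
    have h2 := CfsgLib.Constrained.centralizer_fitting_le h1
    rwa [CfsgLib.Constrained.fitting_subgroup_eq, Subgroup.mem_subgroupOf] at h2
  obtain ⟨q, k, hq, hq2, ho, hr⟩ := hy
  haveI : Fact q.Prime := ⟨hq⟩
  have how : orderOf (y ^ q ^ k) = q := by
    rw [orderOf_pow' y (pow_ne_zero k hq.ne_zero), ho, pow_succ, Nat.gcd_mul_right_left,
      Nat.mul_div_cancel_left q (pow_pos hq.pos k)]
  have hwF : y ^ q ^ k ∈ Cfsg.fittingSubgroup L := pow_mem hF _
  refine ⟨q, hq, hq2, y ^ q ^ k, ⟨q, 0, hq, hq2, by rw [how]; simp, ?_⟩, how, ?_⟩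
  · rw [← inv_pow]
    obtain ⟨g, hg⟩ := isConj_iff.1 hr
    exact isConj_iff.2 ⟨g, by rw [← conj_pow, hg]⟩
  · obtain ⟨Q, hQ⟩ := (IsPGroup.of_card (p := q) (n := 1)
      (show Nat.card (Subgroup.zpowers (⟨_, hwF⟩ : Cfsg.fittingSubgroup L)) = q ^ 1 by
        rw [Nat.card_zpowers, Subgroup.orderOf_mk, how, pow_one])).exists_le_sylow
    exact CfsgLib.Constrained.map_sylow_le_pCore inferInstance
      CfsgLib.Constrained.isNilpotent_fitting Q ⟨_, hQ (Subgroup.mem_zpowers _), rfl⟩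

end CfsgLib.RealClassGraph11
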