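import Cfsg.Agent.RealClassGraph11.Basic

/-!
Groups acting on an elementary abelian 2-group with odd orbits, 2-closed stabilisers and fixed point
free real elements of odd order.
-/

set_option autoImplicit false

namespace CfsgLib.RealClassGraph11

open CfsgLib.CoprimeLargest (idx)

universe u v

/-- All nonzero vectors have 2-closed stabilisers of odd index, real elements of odd prime power
order act without fixed vectors and have class sizes prime to the orbit lengths. -/
structure Spread (L : Type u) (V : Type v) [Group L] [AddCommGroup V] [DistribMulAction L V] :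
    Prop where
  exp2 : ∀ w : V, w + w = 0
  exists_ne : ∃ w : V, w ≠ 0
  stab_odd : ∀ w : V, w ≠ 0 → ¬ 2 ∣ (MulAction.stabilizer L w).index
  stab_closed : ∀ w : V, w ≠ 0 → TwoClosed (MulAction.stabilizer L w)
  fpf : ∀ y : L, OddReal y → ∀ w : V, y • w = w → w = 0
  coprime : ∀ y : L, OddReal y → ∀ w : V, w ≠ 0 →
    (idx y).Coprime (MulAction.stabilizer L w).index

end CfsgLib.RealClassGraph11
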