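import Cfsg.Agent.RealClassGraph11.Abelian
import Cfsg.Agent.ZStar.Theorem
import Cfsg.Agent.MixedTwoPrime.Cases

/-!
In a minimal spread action some involution fixes more than the fixed space of its Sylow 2-subgroup.
-/

set_option autoImplicit false

namespace CfsgLib.RealClassGraph11

open CfsgLib.CoprimeLargest (idx)
open CfsgLib.TwoSizes (cen mem_cen)

universe u v

variable {L : Type u} [Group L] [Finite L] {V : Type v} [AddCommGroup V] [DistribMulAction L V]

theorem Minimal.exists_involution_mem (h : Minimal L V) (P : Sylow 2 L) :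
    ∃ t : L, orderOf t = 2 ∧ t ∈ (P : Subgroup L) := by
  haveI : Fact (Nat.Prime 2) := ⟨Nat.prime_two⟩
  have hd : 2 ∣ Nat.card (P : Subgroup L) := by
    obtain ⟨m, hm⟩ := P.isPGroup'.exists_card_eq
    rw [hm]
    refine dvd_pow_self 2 fun h0 => ?_
    rw [h0, pow_zero, Subgroup.card_eq_one] at hm
    exact h.not_normal P (hm ▸ inferInstance)
  obtain ⟨t, ht⟩ := exists_prime_orderOf_dvd_card' 2 hd
  exact ⟨t, by rw [Subgroup.orderOf_coe, ht], t.2⟩

theorem fixV_le_zpowers {P : Sylow 2 L} {t : L} (ht : t ∈ (P : Subgroup L)) :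
    fixV V (P : Subgroup L) ≤ fixV V (Subgroup.zpowers t) :=
  fun _ hw g hg => hw g (Subgroup.zpowers_le.2 ht hg)

theorem Minimal.not_all_fix_eq [Finite V] [FaithfulSMul L V] (h : Minimal L V) :
    ∃ (t : L) (P : Sylow 2 L), orderOf t = 2 ∧ t ∈ (P : Subgroup L) ∧
      fixV V (P : Subgroup L) ≠ fixV V (Subgroup.zpowers t) := by
  by_contra hno
  push Not at hno
  haveI : Fact (Nat.Prime 2) := ⟨Nat.prime_two⟩
  classical
  -- each involution lies in exactly one Sylow 2-subgroup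
  have huni : ∀ t : L, orderOf t = 2 → ∀ P Q : Sylow 2 L, t ∈ (P : Subgroup L) →
      t ∈ (Q : Subgroup L) → Q = P := by
    intro t ht P Q hP hQ
    obtain ⟨w, hw, hw0⟩ := h.spread.exists_fixed_ne P
    refine h.spread.sylow_eq hw0 hw ?_
    rwa [hno t Q ht hQ, ← hno t P ht hP]
  have hmem : ∀ t : L, orderOf t = 2 → ∀ Q : Sylow 2 L, t • Q = Q → t ∈ (Q : Subgroup L) :=
    fun t ht Q hQ => CfsgLib.MixedTwoPrime.mem_sylow_of_mem_normalizer Q ⟨1, by rw [ht, pow_one]⟩
      (Sylow.smul_eq_iff_mem_normalizer.1 hQ)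
  have hex : ∀ t : L, orderOf t = 2 → ∃ Q : Sylow 2 L, t ∈ (Q : Subgroup L) := by
    intro t ht
    obtain ⟨Q, hQ⟩ := (IsPGroup.of_card (n := 1)
      (show Nat.card (Subgroup.zpowers t) = 2 ^ 1 by rw [Nat.card_zpowers, ht, pow_one])).exists_le_sylow
    exact ⟨Q, hQ (Subgroup.mem_zpowers t)⟩
  have htt : ∀ t : L, orderOf t = 2 → t * t = 1 := fun t ht =>
    CfsgLib.Involution.mul_self_of_orderOf_two ht
  -- an ordered pair is swapped by at most one involution
  have hpair : ∀ t t' : L, orderOf t = 2 → orderOf t' = 2 → ∀ Q : Sylow 2 L,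
      t • Q ≠ Q → t • Q = t' • Q → t = t' := by
    intro t t' ht ht' Q hne heq
    have ht'' : t'⁻¹ = t' := CfsgLib.Involution.inv_eq_self_of_orderOf_two ht'
    set x := t' * t with hx
    have hxQ : x • Q = Q := by
      rw [hx, mul_smul, heq, ← mul_smul, htt t' ht', one_smul]
    have hxR : x • (t • Q) = t • Q := by
      rw [hx, mul_smul, ← mul_smul t t, htt t ht, one_smul, ← heq]
    by_contra htne
    have hx1 : x ≠ 1 := fun h1 => htne (by
      rw [hx, mul_eq_one_iff_eq_inv] at h1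
      rw [h1, CfsgLib.Involution.inv_eq_self_of_orderOf_two ht])
    have hxi : t * x * t⁻¹ = x⁻¹ := by
      rw [hx, mul_inv_rev, ht'']
      calc t * (t' * t) * t⁻¹ = t * t' := by group
        _ = t⁻¹ * t' := by rw [CfsgLib.Involution.inv_eq_self_of_orderOf_two ht]
    obtain ⟨p, hp, hpd⟩ := Nat.exists_prime_and_dvd
      (fun h1 => hx1 (orderOf_eq_one_iff.1 h1))
    set y := x ^ (orderOf x / p) with hy
    have hyo : orderOf y = p := orderOf_pow_orderOf_div (orderOf_pos x).ne' hpd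
    have hyQ : y ∈ Subgroup.normalizer ((Q : Subgroup L) : Set L) :=
      pow_mem (Sylow.smul_eq_iff_mem_normalizer.1 hxQ) _
    have hyR : y • (t • Q) = t • Q := Sylow.smul_eq_iff_mem_normalizer.2
      (pow_mem (Sylow.smul_eq_iff_mem_normalizer.1 hxR) _)
    by_cases hp2 : p = 2
    · subst hp2
      exact hne (huni y hyo Q (t • Q)
        (hmem y hyo Q (Sylow.smul_eq_iff_mem_normalizer.2 hyQ)) (hmem y hyo _ hyR))
    · refine h.spread.not_mem_normalizer ⟨p, 0, hp, hp2, by rw [hyo]; simp,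
        isConj_iff.2 ⟨t, ?_⟩⟩ Q hyQ
      rw [hy, ← conj_pow, hxi, inv_pow]
  -- counting
  let T := {t : L // orderOf t = 2}
  let f : T → Sylow 2 L := fun t => (hex t t.2).choose
  have hf : ∀ t : T, (t : L) ∈ (f t : Subgroup L) := fun t => (hex t t.2).choose_spec
  have hsurj : Function.Surjective f := fun Q => by
    obtain ⟨t, ht, htQ⟩ := h.exists_involution_mem Q
    exact ⟨⟨t, ht⟩, huni t ht Q (f ⟨t, ht⟩) htQ (hf _)⟩
  let e : (Σ t : T, {Q : Sylow 2 L // Q ≠ f t}) → (Σ Q : Sylow 2 L, {R : Sylow 2 L // R ≠ Q}) :=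
    fun s => ⟨s.2.1, ⟨(s.1 : L) • s.2.1, fun he => s.2.2
      (huni s.1 s.1.2 (f s.1) s.2.1 (hf s.1) (hmem s.1 s.1.2 _ he))⟩⟩
  have he : Function.Injective e := by
    rintro ⟨t, Q, hQ⟩ ⟨t', Q', hQ'⟩ hss
    have h1 : Q = Q' := congrArg Sigma.fst hss
    subst h1
    have h2 : (t : L) • Q = (t' : L) • Q :=
      congrArg (fun s : Σ Q : Sylow 2 L, {R : Sylow 2 L // R ≠ Q} => (s.2 : Sylow 2 L)) hss
    have h3 : t = t' := Subtype.ext (hpair t t' t.2 t'.2 Q
      (fun he => hQ (huni t t.2 (f t) Q (hf t) (hmem t t.2 _ he))) h2)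
    subst h3
    rfl
  have hc1 : ∀ R : Sylow 2 L, Nat.card {Q : Sylow 2 L // Q ≠ R} = Nat.card (Sylow 2 L) - 1 := by
    intro R
    haveI := Fintype.ofFinite (Sylow 2 L)
    rw [Nat.card_eq_fintype_card, Nat.card_eq_fintype_card, Fintype.card_subtype_compl,
      Fintype.card_subtype_eq]
  have hle := Nat.card_le_card_of_injective e he
  haveI := Fintype.ofFinite T
  haveI := Fintype.ofFinite (Sylow 2 L)
  rw [Nat.card_sigma, Nat.card_sigma, Finset.sum_congr rfl (fun t _ => hc1 (f t)),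
    Finset.sum_congr rfl (fun Q _ => hc1 Q), Finset.sum_const, Finset.sum_const, smul_eq_mul,
    smul_eq_mul, Finset.card_univ, Finset.card_univ] at hle
  have hd1 : 0 < Nat.card (Sylow 2 L) - 1 := by have := h.one_lt_card_sylow; omega
  have hcard : Nat.card T = Nat.card (Sylow 2 L) := by
    refine le_antisymm ?_ (Nat.card_le_card_of_surjective f hsurj)
    rw [Nat.card_eq_fintype_card]
    exact (Nat.le_of_mul_le_mul_right hle hd1).trans (by rw [Nat.card_eq_fintype_card])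
  have hinj : Function.Injective f := (hsurj.bijective_of_nat_card_le hcard.le).1
  obtain ⟨P⟩ : Nonempty (Sylow 2 L) := inferInstance
  have hamo : TwoGroup.AtMostOneInvolution (P : Subgroup L) := by
    intro a b ha hb
    rw [← Subgroup.orderOf_coe] at ha hb
    have h1 : f ⟨a, ha⟩ = f ⟨b, hb⟩ :=
      (huni _ ha P _ a.2 (hf ⟨a, ha⟩)).trans (huni _ hb P _ b.2 (hf ⟨b, hb⟩)).symm
    exact Subtype.ext (congrArg (fun z : T => (z : L)) (hinj h1) :)
  obtain ⟨t, ht, htP⟩ := h.exists_involution_mem P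
  obtain ⟨y, hy, hty⟩ := h.spread.exists_inverted_of_faithful ht
  have hz := CfsgLib.ZStar.inZStar_of_atMostOneInvolution P hamo ht y
  have hty' : t * y⁻¹ * t⁻¹ = y := by
    rw [show t * y⁻¹ * t⁻¹ = (t * y * t⁻¹)⁻¹ by group, hty, inv_inv]
  have h2 : y * t * y⁻¹ * t⁻¹ = y * y := by
    calc y * t * y⁻¹ * t⁻¹ = y * (t * y⁻¹ * t⁻¹) := by group
      _ = y * y := by rw [hty']
  rw [h2] at hz
  obtain ⟨j, hj⟩ := exists_sq_eq hy.odd
  have hyO : y ∈ Cfsg.pPrimeCore 2 L := by
    rw [← hj, ← (Commute.refl y).mul_pow]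
    exact pow_mem hz j
  refine h.not_oddReal_of_normal inferInstance (fun htop => h.not_solvable
    (Cfsg.Agent.S0205.result ?_)) hyO hy
  rw [← Subgroup.card_top (G := L), ← htop, ← Nat.not_even_iff_odd, even_iff_two_dvd]
  exact CfsgLib.Constrained.pPrimeCore_not_dvd

end CfsgLib.RealClassGraph11
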