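import Cfsg.Agent.RealClassGraph11.Inherit
import Cfsg.Agent.Constrained.Fitting

/-!
Groups whose real class sizes have a disconnected prime graph.
-/

set_option autoImplicit false

namespace CfsgLib.RealClassGraph11

open CfsgLib.CoprimeLargest (idx)
open CfsgLib.TwoSizes (cen mem_cen)

universe u

variable {G : Type u} [Group G]

/-- A splitting of the primes of the real class sizes. -/
structure Split (G : Type u) [Group G] (π₁ π₂ : Set ℕ) : Prop where
  exists₁ : ∃ x : G, IsConj x x⁻¹ ∧ ∃ p ∈ π₁, p.Prime ∧ p ∣ idx x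
  exists₂ : ∃ x : G, IsConj x x⁻¹ ∧ ∃ p ∈ π₂, p.Prime ∧ p ∣ idx x
  cover : ∀ x : G, IsConj x x⁻¹ → ∀ p : ℕ, p.Prime → p ∣ idx x → p ∈ π₁ ∨ p ∈ π₂
  noedge : ∀ x : G, IsConj x x⁻¹ → ∀ a ∈ π₁, ∀ b ∈ π₂, ¬ (a ∣ idx x ∧ b ∣ idx x)
  disj : Disjoint π₁ π₂

variable {π₁ π₂ : Set ℕ}

theorem Split.symm (h : Split G π₁ π₂) : Split G π₂ π₁ :=
  ⟨h.exists₂, h.exists₁, fun x hx p hp hd => (h.cover x hx p hp hd).symm,
    fun x hx a ha b hb hab => h.noedge x hx b hb a ha hab.symm, h.disj.symm⟩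

theorem Split.pure₁ (h : Split G π₁ π₂) {x : G} (hx : IsConj x x⁻¹) {a : ℕ} (ha : a ∈ π₁)
    (hax : a ∣ idx x) : ∀ p : ℕ, p.Prime → p ∣ idx x → p ∈ π₁ := fun p hp hd =>
  (h.cover x hx p hp hd).resolve_right fun hb => h.noedge x hx a ha p hb ⟨hax, hd⟩

theorem Split.pure₂ (h : Split G π₁ π₂) {x : G} (hx : IsConj x x⁻¹) {b : ℕ} (hb : b ∈ π₂)
    (hbx : b ∣ idx x) : ∀ p : ℕ, p.Prime → p ∣ idx x → p ∈ π₂ :=
  h.symm.pure₁ hx hb hbx

theorem Split.coprime (h : Split G π₁ π₂) {x y : G} (hx : ∀ p : ℕ, p.Prime → p ∣ idx x → p ∈ π₁)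
    (hy : ∀ p : ℕ, p.Prime → p ∣ idx y → p ∈ π₂) : (idx x).Coprime (idx y) :=
  Nat.coprime_of_dvd fun p hp hpx hpy => Set.disjoint_left.1 h.disj (hx p hp hpx) (hy p hp hpy)

theorem isConj_inv_of_sq {x : G} (h : x ^ 2 = 1) : IsConj x x⁻¹ := by
  rw [show x⁻¹ = x from inv_eq_of_mul_eq_one_right (by rw [← pow_two, h])]

variable [Finite G]

/-- A real product of real elements of coprime class sizes has the class size of one of them. -/
theorem Split.idx_mul (h : Split G π₁ π₂) {u v : G}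
    (hu : ∀ p : ℕ, p.Prime → p ∣ idx u → p ∈ π₁) (hv : ∀ p : ℕ, p.Prime → p ∣ idx v → p ∈ π₂)
    (huv : IsConj (u * v) (u * v)⁻¹) : idx (u * v) = idx u ∨ idx (u * v) = idx v := by
  have hc := h.coprime hu hv
  have hd := CfsgLib.CoprimeLargest.idx_mul_dvd hc
  by_cases hb : ∃ b ∈ π₂, b ∣ idx (u * v)
  · obtain ⟨b, hb, hbd⟩ := hb
    refine Or.inr (le_antisymm (Nat.le_of_dvd (Nat.pos_of_ne_zero
      (CfsgLib.CoprimeLargest.idx_ne_zero v)) ?_) (CfsgLib.CoprimeLargest.idx_le_idx_mul hc))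
    exact (Nat.coprime_of_dvd fun p hp hp1 hp2 => Set.disjoint_left.1 h.disj (hu p hp hp2)
      (h.pure₂ huv hb hbd p hp hp1)).dvd_of_dvd_mul_left hd
  · push Not at hb
    refine Or.inl (le_antisymm (Nat.le_of_dvd (Nat.pos_of_ne_zero
      (CfsgLib.CoprimeLargest.idx_ne_zero u)) ?_) (CfsgLib.CoprimeLargest.idx_le_idx_mul' hc))
    exact (Nat.coprime_of_dvd fun p hp hp1 hp2 => hb p (hv p hp hp2) hp1).dvd_of_dvd_mul_right hd

theorem eq_one_of_mem_two_group {M : Subgroup G} (hM : IsPGroup 2 M) {x : G} (hx : x ∈ M)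
    {N : Subgroup G} (hN : ¬ 2 ∣ Nat.card N) (hxN : x ∈ N) : x = 1 := by
  haveI : Fact (Nat.Prime 2) := ⟨Nat.prime_two⟩
  refine CfsgLib.LocalP.eq_one_of_mem_of_coprime hM hx ?_
  exact Nat.Coprime.coprime_dvd_left (Subgroup.orderOf_dvd_natCard N hxN)
    ((Nat.prime_two.coprime_iff_not_dvd.2 hN).symm)

/-- Some real class size is even. -/
theorem Split.exists_even (h : Split G π₁ π₂) : ∃ x : G, IsConj x x⁻¹ ∧ 2 ∣ idx x := by
  by_contra hne
  push Not at hne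
  haveI : Fact (Nat.Prime 2) := ⟨Nat.prime_two⟩
  have hsq : ∀ x : G, IsConj x x⁻¹ → x ^ 2 = 1 := fun x hx => sq_eq_one_of_odd_idx hx (hne x hx)
  obtain ⟨P⟩ : Nonempty (Sylow 2 G) := inferInstance
  have hPn : (P : Subgroup G).Normal := by_contra fun hP => by
    obtain ⟨x, hx⟩ := exists_oddReal P hP
    exact hx.sq_ne_one (hsq x hx.real)
  haveI : Unique (Sylow 2 G) := Sylow.unique_of_normal _ hPn
  have hmem : ∀ x : G, IsConj x x⁻¹ → x ∈ (P : Subgroup G) := fun x hx => by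
    obtain ⟨Q, hQ⟩ := (show IsPGroup 2 (Subgroup.zpowers x) from
      fun ⟨z, hz⟩ => ⟨1, Subtype.ext (by
        obtain ⟨i, rfl⟩ := Subgroup.mem_zpowers_iff.1 hz
        show (x ^ i) ^ (2 ^ 1) = 1
        rw [← zpow_natCast, ← zpow_mul, mul_comm, zpow_mul, zpow_natCast, pow_one, hsq x hx,
          one_zpow])⟩).exists_le_sylow
    exact Subsingleton.elim Q P ▸ hQ (Subgroup.mem_zpowers x)
  have key : ∀ (σ₁ σ₂ : Set ℕ), Split G σ₁ σ₂ → ∀ u v : G, IsConj u u⁻¹ → IsConj v v⁻¹ →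
      (∃ p ∈ σ₂, p.Prime ∧ p ∣ idx v) → (∀ p : ℕ, p.Prime → p ∣ idx v → p ∈ σ₂) →
      (∀ p : ℕ, p.Prime → p ∣ idx u → p ∈ σ₁) → idx (v * u) = idx u → False := by
    intro σ₁ σ₂ hs u v hu hv hv2 hvp hup he
    obtain ⟨N, -, hNd, hNc⟩ :=
      CfsgLib.CoprimeLargest.exists_normal_commutators (hs.coprime hup hvp).symm he
    obtain ⟨b, hb, hbp, hbv⟩ := hv2
    refine hbp.ne_one (Nat.dvd_one.1 (hbv.trans ?_))
    rw [Nat.dvd_one, CfsgLib.CoprimeLargest.idx_eq_one_iff, Subgroup.mem_center_iff]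
    intro g
    have h2 : ¬ 2 ∣ Nat.card N := fun h2 => hne u hu (h2.trans hNd)
    have h1 := eq_one_of_mem_two_group P.isPGroup'
      (mul_mem (inv_mem (hmem v hv)) (hPn.conj_mem v (hmem v hv) g)) h2 (hNc g)
    rw [inv_mul_eq_one] at h1
    exact mul_inv_eq_iff_eq_mul.1 h1.symm
  obtain ⟨u, hu, a, ha, hap, hau⟩ := h.exists₁
  obtain ⟨v, hv, b, hb, hbp, hbv⟩ := h.exists₂
  have hup := h.pure₁ hu ha hau
  have hvp := h.pure₂ hv hb hbv
  have huv : IsConj (u * v) (u * v)⁻¹ := by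
    rw [mul_inv_rev, show v⁻¹ = v from inv_eq_of_mul_eq_one_right (by rw [← pow_two, hsq v hv]),
      show u⁻¹ = u from inv_eq_of_mul_eq_one_right (by rw [← pow_two, hsq u hu])]
    exact isConj_iff.2 ⟨v, by group⟩
  rcases h.idx_mul hup hvp huv with he | he
  · exact key π₁ π₂ h u v hu hv ⟨b, hb, hbp, hbv⟩ hvp hup
      (by rw [CfsgLib.CoprimeLargest.idx_mul_comm]; exact he)
  · exact key π₂ π₁ h.symm v u hv hu ⟨a, ha, hap, hau⟩ hup hvp he

/-- The splitting normalised so that the first part contains the prime two. -/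
theorem Split.normalise (h : Split G π₁ π₂) :
    ∃ σ₁ σ₂ : Set ℕ, Split G σ₁ σ₂ ∧ 2 ∈ σ₁ := by
  obtain ⟨x, hx, h2⟩ := h.exists_even
  rcases h.cover x hx 2 Nat.prime_two h2 with h1 | h1
  · exact ⟨π₁, π₂, h, h1⟩
  · exact ⟨π₂, π₁, h.symm, h1⟩

/-- The involutions with a class size belonging to the second part. -/
def SecondPart (π₂ : Set ℕ) (i : G) : Prop := i ^ 2 = 1 ∧ ∃ p ∈ π₂, p.Prime ∧ p ∣ idx i

omit [Finite G] in
theorem SecondPart.real {i : G} (h : SecondPart π₂ i) : IsConj i i⁻¹ := isConj_inv_of_sq h.1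

theorem Split.pure_oddReal (h : Split G π₁ π₂) (h2 : 2 ∈ π₁) {y : G} (hy : OddReal y) :
    ∀ p : ℕ, p.Prime → p ∣ idx y → p ∈ π₁ :=
  h.pure₁ hy.real h2 hy.two_dvd_idx

theorem Split.odd_second (h : Split G π₁ π₂) (h2 : 2 ∈ π₁) {i : G} (hi : SecondPart π₂ i) :
    ¬ 2 ∣ idx i := fun hd => by
  obtain ⟨p, hp, -, hpd⟩ := hi.2
  exact h.noedge i hi.real 2 h2 p hp ⟨hd, hpd⟩

theorem Split.pure_second (h : Split G π₁ π₂) {i : G} (hi : SecondPart π₂ i) :
    ∀ p : ℕ, p.Prime → p ∣ idx i → p ∈ π₂ := by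
  obtain ⟨p, hp, -, hpd⟩ := hi.2
  exact h.pure₂ hi.real hp hpd

theorem Split.exists_second (h : Split G π₁ π₂) (h2 : 2 ∈ π₁) : ∃ i : G, SecondPart π₂ i := by
  obtain ⟨x, hx, p, hp, hpp, hpd⟩ := h.exists₂
  exact ⟨x, sq_eq_one_of_odd_idx hx (fun hd => h.noedge x hx 2 h2 p hp ⟨hd, hpd⟩), p, hp, hpp, hpd⟩

theorem Split.coprime_second (h : Split G π₁ π₂) (h2 : 2 ∈ π₁) {y i : G} (hy : OddReal y)
    (hi : SecondPart π₂ i) : (idx y).Coprime (idx i) :=
  h.coprime (h.pure_oddReal h2 hy) (h.pure_second hi)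

/-- A real element of odd prime power order commutes with no involution of the second part. -/
theorem Split.not_commute (h : Split G π₁ π₂) (h2 : 2 ∈ π₁) {y i : G} (hy : OddReal y)
    (hi : SecondPart π₂ i) : ¬ Commute y i := by
  intro hc
  obtain ⟨g, hg⟩ := isConj_iff.1 hy.real
  obtain ⟨a, ha, c, hcc, hgac⟩ := CfsgLib.Product.exists_mul_of_coprime_index
    (H := cen y) (K := cen i) (h.coprime_second h2 hy hi) g
  have hcy : c * y * c⁻¹ = y⁻¹ := by
    calc c * y * c⁻¹ = a⁻¹ * (g * y * g⁻¹) * a := by rw [hgac]; group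
      _ = a⁻¹ * y⁻¹ * a := by rw [hg]
      _ = y⁻¹ := by
        rw [mul_assoc, ← ((show Commute a y from mem_cen.1 ha).inv_right).eq, inv_mul_cancel_left]
  have hr : IsConj (y * i) (y * i)⁻¹ := by
    refine isConj_iff.2 ⟨c, ?_⟩
    rw [mul_inv_rev, inv_eq_of_mul_eq_one_right (show i * i = 1 by rw [← pow_two, hi.1]),
      show c * (y * i) * c⁻¹ = (c * y * c⁻¹) * (c * i * c⁻¹) by group, hcy, mem_cen.1 hcc,
      mul_inv_cancel_right, (hc.inv_left).eq]
  obtain ⟨j, hj⟩ := hy.odd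
  have hyo : y ^ (2 * (j + 1)) = y := by
    rw [show 2 * (j + 1) = orderOf y + 1 by omega, pow_succ, pow_orderOf_eq_one, one_mul]
  have e1 : (y * i) ^ (2 * (j + 1)) = y := by
    rw [hc.mul_pow, hyo, pow_mul i, hi.1, one_pow, mul_one]
  have e2 : (y * i) ^ orderOf y = i := by
    rw [hc.mul_pow, pow_orderOf_eq_one, one_mul, hj, pow_succ, pow_mul, hi.1, one_pow, one_mul]
  obtain ⟨p, hp, -, hpd⟩ := hi.2
  refine h.noedge _ hr 2 h2 p hp ⟨hy.two_dvd_idx.trans ?_, hpd.trans ?_⟩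
  · conv_lhs => rw [← e1]
    exact idx_pow_dvd _ _
  · conv_lhs => rw [← e2]
    exact idx_pow_dvd _ _

theorem Split.twoClosed_cen (h : Split G π₁ π₂) (h2 : 2 ∈ π₁) {i : G} (hi : SecondPart π₂ i) :
    TwoClosed (cen i) :=
  twoClosed_of_forall_not_oddReal fun _ hx hy => h.not_commute h2 hy hi (mem_cen.1 hx)

/-- A real element outside `O(G)` puts every involution of the second part into `O₂(G)`. -/
theorem Split.second_mem_pCore (h : Split G π₁ π₂) (h2 : 2 ∈ π₁) {y : G} (hy : OddReal y)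
    (hyO : y ∉ Cfsg.pPrimeCore 2 G) {i : G} (hi : SecondPart π₂ i) : i ∈ Cfsg.pCore 2 G := by
  haveI : Fact (Nat.Prime 2) := ⟨Nat.prime_two⟩
  have hii : i⁻¹ = i := inv_eq_of_mul_eq_one_right (by rw [← pow_two, hi.1])
  obtain ⟨g, hg⟩ := isConj_iff.1 hy.real
  have hcop := h.coprime_second h2 hy hi
  have hr : IsConj (y * i) (y * i)⁻¹ := by
    obtain ⟨l, hl⟩ := CfsgLib.CoprimeLargest.class_mul hcop (i * g) i
    refine isConj_iff.2 ⟨l, hl.symm.trans ?_⟩
    rw [show (i * g) * y * (i * g)⁻¹ * (i * i * i⁻¹) = i * (g * y * g⁻¹) by group, hg,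
      mul_inv_rev y i, hii]
  rcases h.idx_mul (h.pure_oddReal h2 hy) (h.pure_second hi) hr with he | he
  · obtain ⟨N, hN, hNd, hNc⟩ := CfsgLib.CoprimeLargest.exists_normal_commutators hcop.symm
      (by rw [CfsgLib.CoprimeLargest.idx_mul_comm]; exact he)
    haveI := hN
    have hNi : N ≤ cen i := by
      rw [← Subgroup.relIndex_eq_one]
      exact Nat.eq_one_of_dvd_coprimes (hcop.of_dvd_left hNd)
        (Subgroup.index_dvd_card ((cen i).subgroupOf N)) (relIndex_dvd_index _ N)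
    let S : Set G := Set.range fun g : G => g * i * g⁻¹
    have hcomm : ∀ g : G, Commute i (g * i * g⁻¹) := fun g => by
      have h1 : Commute i (i * (i⁻¹ * (g * i * g⁻¹))) :=
        (Commute.refl i).mul_right (mem_cen.1 (hNi (hNc g)) : Commute _ i).symm
      rwa [mul_inv_cancel_left] at h1
    have hcomm' : ∀ a ∈ S, ∀ b ∈ S, Commute a b := by
      rintro _ ⟨g, rfl⟩ _ ⟨k, rfl⟩
      have := (hcomm (g⁻¹ * k)).map (MulAut.conj g).toMonoidHom
      simpa [mul_assoc] using this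
    have hab := fun a (ha : a ∈ Subgroup.closure S) b (hb : b ∈ Subgroup.closure S) =>
      Subgroup.closure_le (K := Subgroup.centralizer (Subgroup.closure S : Set G)) |>.2
        (fun s hs => by
          rw [SetLike.mem_coe, Subgroup.mem_centralizer_iff]
          intro c hc
          have hcs : Subgroup.closure S ≤ cen s :=
            (Subgroup.closure_le _).2 fun t ht => mem_cen.2 (hcomm' t ht s hs).eq
          exact mem_cen.1 (hcs hc)) ha b hb
    have hsq : ∀ a ∈ Subgroup.closure S, a ^ 2 = 1 := by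
      intro a ha
      induction ha using Subgroup.closure_induction with
      | mem w hw =>
        obtain ⟨g, rfl⟩ := hw
        rw [conj_pow, hi.1, mul_one, mul_inv_cancel]
      | one => exact one_pow 2
      | mul a b ha hb hea heb =>
        rw [(show Commute a b from (hab a ha b hb).symm).mul_pow, hea, heb, one_mul]
      | inv a _ hea => rw [inv_pow, hea, inv_one]
    have hn : (Subgroup.closure S).Normal := by
      refine ⟨fun a ha c => ?_⟩
      induction ha using Subgroup.closure_induction with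
      | mem w hw =>
        obtain ⟨g, rfl⟩ := hw
        exact Subgroup.subset_closure ⟨c * g, by group⟩
      | one => simp
      | mul a b _ _ hea heb => rw [← conj_mul]; exact mul_mem hea heb
      | inv a _ hea => rw [← conj_inv]; exact inv_mem hea
    refine CfsgLib.LocalP.le_pCore hn (fun a => ⟨1, Subtype.ext ?_⟩)
      (Subgroup.subset_closure ⟨1, by group⟩)
    rw [pow_one, Subgroup.coe_pow, Subgroup.coe_one]
    exact hsq a a.2
  · obtain ⟨N, hN, hNd, hNc⟩ := CfsgLib.CoprimeLargest.exists_normal_commutators hcop he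
    refine absurd ?_ hyO
    have h1 := hNc g
    rw [hg] at h1
    have hN2 : ¬ 2 ∣ Nat.card N := fun hd => h.odd_second h2 hi (hd.trans hNd)
    obtain ⟨j, hj⟩ := exists_sq_eq hy.odd
    have hyN : y ∈ N := by
      rw [← hj, ← (Commute.refl y).mul_pow]
      refine pow_mem ?_ j
      rw [← inv_inv (y * y), mul_inv_rev]; exact inv_mem h1
    exact CfsgLib.Constrained.le_pPrimeCore hN (Nat.prime_two.coprime_iff_not_dvd.2 hN2).symm hyN

/-- The vectors of the first part's complement in `Ω₁Z(O₂(G))`. -/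
theorem Split.mul_mem_second (h : Split G π₁ π₂) (h2 : 2 ∈ π₁) {Z : Subgroup G} (hZn : Z.Normal)
    (hZ : IsPGroup 2 Z) {v w : G} (hv : v ∈ Z) (hw : w ∈ Z) (hv2 : v ^ 2 = 1) (hw2 : w ^ 2 = 1)
    (hc : Commute v w) (hv1 : ∀ p ∈ π₁, p.Prime → ¬ p ∣ idx v)
    (hw1 : ∀ p ∈ π₁, p.Prime → ¬ p ∣ idx w) : ∀ p ∈ π₁, p.Prime → ¬ p ∣ idx (v * w) := by
  intro p hp hpp hpd
  have hu : IsConj (v * w) (v * w)⁻¹ := isConj_inv_of_sq (by rw [hc.mul_pow, hv2, hw2, one_mul])
  have hup := h.pure₁ hu hp hpd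
  have hreal : ∀ x : G, x ^ 2 = 1 → (∀ p ∈ π₁, p.Prime → ¬ p ∣ idx x) →
      ∀ q : ℕ, q.Prime → q ∣ idx x → q ∈ π₂ := fun x hx hx1 q hq hqd =>
    (h.cover x (isConj_inv_of_sq hx) q hq hqd).resolve_left fun hq1 => hx1 q hq1 hq hqd
  have hwp := hreal w hw2 hw1
  have he : v * w * w = v := by rw [mul_assoc, ← pow_two, hw2, mul_one]
  rcases h.idx_mul hup hwp (by rw [he]; exact isConj_inv_of_sq hv2) with e | e
  · rw [he] at e
    exact hv1 p hp hpp (e ▸ hpd)
  · obtain ⟨N, -, hNd, hNc⟩ :=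
      CfsgLib.CoprimeLargest.exists_normal_commutators (h.coprime hup hwp) e
    refine hpp.ne_one (Nat.dvd_one.1 (hpd.trans ?_))
    rw [Nat.dvd_one, CfsgLib.CoprimeLargest.idx_eq_one_iff, Subgroup.mem_center_iff]
    intro g
    have hN2 : ¬ 2 ∣ Nat.card N := fun hd =>
      hw1 2 h2 Nat.prime_two (hd.trans hNd)
    have h1 := eq_one_of_mem_two_group hZ (mul_mem (inv_mem (mul_mem hv hw))
      (hZn.conj_mem _ (mul_mem hv hw) g)) hN2 (hNc g)
    rw [inv_mul_eq_one] at h1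
    exact mul_inv_eq_iff_eq_mul.1 h1.symm

end CfsgLib.RealClassGraph11
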