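import Cfsg.Agent.RealClassGraph11.Action

/-!
Spread actions are inherited by normal subgroups and by the quotient by the kernel; minimal
non-solvable spread actions.
-/

set_option autoImplicit false

namespace CfsgLib.RealClassGraph11

open CfsgLib.CoprimeLargest (idx)
open CfsgLib.TwoSizes (cen mem_cen)

universe u v

theorem OddReal.map {G : Type u} {H : Type v} [Group G] [Group H] {x : G} (hx : OddReal x)
    (f : G →* H) (hf : Function.Injective f) : OddReal (f x) := by
  obtain ⟨q, k, hq, hq2, ho, hr⟩ := hx
  obtain ⟨g, hg⟩ := isConj_iff.1 hr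
  exact ⟨q, k, hq, hq2, by rw [orderOf_injective f hf, ho],
    isConj_iff.2 ⟨f g, by rw [← map_inv, ← map_inv, ← map_mul, ← map_mul, hg]⟩⟩

theorem OddReal.conj {G : Type u} [Group G] {x : G} (hx : OddReal x) (g : G) :
    OddReal (g * x * g⁻¹) :=
  hx.map (MulAut.conj g).toMonoidHom (MulAut.conj g).injective

variable {G : Type u} [Group G] [Finite G]

theorem not_oddReal_of_normal_sylow (S : Sylow 2 G) (hS : (S : Subgroup G).Normal) (x : G) :
    ¬ OddReal x := by
  haveI : Fact (Nat.Prime 2) := ⟨Nat.prime_two⟩
  haveI : Unique (Sylow 2 G) := Sylow.unique_of_normal _ hS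
  intro hx
  obtain ⟨g, k, hk, hg⟩ := exists_two_inverter hx.real
  obtain ⟨R, hR⟩ := (IsPGroup.of_card (n := k)
    (show Nat.card (Subgroup.zpowers g) = 2 ^ k by rw [Nat.card_zpowers, hk])).exists_le_sylow
  have hgS : g ∈ (S : Subgroup G) := Subsingleton.elim R S ▸ hR (Subgroup.mem_zpowers g)
  have hc : g * x * g⁻¹ * x⁻¹ ∈ (S : Subgroup G) := by
    rw [show g * x * g⁻¹ * x⁻¹ = g * (x * g⁻¹ * x⁻¹) by group]
    exact mul_mem hgS (hS.conj_mem _ (inv_mem hgS) x)
  rw [hg] at hc
  obtain ⟨j, hj⟩ := S.isPGroup' ⟨_, hc⟩
  have h1 : (x⁻¹ * x⁻¹) ^ 2 ^ j = 1 := by simpa using congrArg Subtype.val hj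
  rw [← pow_two, ← pow_mul, ← pow_succ', inv_pow, inv_eq_one] at h1
  exact hx.ne_one (orderOf_eq_one_iff.1 (Nat.eq_one_of_dvd_coprimes
    ((Nat.coprime_two_right.2 hx.odd).pow_right (j + 1)) dvd_rfl (orderOf_dvd_of_pow_eq_one h1)))

theorem TwoClosed.not_oddReal {H : Subgroup G} (h : TwoClosed H) (x : H) : ¬ OddReal x :=
  not_oddReal_of_normal_sylow (default : Sylow 2 H) (h _) x

theorem TwoClosed.of_injective {G' : Type v} [Group G'] [Finite G'] {H : Subgroup G}
    {H' : Subgroup G'} (h : TwoClosed H) (f : H' →* H) (hf : Function.Injective f) :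
    TwoClosed H' := fun S => by_contra fun hS => by
  obtain ⟨x, hx⟩ := exists_oddReal S hS
  exact h.not_oddReal _ (hx.map f hf)

theorem TwoClosed.map {G' : Type v} [Group G'] [Finite G'] {H : Subgroup G} (h : TwoClosed H)
    (f : G →* G') : TwoClosed (H.map f) := by
  haveI : Fact (Nat.Prime 2) := ⟨Nat.prime_two⟩
  intro S
  obtain ⟨R⟩ : Nonempty (Sylow 2 H) := inferInstance
  have hsurj := f.subgroupMap_surjective H
  have hn : ((R.mapSurjective hsurj : Sylow 2 (H.map f)) : Subgroup (H.map f)).Normal := by
    rw [Sylow.coe_mapSurjective]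
    exact (h R).map _ hsurj
  haveI : Unique (Sylow 2 (H.map f)) := Sylow.unique_of_normal _ hn
  rw [Subsingleton.elim S (R.mapSurjective hsurj)]
  exact hn

variable {L : Type u} [Group L] [Finite L] {V : Type v} [AddCommGroup V] [DistribMulAction L V]

/-- Restriction to a normal subgroup. -/
theorem Spread.of_normal (h : Spread L V) (N : Subgroup L) [N.Normal] : Spread N V := by
  have hst : ∀ w : V, MulAction.stabilizer N w = (MulAction.stabilizer L w).subgroupOf N :=
    fun w => rfl
  have hidx : ∀ y : N, idx y ∣ idx (y : L) := by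
    intro y
    have : cen y = (cen (y : L)).subgroupOf N := by
      ext g
      rw [Subgroup.mem_subgroupOf, mem_cen, mem_cen, Subtype.ext_iff]
      simp
    show (cen y).index ∣ _
    rw [this]
    exact relIndex_dvd_index _ N
  refine ⟨h.exp2, h.exists_ne, fun w hw h2 => h.stab_odd w hw ?_, fun w hw => ?_,
    fun y hy w hyw => h.fpf _ hy.of_subgroup w hyw, fun y hy w hw => ?_⟩
  · rw [hst] at h2
    exact h2.trans (relIndex_dvd_index _ N)
  · refine (h.stab_closed w hw).of_injective
      (((N.subtype.comp (MulAction.stabilizer N w).subtype)).codRestrict _ fun g => g.2) ?_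
    intro a b hab
    exact Subtype.ext (Subtype.ext (congrArg (fun z : MulAction.stabilizer L w => (z : L)) hab :))
  · rw [hst]
    exact Nat.Coprime.of_dvd (hidx y) (relIndex_dvd_index _ N) (h.coprime _ hy.of_subgroup w hw)

variable (L V) in
/-- The kernel of the action. -/
def actKer : Subgroup L := (MulAction.toPermHom L V).ker

omit [Finite L] in
theorem mem_actKer {g : L} : g ∈ actKer L V ↔ ∀ w : V, g • w = w :=
  ⟨fun h w => Equiv.ext_iff.1 h w, fun h => Equiv.ext h⟩

instance actKer_normal : (actKer L V).Normal := MonoidHom.normal_ker _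

omit [Finite L] in
theorem smul_congr_actKer {a b : L} (hab : a⁻¹ * b ∈ actKer L V) (w : V) : a • w = b • w := by
  conv_rhs => rw [show b = a * (a⁻¹ * b) by group, mul_smul, mem_actKer.1 hab w]

/-- The action of the quotient by the kernel. -/
@[instance_reducible]
def kerAction : DistribMulAction (L ⧸ actKer L V) V where
  smul q w := Quotient.liftOn' q (fun g : L => g • w)
    fun _ _ hab => smul_congr_actKer (QuotientGroup.leftRel_apply.1 hab) w
  one_smul w := one_smul L w
  mul_smul q r w := QuotientGroup.induction_on q fun a =>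
    QuotientGroup.induction_on r fun b => mul_smul a b w
  smul_zero q := QuotientGroup.induction_on q fun a => smul_zero a
  smul_add q x y := QuotientGroup.induction_on q fun a => smul_add a x y

/-- A group with a spread action is solvable once the faithful quotient is. -/
theorem Spread.isSolvable_of_faithful_case (h : Spread L V)
    (hfaith : ∀ (L' : Type u) [Group L'] [Finite L'] [DistribMulAction L' V] [FaithfulSMul L' V],
      Spread L' V → Group.IsSolvable L') : Group.IsSolvable L := by
  let K := actKer L V
  let π := QuotientGroup.mk' K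
  letI : DistribMulAction (L ⧸ K) V := kerAction
  have hact : ∀ (g : L) (w : V), π g • w = g • w := fun g w => rfl
  haveI : FaithfulSMul (L ⧸ K) V := ⟨fun {a b} hab => by
    obtain ⟨a, rfl⟩ := QuotientGroup.mk_surjective a
    obtain ⟨b, rfl⟩ := QuotientGroup.mk_surjective b
    refine QuotientGroup.eq.2 (mem_actKer.2 fun w => ?_)
    rw [mul_smul, inv_smul_eq_iff]
    exact ((hact b w).symm.trans (hab w).symm).trans (hact a w)⟩
  have hker : ∀ w : V, π.ker ≤ MulAction.stabilizer L w := by
    intro w g hg
    show g • w = w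
    rw [← hact g w, MonoidHom.mem_ker.1 hg, one_smul]
  have hst : ∀ w : V, MulAction.stabilizer (L ⧸ K) w = (MulAction.stabilizer L w).map π := by
    intro w
    ext a
    obtain ⟨g, rfl⟩ := QuotientGroup.mk'_surjective K a
    constructor
    · intro ha
      exact ⟨g, (hact g w).symm.trans ha, rfl⟩
    · rintro ⟨g', hg', he⟩
      show π g • w = w
      rw [← he, hact]; exact hg'
  have hidx : ∀ w : V, (MulAction.stabilizer (L ⧸ K) w).index =
      (MulAction.stabilizer L w).index := fun w => by
    rw [hst]
    exact Subgroup.index_map_eq _ (QuotientGroup.mk'_surjective _) (hker w)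
  have hsp : Spread (L ⧸ K) V := by
    refine ⟨h.exp2, h.exists_ne, fun w hw => by rw [hidx]; exact h.stab_odd w hw,
      fun w hw => by rw [hst]; exact (h.stab_closed w hw).map π, fun y hy w hyw => ?_,
      fun y hy w hw => ?_⟩
    · obtain ⟨z, hz, hzp⟩ := exists_lift K hy
      refine h.fpf z hz w ?_
      rw [← hact]
      have h1 : Subgroup.zpowers y ≤ MulAction.stabilizer (L ⧸ K) w :=
        Subgroup.zpowers_le.2 hyw
      exact h1 (hzp.le (Subgroup.mem_zpowers _))
    · obtain ⟨z, hz, -, hzi⟩ := exists_lift_idx K hy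
      rw [hidx]
      exact (h.coprime z hz w hw).of_dvd_left hzi
  obtain ⟨w, hw⟩ := h.exists_ne
  haveI : Group.IsSolvable (L ⧸ K) := hfaith _ hsp
  haveI := (h.stab_closed w hw).isSolvable
  have hkle : K ≤ MulAction.stabilizer L w := by
    rw [← QuotientGroup.ker_mk' K]; exact hker w
  haveI : Group.IsSolvable K :=
    Group.isSolvable_of_isSolvable_injective (f := Subgroup.inclusion hkle)
      (Subgroup.inclusion_injective hkle)
  exact Group.isSolvable_of_ker_le_range K.subtype π
    (by rw [QuotientGroup.ker_mk', Subgroup.range_subtype]) (hG' := inferInstance)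
    (hG'' := inferInstance)

/-- A minimal non-solvable faithful spread action. -/
structure Minimal (L : Type u) (V : Type v) [Group L] [AddCommGroup V] [DistribMulAction L V] :
    Prop where
  spread : Spread L V
  not_solvable : ¬ Group.IsSolvable L
  solvable_normal : ∀ N : Subgroup L, N.Normal → N ≠ ⊤ → Group.IsSolvable N

theorem Minimal.commutator_eq_top (h : Minimal L V) : commutator L = ⊤ := by
  by_contra hne
  apply h.not_solvable
  haveI := h.solvable_normal (commutator L) inferInstance hne
  exact Group.isSolvable_of_ker_le_range (commutator L).subtype (Abelianization.of (G := L))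
    (by rw [Abelianization.ker_of, Subgroup.range_subtype]) (hG' := inferInstance)
    (hG'' := inferInstance)

theorem Minimal.not_normal (h : Minimal L V) (S : Sylow 2 L) : ¬ (S : Subgroup L).Normal :=
  fun hS => h.not_solvable (isSolvable_of_normal_sylow S hS)

theorem Minimal.one_lt_card_sylow (h : Minimal L V) : 1 < Nat.card (Sylow 2 L) := by
  haveI : Fact (Nat.Prime 2) := ⟨Nat.prime_two⟩
  obtain ⟨S⟩ : Nonempty (Sylow 2 L) := inferInstance
  refine lt_of_le_of_ne Nat.card_pos fun he => h.not_normal S ?_
  rw [S.card_eq_index_normalizer, eq_comm, Subgroup.index_eq_one] at he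
  exact Subgroup.normalizer_eq_top_iff.1 he

theorem Minimal.exists_oddReal (h : Minimal L V) : ∃ y : L, OddReal y := by
  haveI : Fact (Nat.Prime 2) := ⟨Nat.prime_two⟩
  obtain ⟨S⟩ : Nonempty (Sylow 2 L) := inferInstance
  exact RealClassGraph11.exists_oddReal S (h.not_normal S)

/-- It is enough to rule out minimal actions. -/
theorem Spread.isSolvable_of_no_minimal [Finite V]
    (hno : ∀ (L' : Type u) [Group L'] [Finite L'] [DistribMulAction L' V] [FaithfulSMul L' V],
      ¬ Minimal L' V) (h : Spread L V) : Group.IsSolvable L := by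
  refine h.isSolvable_of_faithful_case ?_
  suffices H : ∀ n, ∀ (L' : Type u) [Group L'] [Finite L'] [DistribMulAction L' V]
      [FaithfulSMul L' V], Spread L' V → Nat.card L' = n → Group.IsSolvable L' from
    fun L' _ _ _ _ h' => H _ L' h' rfl
  intro n
  induction n using Nat.strong_induction_on with
  | _ n ih =>
    intro L' _ _ _ _ h' hn
    by_contra hns
    refine hno L' ⟨h', hns, fun N hN hNt => ?_⟩
    haveI := hN
    refine ih (Nat.card N) ?_ N (h'.of_normal N) rfl
    subst hn
    exact lt_of_le_of_ne (Subgroup.card_le_card_group N)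
      fun he => hNt (Subgroup.eq_top_of_card_eq N he)

end CfsgLib.RealClassGraph11
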