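import Cfsg.Agent.RealClassGraph11.Defs
import Cfsg.Agent.Zsigmondy.Main
import Cfsg.Agent.SolvableStructure.Product
import Cfsg.Agent.OddStep14.Hall
import Cfsg.Agent.Chars.GaloisDegree.Cyclic
import Mathlib

/-!
An irreducible real element with cyclic centraliser in a spread of order `2 ^ (2 n)`.
-/

set_option autoImplicit false

namespace CfsgLib.RealClassGraph11

open CfsgLib.CoprimeLargest (idx)
open CfsgLib.TwoSizes (cen mem_cen)
open scoped Pointwise

universe u v

section action

variable {L : Type u} {V : Type v} [Group L] [AddCommGroup V] [DistribMulAction L V]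

/-- The vectors fixed by an element. -/
def fixSub (V : Type v) [AddCommGroup V] [DistribMulAction L V] (a : L) : AddSubgroup V where
  carrier := {w | a • w = w}
  add_mem' {x y} hx hy := by
    simp only [Set.mem_setOf_eq] at *
    rw [smul_add, hx, hy]
  zero_mem' := smul_zero a
  neg_mem' {x} hx := by
    simp only [Set.mem_setOf_eq] at *
    rw [smul_neg, hx]

theorem mem_fixSub {a : L} {w : V} : w ∈ fixSub V a ↔ a • w = w := Iff.rfl

theorem smul_fixSub {a b : L} (hab : Commute b a) {w : V} (hw : w ∈ fixSub V b) :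
    a • w ∈ fixSub V b := by
  rw [mem_fixSub, smul_smul, hab.eq, mul_smul, mem_fixSub.1 hw]

theorem pow_smul_mem {a : L} {W : AddSubgroup V} (hW : ∀ w ∈ W, a • w ∈ W) (j : ℕ) :
    ∀ w ∈ W, a ^ j • w ∈ W := by
  induction j with
  | zero => simp
  | succ j ih => intro w hw; rw [pow_succ, mul_smul]; exact ih _ (hW w hw)

theorem pow_smul_eq {a : L} {w : V} (hw : a • w = w) (j : ℕ) : a ^ j • w = w := by
  induction j with
  | zero => simp
  | succ j ih => rw [pow_succ, mul_smul, hw, ih]

variable [Finite V]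

/-- An element of prime power order leaves a subgroup invariant: count its fixed points in it. -/
theorem card_modEq_fixed [Finite L] {a : L} {r k : ℕ} [Fact r.Prime] (ho : orderOf a = r ^ k)
    (W : AddSubgroup V) (hW : ∀ w ∈ W, a • w ∈ W) :
    Nat.card W ≡ Nat.card ↥(W ⊓ fixSub V a) [MOD r] := by
  have hmem : ∀ g ∈ Subgroup.zpowers a, ∀ w ∈ W, g • w ∈ W := by
    intro g hg
    obtain ⟨j, rfl⟩ := mem_powers_iff_mem_zpowers.2 hg
    exact pow_smul_mem hW j
  letI : MulAction (Subgroup.zpowers a) W :=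
    { smul := fun g w => ⟨(g : L) • (w : V), hmem g g.2 w w.2⟩
      one_smul := fun w => Subtype.ext (one_smul L (w : V))
      mul_smul := fun g h w => Subtype.ext (mul_smul (g : L) (h : L) (w : V)) }
  have hp : IsPGroup r (Subgroup.zpowers a) :=
    IsPGroup.of_card (n := k) (by rw [Nat.card_zpowers, ho])
  refine (hp.card_modEq_card_fixedPoints W).trans ?_
  have e : MulAction.fixedPoints (Subgroup.zpowers a) W ≃ ↥(W ⊓ fixSub V a) :=
    { toFun := fun w => ⟨(w.1 : V), w.1.2,
        congrArg Subtype.val (w.2 ⟨a, Subgroup.mem_zpowers a⟩)⟩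
      invFun := fun w => ⟨⟨w.1, w.2.1⟩, fun g => Subtype.ext (by
        obtain ⟨g, hg⟩ := g
        obtain ⟨j, rfl⟩ := mem_powers_iff_mem_zpowers.2 hg
        exact pow_smul_eq (mem_fixSub.1 w.2.2) j)⟩
      left_inv := fun w => rfl
      right_inv := fun w => rfl }
  rw [Nat.card_congr e]

/-- An element of prime power order without fixed vectors in an invariant subgroup. -/
theorem card_modEq_one [Finite L] {a : L} {r k : ℕ} [Fact r.Prime] (ho : orderOf a = r ^ k)
    (W : AddSubgroup V) (hW : ∀ w ∈ W, a • w ∈ W)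
    (hfix : ∀ w ∈ W, a • w = w → w = 0) : Nat.card W ≡ 1 [MOD r] := by
  refine (card_modEq_fixed ho W hW).trans ?_
  have : W ⊓ fixSub V a = ⊥ := (AddSubgroup.eq_bot_iff_forall _).2 fun w hw => hfix w hw.1 hw.2
  rw [this, AddSubgroup.card_bot]

/-- An element without proper invariant subgroup has cyclic centraliser. -/
theorem isCyclic_cen [Finite L] [FaithfulSMul L V] {x : L} (hne : ∃ w : V, w ≠ 0)
    (hirr : ∀ W : AddSubgroup V, (∀ w ∈ W, x • w ∈ W) → W = ⊥ ∨ W = ⊤) :
    IsCyclic (Subgroup.centralizer ({x} : Set L)) := by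
  let T : AddMonoid.End V := DistribMulAction.toAddMonoidEnd L V x
  let K : Subring (AddMonoid.End V) := Subring.centralizer {T}
  have hcomm : ∀ f ∈ K, ∀ w : V, x • (f w) = f (x • w) := fun f hf w =>
    congrArg (fun q : AddMonoid.End V => q w) (Subring.mem_centralizer_iff.1 hf T rfl)
  have hinj : ∀ f ∈ K, f ≠ 0 → ∀ w : V, f w = 0 → w = 0 := by
    intro f hf hf0
    let Ker : AddSubgroup V := AddMonoidHom.ker (f : V →+ V)
    have hK : ∀ w ∈ Ker, x • w ∈ Ker := fun w hw => by
      show f (x • w) = 0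
      rw [← hcomm f hf w, show f w = 0 from hw, smul_zero]
    rcases hirr Ker hK with h | h
    · intro w hw
      have : w ∈ Ker := hw
      rw [h] at this
      exact AddSubgroup.mem_bot.1 this
    · exact (hf0 (AddMonoidHom.ext fun w => show f w = 0 from
        (show w ∈ Ker from h ▸ AddSubgroup.mem_top w))).elim
  haveI : Finite (AddMonoid.End V) :=
    Finite.of_injective (fun f : AddMonoid.End V => (f : V → V)) DFunLike.coe_injective
  haveI : NoZeroDivisors K := ⟨fun {f g} hfg => by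
    by_contra hc
    push Not at hc
    obtain ⟨hf, hg⟩ := hc
    refine hg (Subtype.ext (AddMonoidHom.ext fun w => ?_))
    refine hinj f f.2 (fun h => hf (Subtype.ext h)) _ ?_
    exact congrArg (fun q : K => (q : AddMonoid.End V) w) hfg⟩
  haveI : Nontrivial K := ⟨⟨0, 1, fun h => by
    obtain ⟨w, hw⟩ := hne
    exact hw (congrArg (fun q : K => (q : AddMonoid.End V) w) h).symm⟩⟩
  haveI : IsDomain K := NoZeroDivisors.to_isDomain K
  letI : Field K := (Finite.isDomain_to_isField K).toField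
  let f : Subgroup.centralizer ({x} : Set L) →* K :=
    { toFun := fun c => ⟨DistribMulAction.toAddMonoidEnd L V (c : L),
        Subring.mem_centralizer_iff.2 fun t ht => by
          rw [Set.mem_singleton_iff] at ht
          subst ht
          show T * _ = _ * T
          simp only [T]
          rw [← map_mul, ← map_mul, Subgroup.mem_centralizer_singleton_iff.1 c.2]⟩
      map_one' := Subtype.ext (map_one (DistribMulAction.toAddMonoidEnd L V))
      map_mul' := fun a b => Subtype.ext (map_mul (DistribMulAction.toAddMonoidEnd L V) _ _) }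
  refine isCyclic_of_subgroup_isDomain f fun a b hab => Subtype.ext ?_
  exact eq_of_smul_eq_smul (α := V) fun w =>
    congrArg (fun q : K => (q : AddMonoid.End V) w) hab

end action

section groupTheory

variable {L : Type u} [Group L] [Finite L]

/-- An element that normalises a cyclic subgroup of prime order without centralising it, and has
2-power order, makes a generator real. -/
theorem isConj_inv_of_normalize {x : L} {r : ℕ} [hr : Fact r.Prime] (hx : orderOf x = r) :
    ∀ (k : ℕ) (g : L), g ^ 2 ^ k = 1 → g * x * g⁻¹ ∈ Subgroup.zpowers x → ¬ Commute g x →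
      IsConj x x⁻¹ := by
  intro k
  induction k with
  | zero =>
    intro g hg _ hgx
    rw [pow_zero, pow_one] at hg
    exact (hgx (hg ▸ Commute.one_left x)).elim
  | succ k ih =>
    intro g hg hmem hgx
    obtain ⟨j, hj⟩ := Subgroup.mem_zpowers_iff.1 hmem
    by_cases h2 : Commute (g ^ 2) x
    · have hu : g * x ^ j * g⁻¹ = x := by
        rw [hj]
        calc g * (g * x * g⁻¹) * g⁻¹ = g ^ 2 * x * (g ^ 2)⁻¹ := by rw [pow_two]; group
          _ = x := by rw [h2.eq, mul_inv_cancel_right]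
      have hfix : g * (x * x ^ j) * g⁻¹ = x * x ^ j := by
        calc g * (x * x ^ j) * g⁻¹ = (g * x * g⁻¹) * (g * x ^ j * g⁻¹) := by group
          _ = x ^ j * x := by rw [hu, ← hj]
          _ = x * x ^ j := ((Commute.refl x).zpow_left j).eq
      have hmem' : x * x ^ j ∈ Subgroup.zpowers x :=
        mul_mem (Subgroup.mem_zpowers x) (Subgroup.zpow_mem_zpowers x j)
      by_cases h1 : x * x ^ j = 1
      · refine isConj_iff.2 ⟨g, ?_⟩
        rw [← hj]
        exact eq_inv_of_mul_eq_one_right h1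
      · exfalso
        apply hgx
        have hcard : Nat.card (Subgroup.zpowers x) = r := by rw [Nat.card_zpowers, hx]
        have : Subgroup.zpowers (x * x ^ j) = Subgroup.zpowers x := by
          refine Subgroup.eq_of_le_of_card_ge (Subgroup.zpowers_le.2 hmem') ?_
          rw [hcard]
          rcases (Nat.dvd_prime hr.out).1 (hcard ▸ Subgroup.card_dvd_of_le
            (Subgroup.zpowers_le.2 hmem')) with h | h
          · rw [Nat.card_zpowers] at h
            exact absurd (orderOf_eq_one_iff.1 h) h1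
          · exact h.ge
        obtain ⟨i, hi⟩ := Subgroup.mem_zpowers_iff.1 (this ▸ Subgroup.mem_zpowers x)
        rw [← hi]
        exact (show Commute g (x * x ^ j) from mul_inv_eq_iff_eq_mul.1 hfix).zpow_right i
    · refine ih (g ^ 2) ?_ ?_ h2
      · rw [← pow_mul, ← pow_succ']
        exact hg
      · rw [show g ^ 2 * x * (g ^ 2)⁻¹ = g * (g * x * g⁻¹) * g⁻¹ by rw [pow_two]; group, ← hj, ← conj_zpow, ← hj,
          ← zpow_mul]
        exact Subgroup.zpow_mem_zpowers x _

/-- An inverter can be chosen as a 2-element normalising a Sylow subgroup that centralises the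
inverted element. -/
theorem exists_inverter {r : ℕ} [Fact r.Prime] {y : L} (hy : IsConj y y⁻¹) {S : Sylow r L}
    (hS : (S : Subgroup L) ≤ cen y) :
    ∃ (g : L) (k : ℕ), orderOf g = 2 ^ k ∧ g * y * g⁻¹ = y⁻¹ ∧
      g ∈ Subgroup.normalizer ((S : Subgroup L) : Set L) := by
  obtain ⟨g0, hg0⟩ := isConj_iff.1 hy
  have hconj : ∀ c ∈ cen y, g0 * c * g0⁻¹ ∈ cen y := by
    intro c hc
    rw [mem_cen] at hc ⊢
    have h1 : g0 * c * g0⁻¹ * y⁻¹ = y⁻¹ * (g0 * c * g0⁻¹) := by
      rw [← hg0]
      calc g0 * c * g0⁻¹ * (g0 * y * g0⁻¹) = g0 * (c * y) * g0⁻¹ := by group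
        _ = g0 * (y * c) * g0⁻¹ := by rw [hc]
        _ = g0 * y * g0⁻¹ * (g0 * c * g0⁻¹) := by group
    have h2 : Commute (g0 * c * g0⁻¹) y⁻¹ := h1
    exact (Commute.inv_right_iff.1 h2).eq
  let S' : Sylow r L := g0 • S
  have hS' : (S' : Subgroup L) ≤ cen y := by
    intro z hz
    have hz' : z ∈ MulAut.conj g0 • (S : Subgroup L) := hz
    rw [Subgroup.mem_pointwise_smul_iff_inv_smul_mem] at hz'
    have := hconj _ (hS hz')
    simpa [MulAut.smul_def, MulAut.inv_def, mul_assoc] using this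
  obtain ⟨c, hc⟩ := MulAction.exists_smul_eq (cen y) (S'.subtype hS') (S.subtype hS)
  rw [Sylow.smul_subtype] at hc
  have hmem : (c : L) * g0 ∈ Subgroup.normalizer ((S : Subgroup L) : Set L) := by
    refine Sylow.smul_eq_iff_mem_normalizer.1 ?_
    rw [mul_smul]
    exact Sylow.subtype_injective hc
  have hinv : (c : L) * g0 * y * ((c : L) * g0)⁻¹ = y⁻¹ := by
    rw [show (c : L) * g0 * y * ((c : L) * g0)⁻¹ = (c : L) * (g0 * y * g0⁻¹) * (c : L)⁻¹ by group,
      hg0, ((show Commute (c : L) y from mem_cen.1 c.2).inv_right).eq, mul_inv_cancel_right]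
  obtain ⟨k, m, hm, hgm⟩ := Nat.exists_eq_two_pow_mul_odd (orderOf_pos ((c : L) * g0)).ne'
  obtain ⟨j, rfl⟩ := hm
  refine ⟨((c : L) * g0) ^ (2 * j + 1), k, ?_, inverts_pow_odd hinv j, pow_mem hmem _⟩
  rw [orderOf_pow' _ (by omega), hgm, Nat.gcd_eq_right (dvd_mul_left _ _), Nat.mul_div_cancel]
  omega

end groupTheory

section spread

variable {L : Type u} {V : Type v} [Group L] [Finite L] [AddCommGroup V] [Finite V]
  [DistribMulAction L V] [FaithfulSMul L V]

omit [Finite L] [FaithfulSMul L V] [Group L] [DistribMulAction L V] in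
theorem card_nonzero (W : AddSubgroup V) :
    Nat.card {w : V // w ∈ W ∧ w ≠ 0} + 1 = Nat.card W := by
  classical
  haveI := Fintype.ofFinite V
  have e : {w : W // w ≠ 0} ≃ {w : V // w ∈ W ∧ w ≠ 0} :=
    { toFun := fun w => ⟨w.1.1, w.1.2, fun h => w.2 (Subtype.ext h)⟩
      invFun := fun w => ⟨⟨w.1, w.2.1⟩, fun h => w.2.2 (congrArg Subtype.val h)⟩
      left_inv := fun w => rfl
      right_inv := fun w => rfl }
  rw [← Nat.card_congr e, Nat.card_eq_fintype_card, Nat.card_eq_fintype_card,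
    Fintype.card_subtype_compl, Fintype.card_subtype_eq]
  have := Fintype.card_pos (α := W)
  omega

omit [FaithfulSMul L V] in
/-- A semiregular subgroup has order dividing the number of nonzero vectors. -/
theorem card_dvd_of_semiregular (H : Subgroup L) (W : AddSubgroup V)
    (hW : ∀ h ∈ H, ∀ w ∈ W, h • w ∈ W)
    (hs : ∀ h ∈ H, h ≠ 1 → ∀ w ∈ W, h • w = w → w = 0) : Nat.card H ∣ Nat.card W - 1 := by
  classical
  haveI := Fintype.ofFinite L
  haveI := Fintype.ofFinite V
  letI : MulAction H {w : V // w ∈ W ∧ w ≠ 0} :=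
    { smul := fun g w => ⟨(g : L) • (w : V), hW g g.2 w w.2.1, fun h => w.2.2 (by
        have := congrArg ((g : L)⁻¹ • ·) h
        simpa using this)⟩
      one_smul := fun w => Subtype.ext (one_smul L (w : V))
      mul_smul := fun g h w => Subtype.ext (mul_smul (g : L) (h : L) (w : V)) }
  haveI := Fintype.ofFinite (MulAction.orbitRel.Quotient H {w : V // w ∈ W ∧ w ≠ 0})
  have hb := MulAction.sum_card_fixedBy_eq_card_orbits_mul_card_group H {w : V // w ∈ W ∧ w ≠ 0}
  rw [Finset.sum_eq_single (1 : H)] at hb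
  · have h1 : Fintype.card (MulAction.fixedBy {w : V // w ∈ W ∧ w ≠ 0} (1 : H))
        = Fintype.card {w : V // w ∈ W ∧ w ≠ 0} :=
      Fintype.card_congr (Equiv.subtypeUnivEquiv fun w => one_smul H w)
    rw [h1] at hb
    rw [← card_nonzero W, Nat.add_sub_cancel, Nat.card_eq_fintype_card (α := H),
      Nat.card_eq_fintype_card (α := {w : V // w ∈ W ∧ w ≠ 0}), hb]
    exact dvd_mul_left _ _
  · intro h _ hh
    rw [Fintype.card_eq_zero_iff]
    exact ⟨fun w => w.1.2.2 (hs h h.2 (fun e => hh (Subtype.ext e)) _ w.1.2.1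
      (congrArg Subtype.val w.2))⟩
  · intro h
    exact absurd (Finset.mem_univ _) h

theorem exists_orderOf_mem (H : Subgroup L) {r : ℕ} [Fact r.Prime] (h : r ∣ Nat.card H) :
    ∃ a ∈ H, orderOf a = r := by
  obtain ⟨a, ha⟩ := exists_prime_orderOf_dvd_card' r h
  exact ⟨a, a.2, by rw [Subgroup.orderOf_coe, ha]⟩

variable {n m : ℕ}

/-- A cyclic centraliser of index prime to the orbit length gives the factorisation. -/
theorem exists_factor {x : L} (hc : IsCyclic (Subgroup.centralizer ({x} : Set L)))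
    (hi : (idx x).Coprime (Nat.card (Sylow 2 L))) :
    ∃ x : L, IsCyclic (Subgroup.centralizer ({x} : Set L)) ∧
      ∀ P : Sylow 2 L, ∀ g : L, ∃ a ∈ Subgroup.centralizer ({x} : Set L),
        ∃ b ∈ Subgroup.normalizer ((P : Subgroup L) : Set L), g = a * b := by
  haveI : Fact (Nat.Prime 2) := ⟨Nat.prime_two⟩
  refine ⟨x, hc, fun P g => ?_⟩
  refine CfsgLib.Product.exists_mul_of_coprime_index ?_ g
  have e := Sylow.card_eq_index_normalizer P
  exact e ▸ hi

theorem Spread.coprime_card_sylow (h : Spread L V)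
    (horb : ∀ w : V, w ≠ 0 → Nat.card (Sylow 2 L) ∣ (MulAction.stabilizer L w).index)
    {y : L} (hy : OddReal y) : (idx y).Coprime (Nat.card (Sylow 2 L)) := by
  obtain ⟨w, hw⟩ := h.exists_ne
  exact (h.coprime y hy w hw).coprime_dvd_right (horb w hw)

theorem card_addSubgroup_eq (hV : Nat.card V = 2 ^ (2 * n)) (W : AddSubgroup V) :
    ∃ i ≤ 2 * n, Nat.card W = 2 ^ i :=
  (Nat.dvd_prime_pow Nat.prime_two).1 (hV ▸ W.card_addSubgroup_dvd_card)

theorem two_pow_modEq_one {r i : ℕ} (h : 2 ^ i ≡ 1 [MOD r]) : r ∣ 2 ^ i - 1 :=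
  (Nat.modEq_iff_dvd' Nat.one_le_two_pow).1 h.symm

/-- The general case: a primitive prime divisor. -/
theorem Spread.exists_cyclic_of_ppd (h : Spread L V) (hex : ∃ y : L, OddReal y)
    (hV : Nat.card V = 2 ^ (2 * n)) {r : ℕ} (hr : CfsgLib.Zsigmondy.IsPPD r 2 (2 * n))
    (hrd : r ∣ Nat.card (Sylow 2 L))
    (horb : ∀ w : V, w ≠ 0 → Nat.card (Sylow 2 L) ∣ (MulAction.stabilizer L w).index) :
    ∃ x : L, IsCyclic (Subgroup.centralizer ({x} : Set L)) ∧
      (idx x).Coprime (Nat.card (Sylow 2 L)) := by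
  haveI : Fact r.Prime := ⟨hr.1⟩
  haveI : Fact (Nat.Prime 2) := ⟨Nat.prime_two⟩
  obtain ⟨y, hy⟩ := hex
  have hr2 : r ≠ 2 := by
    rintro rfl
    have h1 := hr.2.1
    have : 0 < n := by
      by_contra hc
      obtain ⟨w, hw⟩ := h.exists_ne
      obtain rfl : n = 0 := by omega
      rw [mul_zero, pow_zero] at hV
      haveI := (Nat.card_eq_one_iff_unique.1 hV).1
      exact hw (Subsingleton.elim _ _)
    have h2 : 2 ∣ 2 ^ (2 * n) := dvd_pow_self 2 (by omega)
    have := Nat.one_le_two_pow (n := 2 * n)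
    omega
  have hkill : ∀ i ≤ 2 * n, r ∣ 2 ^ i - 1 → i = 0 ∨ i = 2 * n := by
    intro i hi hd
    by_contra hc
    push Not at hc
    exact hr.2.2 i (by omega) (by omega) hd
  -- elements of order `r` act irreducibly
  have hcyc : ∀ x : L, orderOf x = r → IsCyclic (Subgroup.centralizer ({x} : Set L)) := by
    intro x hx
    have hx1 : x ≠ 1 := fun e => hr.1.one_lt.ne' (by rw [← hx, e, orderOf_one])
    have hxo : orderOf x = r ^ 1 := by rw [pow_one, hx]
    have hfix : fixSub V x = ⊥ := by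
      have h1 := card_modEq_fixed hxo (⊤ : AddSubgroup V) (fun w _ => AddSubgroup.mem_top _)
      rw [top_inf_eq, AddSubgroup.card_top, hV] at h1
      obtain ⟨i, hi, hc⟩ := card_addSubgroup_eq hV (fixSub V x)
      rw [hc] at h1
      have h2 : 2 ^ (2 * n) ≡ 1 [MOD r] :=
        ((Nat.modEq_iff_dvd' Nat.one_le_two_pow).2 hr.2.1).symm
      rcases hkill i hi (two_pow_modEq_one (h1.symm.trans h2)) with rfl | rfl
      · exact AddSubgroup.eq_bot_of_card_eq _ (by rw [hc, pow_zero])
      · refine (hx1 (eq_of_smul_eq_smul (α := V) fun w => ?_)).elim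
        have : fixSub V x = ⊤ := AddSubgroup.eq_top_of_card_eq _ (by rw [hc, hV])
        rw [one_smul]
        exact mem_fixSub.1 (this ▸ AddSubgroup.mem_top w)
    refine isCyclic_cen h.exists_ne fun W hW => ?_
    have h1 := card_modEq_one hxo W hW fun w _ hw =>
      AddSubgroup.mem_bot.1 (hfix ▸ (mem_fixSub.2 hw : w ∈ fixSub V x))
    obtain ⟨i, hi, hc⟩ := card_addSubgroup_eq hV W
    rw [hc] at h1
    rcases hkill i hi (two_pow_modEq_one h1) with rfl | rfl
    · exact Or.inl (AddSubgroup.eq_bot_of_card_eq _ (by rw [hc, pow_zero]))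
    · exact Or.inr (AddSubgroup.eq_top_of_card_eq _ (by rw [hc, hV]))
  -- a Sylow subgroup centralising `y`
  have hry : ¬ r ∣ idx y := fun hd =>
    hr.1.one_lt.ne' (Nat.dvd_one.1 ((h.coprime_card_sylow horb hy) ▸ Nat.dvd_gcd hd hrd))
  obtain ⟨S, hS⟩ := exists_sylow_centralizing hry
  have hrL : r ∣ Nat.card L := hrd.trans ((default : Sylow 2 L).card_dvd_index.trans
    (Subgroup.index_dvd_card _))
  have hS1 : r ∣ Nat.card (S : Subgroup L) := S.dvd_card_of_dvd_card hrL
  haveI : Nontrivial (S : Subgroup L) := Finite.one_lt_card_iff_nontrivial.1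
    (lt_of_lt_of_le hr.1.one_lt (Nat.le_of_dvd Nat.card_pos hS1))
  haveI := S.isPGroup'.center_nontrivial
  obtain ⟨x0, hx0⟩ := exists_prime_orderOf_dvd_card' r
    (show r ∣ Nat.card (Subgroup.center (S : Subgroup L)) by
      obtain ⟨e, he, hce⟩ := (S.isPGroup'.to_subgroup (Subgroup.center _)).nontrivial_iff_card.1
        inferInstance
      rw [hce]; exact dvd_pow_self r he.ne')
  let x : L := ((x0 : (S : Subgroup L)) : L)
  have hx : orderOf x = r := by rw [Subgroup.orderOf_coe, Subgroup.orderOf_coe, hx0]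
  have hxS : x ∈ (S : Subgroup L) := (x0 : (S : Subgroup L)).2
  have hSx : (S : Subgroup L) ≤ Subgroup.centralizer ({x} : Set L) := fun s hs =>
    Subgroup.mem_centralizer_singleton_iff.2
      (congrArg Subtype.val (Subgroup.mem_center_iff.1 x0.2 ⟨s, hs⟩))
  haveI := hcyc x hx
  obtain ⟨g, k, hg, hgy, hgS⟩ := exists_inverter hy.real hS
  have hmem : g * x * g⁻¹ ∈ Subgroup.zpowers x := by
    have hgx : g * x * g⁻¹ ∈ Subgroup.centralizer ({x} : Set L) :=
      hSx ((Subgroup.mem_normalizer_iff.1 hgS x).1 hxS)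
    have hxx : x ∈ Subgroup.centralizer ({x} : Set L) := Subgroup.mem_centralizer_singleton_iff.2 rfl
    let a : Subgroup.centralizer ({x} : Set L) := ⟨g * x * g⁻¹, hgx⟩
    let b : Subgroup.centralizer ({x} : Set L) := ⟨x, hxx⟩
    have hb : orderOf b = r := by rw [← Subgroup.orderOf_coe]; exact hx
    have ha : orderOf a = r := by
      rw [← Subgroup.orderOf_coe]
      show orderOf (g * x * g⁻¹) = r
      rw [← hx]
      exact (MulAut.conj g).orderOf_eq x
    obtain ⟨j, hj⟩ := Subgroup.mem_zpowers_iff.1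
      (CfsgLib.GaloisDegree.mem_zpowers_of_orderOf_dvd (x := a) (y := b) (by rw [ha, hb]))
    refine Subgroup.mem_zpowers_iff.2 ⟨j, ?_⟩
    simpa [a, b] using congrArg Subtype.val hj
  have hgx : ¬ Commute g x := by
    intro hc
    letI := (IsCyclic.commGroup : CommGroup (Subgroup.centralizer ({x} : Set L)))
    have hyx : y ∈ Subgroup.centralizer ({x} : Set L) :=
      Subgroup.mem_centralizer_singleton_iff.2 ((mem_cen.1 (hS hxS)).symm)
    have hgc : g ∈ Subgroup.centralizer ({x} : Set L) :=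
      Subgroup.mem_centralizer_singleton_iff.2 hc.eq
    have := congrArg Subtype.val (mul_comm (⟨g, hgc⟩ : Subgroup.centralizer ({x} : Set L)) ⟨y, hyx⟩)
    simp only [Subgroup.coe_mul] at this
    rw [this, mul_inv_cancel_right] at hgy
    exact hy.sq_ne_one (by rw [pow_two]; nth_rw 2 [hgy]; exact mul_inv_cancel y)
  have hreal : IsConj x x⁻¹ :=
    isConj_inv_of_normalize hx k g (by rw [← hg, pow_orderOf_eq_one]) hmem hgx
  exact ⟨x, hcyc x hx, h.coprime_card_sylow horb
    ⟨r, 0, hr.1, hr2, by simpa using hx, hreal⟩⟩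

/-! ### The exceptional case `2 ^ 6` -/

omit [Finite L] [FaithfulSMul L V] in
/-- An element of order three without fixed vectors. -/
theorem sum_three {a : L} (ha : a ^ 3 = 1) (hf : ∀ w : V, a • w = w → w = 0) (v : V) :
    v + a • v + a ^ 2 • v = 0 := by
  refine hf _ ?_
  rw [smul_add, smul_add, smul_smul, smul_smul, ← pow_two, ← pow_succ', ha, one_smul]
  abel

omit [FaithfulSMul L V] in
/-- A real element of order seven without fixed vectors leaves a proper subspace invariant under its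
centraliser. -/
theorem false_of_order_seven (hexp : ∀ w : V, w + w = 0) (hne : ∃ w : V, w ≠ 0) {y g : L}
    (hy : y ^ 7 = 1) (hg : g * y * g⁻¹ = y⁻¹) (hf : ∀ w : V, y • w = w → w = 0)
    (htr : ∀ v w : V, v ≠ 0 → w ≠ 0 → ∃ c : L, Commute c y ∧ c • v = w) : False := by
  let K : AddSubgroup V :=
    { carrier := {v | y ^ 3 • v + y • v + v = 0}
      add_mem' := by
        intro a b ha hb
        simp only [Set.mem_setOf_eq] at *
        rw [smul_add, smul_add, ← add_zero (0 : V)]
        nth_rw 1 [← ha]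
        rw [← hb]
        abel
      zero_mem' := by simp
      neg_mem' := by
        intro a ha
        simp only [Set.mem_setOf_eq] at *
        rw [smul_neg, smul_neg, ← neg_zero, ← ha]
        abel }
  have hK : ∀ v, v ∈ K ↔ y ^ 3 • v + y • v + v = 0 := fun _ => Iff.rfl
  have hKtop : ∀ v ∈ K, v ≠ 0 → ∀ w : V, y ^ 3 • w + y • w + w = 0 := by
    intro v hv hv0 w
    rcases eq_or_ne w 0 with rfl | hw
    · simp
    obtain ⟨c, hc, rfl⟩ := htr v w hv0 hw
    rw [smul_smul, smul_smul, ← (hc.pow_right 3).eq, ← hc.eq, mul_smul, mul_smul, ← smul_add,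
      ← smul_add, (hK v).1 hv, smul_zero]
  have hprod : ∀ v : V, y ^ 3 • v + y ^ 2 • v + v ∈ K := by
    intro v
    have hS : y ^ 6 • v + y ^ 5 • v + y ^ 4 • v + y ^ 3 • v + y ^ 2 • v + y • v + v = 0 := by
      refine hf _ ?_
      simp only [smul_add, smul_smul, ← pow_succ']
      rw [hy, one_smul, ← pow_two]
      abel
    rw [hK]
    simp only [smul_add, smul_smul, ← pow_add, ← pow_succ']
    calc _ = (y ^ 6 • v + y ^ 5 • v + y ^ 4 • v + y ^ 3 • v + y ^ 2 • v + y • v + v)
          + (y ^ 3 • v + y ^ 3 • v) := by abel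
      _ = 0 := by rw [hS, hexp, add_zero]
  have hflip : ∀ P : (L → V → V), (∀ v, P y v = 0) →
      (∀ a v, g • P a (g⁻¹ • v) = P (g * a * g⁻¹) v) → ∀ v, P y⁻¹ v = 0 := by
    intro P hP hcomm v
    rw [← hg, ← hcomm, hP, smul_zero]
  have hboth : (∀ v : V, y ^ 3 • v + y • v + v = 0) ∧ ∀ v : V, y ^ 3 • v + y ^ 2 • v + v = 0 := by
    by_cases h1 : ∃ v ∈ K, v ≠ 0
    · obtain ⟨v, hv, hv0⟩ := h1
      have hA := hKtop v hv hv0
      refine ⟨hA, fun w => ?_⟩
      have := hflip (fun a v => a ^ 3 • v + a • v + v) hA (fun a v => by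
        simp only [smul_add, smul_smul, conj_pow, ← mul_assoc, mul_inv_cancel, one_smul]) w
      have h3 := congrArg (y ^ 3 • ·) this
      simp only [smul_add, smul_smul, smul_zero, inv_pow, mul_inv_cancel, one_smul] at h3
      rw [← h3, show y ^ 3 * y⁻¹ = y ^ 2 by group]
      abel
    · push Not at h1
      have hB : ∀ v : V, y ^ 3 • v + y ^ 2 • v + v = 0 := fun v => h1 _ (hprod v)
      refine ⟨fun w => ?_, hB⟩
      have := hflip (fun a v => a ^ 3 • v + a ^ 2 • v + v) hB (fun a v => by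
        simp only [smul_add, smul_smul, conj_pow, ← mul_assoc, mul_inv_cancel, one_smul]) w
      have h3 := congrArg (y ^ 3 • ·) this
      simp only [smul_add, smul_smul, smul_zero, inv_pow, mul_inv_cancel, one_smul] at h3
      rw [← h3, show y ^ 3 * (y ^ 2)⁻¹ = y by group]
      abel
  obtain ⟨v, hv⟩ := hne
  have h0 : y • v + y ^ 2 • v = 0 := by
    calc y • v + y ^ 2 • v = (y ^ 3 • v + y • v + v) + (y ^ 3 • v + y ^ 2 • v + v)
          + -((y ^ 3 • v + y ^ 3 • v) + (v + v)) := by abel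
      _ = 0 := by rw [hboth.1, hboth.2, hexp (y ^ 3 • v), hexp v]; abel
  have h1 : y • v = 0 := by
    refine hf _ ?_
    rw [smul_smul, ← pow_two]
    calc y ^ 2 • v = (y • v + y ^ 2 • v) + -(y • v + y • v) + y • v := by abel
      _ = y • v := by rw [h0, hexp]; abel
  exact hv (by simpa using congrArg (y⁻¹ • ·) h1)

/-- An element of order nine whose cube is inverted becomes real. -/
theorem isConj_inv_of_nine {x y g : L} (hx : orderOf x = 9) (hy : orderOf y = 3)
    (hyx : y ∈ Subgroup.zpowers x) (hgy : g * y * g⁻¹ = y⁻¹)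
    (hgx : g * x * g⁻¹ ∈ Subgroup.zpowers x) : IsConj x x⁻¹ := by
  obtain ⟨j, hj⟩ : ∃ j : ℕ, x ^ j = g * x * g⁻¹ := mem_powers_iff_mem_zpowers.2 hgx
  obtain ⟨i, hi⟩ : ∃ i : ℕ, x ^ i = y := mem_powers_iff_mem_zpowers.2 hyx
  have h3 : x ^ (3 * i) = 1 := by rw [mul_comm, pow_mul, hi, ← hy, pow_orderOf_eq_one]
  have hi9 : 9 ∣ 3 * i := hx ▸ orderOf_dvd_of_pow_eq_one h3
  have hi0 : ¬ 9 ∣ i := fun hd => by
    rw [← hx] at hd
    rw [orderOf_dvd_iff_pow_eq_one.1 hd] at hi
    rw [← hi, orderOf_one] at hy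
    omega
  have hji : 9 ∣ j * i + i := by
    rw [← hx, orderOf_dvd_iff_pow_eq_one, pow_add, pow_mul, hj, conj_pow, hi, hgy, inv_mul_cancel]
  have hj3 : j % 3 = 2 := by
    obtain ⟨a, rfl⟩ : 3 ∣ i := Nat.dvd_of_mul_dvd_mul_left (by norm_num) (show 3 * 3 ∣ 3 * i from hi9)
    have : 3 ∣ j * a + a := Nat.dvd_of_mul_dvd_mul_left (by norm_num)
      (show 3 * 3 ∣ 3 * (j * a + a) from (show 3 * (j * a + a) = j * (3 * a) + 3 * a by ring) ▸ hji)
    have ha : ¬ 3 ∣ a := fun hd => hi0 (Nat.mul_dvd_mul_left 3 hd)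
    have : 3 ∣ (j + 1) * a := by rwa [add_mul, one_mul]
    have := (Nat.prime_three.dvd_mul.1 this).resolve_right ha
    omega
  have key : ∀ b : ℕ, b < 9 → b % 3 = 2 → b ^ 3 % 9 = 8 := by decide
  have h8 : x ^ (j ^ 3) = x⁻¹ := by
    rw [← pow_mod_orderOf, hx, Nat.pow_mod, key _ (Nat.mod_lt _ (by norm_num)) (by omega)]
    refine eq_inv_of_mul_eq_one_right ?_
    rw [← pow_succ', show 8 + 1 = orderOf x from hx.symm, pow_orderOf_eq_one]
  have hcp : ∀ b : ℕ, g * x ^ b * g⁻¹ = x ^ (j * b) := fun b => by rw [← conj_pow, ← hj, pow_mul]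
  refine isConj_iff.2 ⟨g ^ 3, ?_⟩
  calc g ^ 3 * x * (g ^ 3)⁻¹ = g * (g * (g * x * g⁻¹) * g⁻¹) * g⁻¹ := by
        rw [show g ^ 3 = g * g * g by rw [pow_succ, pow_two]]; group
    _ = x ^ (j * (j * j)) := by rw [← hj, hcp, hcp]
    _ = x⁻¹ := by rw [show j * (j * j) = j ^ 3 by ring, h8]

omit [Finite V] [FaithfulSMul L V] in
/-- The orbit of a nonzero vector of length at least the number of nonzero vectors is everything. -/
theorem orbit_eq_nonzero [Finite V] (hV : Nat.card V = 64) {w : V} (hw : w ≠ 0) (H : Subgroup L)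
    (hd : 63 ∣ (MulAction.stabilizer H w).index) :
    MulAction.orbit H w = {v : V | v ≠ 0} ∧ (MulAction.stabilizer H w).index = 63 := by
  have hsub : MulAction.orbit H w ⊆ {v : V | v ≠ 0} := by
    rintro v ⟨h, rfl⟩ h0
    exact hw (by simpa using congrArg ((h : L)⁻¹ • ·) (show (h : L) • w = 0 from h0))
  have hn : ({v : V | v ≠ 0}).ncard = 63 := by
    have h := card_nonzero (⊤ : AddSubgroup V)
    rw [AddSubgroup.card_top, hV] at h
    rw [← Nat.card_coe_set_eq]
    have e : {v : V | v ≠ 0} ≃ {v : V // v ∈ (⊤ : AddSubgroup V) ∧ v ≠ 0} :=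
      Equiv.subtypeEquivRight fun v => by simp
    rw [Nat.card_congr e]
    omega
  rw [MulAction.index_stabilizer] at hd ⊢
  have hle : ({v : V | v ≠ 0}).ncard ≤ (MulAction.orbit H w).ncard := by
    rw [hn]
    refine Nat.le_of_dvd ?_ hd
    exact (Set.ncard_pos (Set.toFinite _)).2 ⟨w, MulAction.mem_orbit_self w⟩
  have he := Set.eq_of_subset_of_ncard_le hsub hle (Set.toFinite _)
  exact ⟨he, by rw [he, hn]⟩

/-- A group acting faithfully on a 2-group of exponent two and order 64. -/
theorem card_dvd_gl_six (hexp : ∀ w : V, w + w = 0) (hV : Nat.card V = 64) :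
    Nat.card L ∣ 20158709760 := by
  letI : Module (ZMod 2) V := AddCommGroup.zmodModule fun w => by rw [two_nsmul]; exact hexp w
  have hfr : Module.finrank (ZMod 2) V = 6 := by
    have h := Module.natCard_eq_pow_finrank (K := ZMod 2) (V := V)
    rw [hV, Nat.card_zmod, show (64 : ℕ) = 2 ^ 6 by norm_num] at h
    exact (Nat.pow_right_injective le_rfl h).symm
  let b := Module.finBasisOfFinrankEq (ZMod 2) V hfr
  let φ : L →* Module.End (ZMod 2) V :=
    { toFun := fun g => (DistribMulAction.toAddMonoidHom V g).toZModLinearMap 2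
      map_one' := LinearMap.ext fun w => one_smul L w
      map_mul' := fun g h => LinearMap.ext fun w => mul_smul g h w }
  let ψ : L →* GL (Fin 6) (ZMod 2) :=
    (Units.mapEquiv (LinearMap.toMatrixAlgEquiv b).toMulEquiv).toMonoidHom.comp φ.toHomUnits
  have hinj : Function.Injective ψ := by
    intro g h e
    have e' : φ g = φ h := congrArg Units.val
      ((Units.mapEquiv (LinearMap.toMatrixAlgEquiv b).toMulEquiv).injective e)
    exact eq_of_smul_eq_smul (α := V) fun w => congrArg (fun f => f w) e'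
  have h := Subgroup.card_dvd_of_injective ψ hinj
  rw [Matrix.card_GL_field, ZMod.card] at h
  simp only [Fin.prod_univ_six] at h
  norm_num at h
  exact h

set_option maxHeartbeats 4000000 in
/-- The exceptional case: order 64 and transitive. -/
theorem Spread.exists_cyclic_of_three (h : Spread L V) (hex : ∃ y : L, OddReal y)
    (hV : Nat.card V = 64) (hinv : ∀ t : L, orderOf t = 2 → Nat.card {w : V // t • w = w} = 8)
    (hd : Nat.card (Sylow 2 L) = 63)
    (horb : ∀ w : V, w ≠ 0 → Nat.card (Sylow 2 L) ∣ (MulAction.stabilizer L w).index) :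
    ∃ x : L, IsCyclic (Subgroup.centralizer ({x} : Set L)) ∧
      (idx x).Coprime (Nat.card (Sylow 2 L)) := by
  haveI : Fact (Nat.Prime 3) := ⟨Nat.prime_three⟩
  haveI : Fact (Nat.Prime 7) := ⟨by norm_num⟩
  obtain ⟨w₀, hw₀⟩ := h.exists_ne
  have hV6 : Nat.card V = 2 ^ (2 * 3) := hV
  -- transitivity
  have htop : ∀ w : V, w ≠ 0 → MulAction.orbit L w = {v : V | v ≠ 0} ∧
      (MulAction.stabilizer L w).index = 63 := by
    intro w hw
    have hd63 : 63 ∣ (MulAction.stabilizer L w).index := hd ▸ horb w hw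
    have he : (MulAction.stabilizer (⊤ : Subgroup L) w).index = (MulAction.stabilizer L w).index := by
      rw [MulAction.index_stabilizer, MulAction.index_stabilizer]
      congr 1
      ext v
      exact ⟨fun ⟨c, hc⟩ => ⟨(c : L), hc⟩, fun ⟨c, hc⟩ => ⟨⟨c, Subgroup.mem_top c⟩, hc⟩⟩
    obtain ⟨h1, h2⟩ := orbit_eq_nonzero hV hw ⊤ (he ▸ hd63)
    refine ⟨?_, he ▸ h2⟩
    rw [← h1]
    ext v
    exact ⟨fun ⟨c, hc⟩ => ⟨⟨c, Subgroup.mem_top c⟩, hc⟩, fun ⟨c, hc⟩ => ⟨(c : L), hc⟩⟩
  -- a real element of prime order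
  obtain ⟨q, y, hq, hq2, hyo, hy⟩ : ∃ (q : ℕ) (y : L), q.Prime ∧ q ≠ 2 ∧ orderOf y = q ∧
      IsConj y y⁻¹ := by
    obtain ⟨y0, q, k, hq, hq2, hy0, hr⟩ := hex
    obtain ⟨g, hg⟩ := isConj_iff.1 hr
    refine ⟨q, y0 ^ q ^ k, hq, hq2, ?_, isConj_iff.2 ⟨g, by rw [← conj_pow, hg, inv_pow]⟩⟩
    rw [orderOf_pow' _ (pow_ne_zero _ hq.ne_zero), hy0,
      Nat.gcd_eq_right (pow_dvd_pow q (Nat.le_succ k)), Nat.pow_div (Nat.le_succ k) hq.pos,
      Nat.succ_sub (le_refl k), Nat.sub_self, pow_one]
  haveI : Fact q.Prime := ⟨hq⟩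
  have hyr : OddReal y := ⟨q, 0, hq, hq2, by simpa using hyo, hy⟩
  have hfy : ∀ w : V, y • w = w → w = 0 := h.fpf y hyr
  -- the centraliser is transitive
  have htr : ∀ v w : V, v ≠ 0 → w ≠ 0 → ∃ c : L, Commute c y ∧ c • v = w := by
    intro v w hv hw
    obtain ⟨l, hl⟩ : w ∈ MulAction.orbit L v := (htop v hv).1 ▸ hw
    obtain ⟨a, ha, b, hb, hab⟩ := CfsgLib.Product.exists_mul_of_coprime_index
      (h.coprime y hyr v hv) l
    refine ⟨a, mem_cen.1 ha, ?_⟩
    rw [← hl]
    show a • v = l • v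
    rw [hab, mul_smul, MulAction.mem_stabilizer_iff.1 hb]
  have hq63 : q ∣ 63 := by
    have h1 := card_modEq_one (k := 1) (by rw [pow_one, hyo]) (⊤ : AddSubgroup V)
      (fun w _ => AddSubgroup.mem_top _) (fun w _ => hfy w)
    rw [AddSubgroup.card_top, hV] at h1
    exact (Nat.modEq_iff_dvd' (by norm_num)).1 h1.symm
  obtain ⟨g0, hg0⟩ := isConj_iff.1 hy
  have hy3 : orderOf y = 3 := by
    rw [show (63 : ℕ) = 3 * 3 * 7 by norm_num, hq.dvd_mul, hq.dvd_mul] at hq63
    rcases hq63 with (h3 | h3) | h7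
    · rw [hyo, (Nat.prime_dvd_prime_iff_eq hq Nat.prime_three).1 h3]
    · rw [hyo, (Nat.prime_dvd_prime_iff_eq hq Nat.prime_three).1 h3]
    · exfalso
      have : q = 7 := (Nat.prime_dvd_prime_iff_eq hq (by norm_num)).1 h7
      exact false_of_order_seven h.exp2 h.exists_ne (by rw [← this, ← hyo, pow_orderOf_eq_one])
        hg0 hfy htr
  have hy31 : orderOf y = 3 ^ 1 := by rw [pow_one, hy3]
  -- invariant subgroups under `y`
  have hWy : ∀ W : AddSubgroup V, (∀ w ∈ W, y • w ∈ W) →
      Nat.card W = 1 ∨ Nat.card W = 4 ∨ Nat.card W = 16 ∨ Nat.card W = 64 := by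
    intro W hW
    have h1 := card_modEq_one hy31 W hW fun w _ => hfy w
    obtain ⟨i, hi, hc⟩ := card_addSubgroup_eq hV6 W
    rw [hc] at h1 ⊢
    unfold Nat.ModEq at h1
    interval_cases i <;> first | omega | norm_num | norm_num at h1
  let Y : Subgroup L := cen y
  have hmemY : ∀ {c : L}, c ∈ Y ↔ Commute c y := fun {c} => mem_cen
  have hyY : y ∈ Y := hmemY.2 (Commute.refl y)
  have hfixY : ∀ c ∈ Y, ∀ w ∈ fixSub V c, y • w ∈ fixSub V c := fun c hc w hw =>
    smul_fixSub (hmemY.1 hc) hw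
  have hfix_top : ∀ c : L, Nat.card (fixSub V c) = 64 → c = 1 := by
    intro c hc
    refine eq_of_smul_eq_smul (α := V) fun w => ?_
    have : fixSub V c = ⊤ := AddSubgroup.eq_top_of_card_eq _ (by rw [hc, hV])
    rw [one_smul]
    exact mem_fixSub.1 (this ▸ AddSubgroup.mem_top w)
  -- the centraliser has odd order
  have hodd : ¬ 2 ∣ Nat.card Y := by
    intro h2
    haveI : Fact (Nat.Prime 2) := ⟨Nat.prime_two⟩
    obtain ⟨t, htY, ht⟩ := exists_orderOf_mem (r := 2) Y h2
    have h8 : Nat.card (fixSub V t) = 8 := hinv t ht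
    rcases hWy _ (hfixY t htY) with e | e | e | e <;> omega
  -- prime order elements
  have hprime : ∀ c ∈ Y, ∀ r : ℕ, r.Prime → orderOf c = r →
      (∃ w : V, w ≠ 0 ∧ c • w = w) → r ∣ 60 ∨ r ∣ 48 := by
    intro c hc r hr hco ⟨w, hw, hcw⟩
    haveI : Fact r.Prime := ⟨hr⟩
    have h1 := card_modEq_fixed (k := 1) (by rw [pow_one, hco]) (⊤ : AddSubgroup V)
      (fun w _ => AddSubgroup.mem_top (c • w))
    rw [top_inf_eq, AddSubgroup.card_top, hV] at h1
    rcases hWy _ (hfixY c hc) with e | e | e | e <;> rw [e] at h1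
    · have : fixSub V c = ⊥ := AddSubgroup.eq_bot_of_card_eq _ e
      exact (hw (AddSubgroup.mem_bot.1 (this ▸ (mem_fixSub.2 hcw : w ∈ fixSub V c)))).elim
    · exact Or.inl ((Nat.modEq_iff_dvd' (by norm_num)).1 h1.symm)
    · exact Or.inr ((Nat.modEq_iff_dvd' (by norm_num)).1 h1.symm)
    · exact (hr.one_lt.ne' (by rw [← hco, hfix_top c e, orderOf_one])).elim
  have h31 : ¬ 31 ∣ Nat.card Y := by
    intro h31
    haveI : Fact (Nat.Prime 31) := ⟨by norm_num⟩
    obtain ⟨c, hcY, hc⟩ := exists_orderOf_mem Y h31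
    by_cases hw : ∃ w : V, w ≠ 0 ∧ c • w = w
    · rcases hprime c hcY 31 (by norm_num) hc hw with h' | h' <;> norm_num at h'
    · push Not at hw
      have h1 := card_modEq_one (k := 1) (by rw [pow_one, hc]) (⊤ : AddSubgroup V)
        (fun w _ => AddSubgroup.mem_top _) (fun w _ hw' => by_contra fun h0 => hw w h0 hw')
      rw [AddSubgroup.card_top, hV] at h1
      norm_num [Nat.ModEq] at h1
  -- transitivity of `Y`
  have hY63 : ∀ w : V, w ≠ 0 → (MulAction.stabilizer Y w).index = 63 := by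
    intro w hw
    have he : MulAction.orbit Y w = {v : V | v ≠ 0} := by
      ext v
      constructor
      · rintro ⟨c, rfl⟩ h0
        exact hw (by simpa using congrArg ((c : L)⁻¹ • ·) (show (c : L) • w = 0 from h0))
      · intro hv
        obtain ⟨c, hc, hcw⟩ := htr w v hw hv
        exact ⟨⟨c, hmemY.2 hc⟩, hcw⟩
    have := (htop w hw).2
    rw [MulAction.index_stabilizer, (htop w hw).1, ← he] at this
    rw [MulAction.index_stabilizer, this]
  have h63Y : 63 ∣ Nat.card Y := hY63 w₀ hw₀ ▸ Subgroup.index_dvd_card _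
  -- elements of order seven act fixed point freely
  have h7fpf : ∀ c ∈ Y, orderOf c = 7 → ∀ w : V, c • w = w → w = 0 := by
    intro c hc hco w hw
    by_contra h0
    rcases hprime c hc 7 (by norm_num) hco ⟨w, h0, hw⟩ with h' | h' <;> norm_num at h'
  have h49 : ¬ 49 ∣ Nat.card Y := by
    intro h49
    obtain ⟨Q, hQ⟩ := Sylow.exists_subgroup_card_pow_prime 7 (n := 2) (show 7 ^ 2 ∣ Nat.card Y from h49)
    let Q' : Subgroup L := Q.map Y.subtype
    have hQ' : Nat.card Q' = 49 := by
      rw [Subgroup.card_map_of_injective Y.subtype_injective, hQ]; norm_num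
    have hdvd := card_dvd_of_semiregular (V := V) Q' ⊤ (fun _ _ _ _ => AddSubgroup.mem_top _) (by
      intro c hc hc1 w _ hw
      have h49' : orderOf c ∣ 7 ^ 2 := by
        rw [show (7 : ℕ) ^ 2 = 49 by norm_num, ← hQ']
        exact Subgroup.orderOf_dvd_natCard Q' hc
      obtain ⟨i, hi, hic⟩ := (Nat.dvd_prime_pow (by norm_num)).1 h49'
      have hi0 : i ≠ 0 := by
        rintro rfl
        exact hc1 (orderOf_eq_one_iff.1 (by rw [hic, pow_zero]))
      refine h7fpf (c ^ 7 ^ (i - 1)) (pow_mem (Subgroup.map_subtype_le Q hc) _) ?_ w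
        (pow_smul_eq hw _)
      rw [orderOf_pow' _ (by positivity), hic, Nat.gcd_eq_right (pow_dvd_pow 7 (Nat.sub_le i 1)),
        Nat.pow_div (Nat.sub_le i 1) (by norm_num), show i - (i - 1) = 1 by omega, pow_one])
    rw [hQ', AddSubgroup.card_top, hV] at hdvd
    norm_num at hdvd
  -- the order of `Y`
  obtain ⟨k, hk⟩ : 7 ∣ Nat.card Y := (by norm_num : 7 ∣ 63).trans h63Y
  have hk405 : k ∣ 405 := by
    have h1 : Nat.card Y ∣ 2 ^ 15 * (31 * (7 * (7 * 405))) := by
      refine (Subgroup.card_subgroup_dvd_card Y).trans ?_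
      norm_num
      exact card_dvd_gl_six h.exp2 hV
    have h2 : Nat.card Y ∣ 31 * (7 * (7 * 405)) :=
      (Nat.Coprime.pow_right 15 ((Nat.prime_two.coprime_iff_not_dvd.2 hodd).symm)).dvd_of_dvd_mul_left h1
    have h3 : Nat.card Y ∣ 7 * (7 * 405) :=
      (((show Nat.Prime 31 by norm_num).coprime_iff_not_dvd.2 h31).symm).dvd_of_dvd_mul_left h2
    rw [hk] at h3
    have h4 : k ∣ 7 * 405 := Nat.dvd_of_mul_dvd_mul_left (by norm_num) h3
    have h7k : ¬ 7 ∣ k := fun hd7 => h49 (hk ▸ Nat.mul_dvd_mul_left 7 hd7)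
    exact (((show Nat.Prime 7 by norm_num).coprime_iff_not_dvd.2 h7k).symm).dvd_of_dvd_mul_left h4
  -- the Sylow 7-subgroup is normal
  obtain ⟨z, hzY, hz7⟩ := exists_orderOf_mem (r := 7) Y ⟨k, hk⟩
  let zY : Y := ⟨z, hzY⟩
  have hzY7 : orderOf zY = 7 := by rw [← Subgroup.orderOf_coe]; exact hz7
  have hfac : 7 ^ (Nat.card Y).factorization 7 = 7 := by
    have hle : (Nat.card Y).factorization 7 ≤ 1 := by
      by_contra hc
      push Not at hc
      exact h49 ((pow_dvd_pow 7 hc).trans (Nat.ordProj_dvd _ 7))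
    have hpos : 0 < (Nat.card Y).factorization 7 :=
      (show Nat.Prime 7 by norm_num).factorization_pos_of_dvd Nat.card_pos.ne' ⟨k, hk⟩
    rw [show (Nat.card Y).factorization 7 = 1 by omega, pow_one]
  let P7 : Sylow 7 Y := Sylow.ofCard (Subgroup.zpowers zY) (by rw [Nat.card_zpowers, hzY7, hfac])
  have hP7 : (P7 : Subgroup Y) = Subgroup.zpowers zY := rfl
  have hn7 : Nat.card (Sylow 7 Y) = 1 := by
    have hsol : Group.IsSolvable Y := Cfsg.Agent.S0205.result
      (Nat.not_even_iff_odd.1 fun he => hodd (even_iff_two_dvd.1 he))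
    obtain ⟨E, hE, hzE⟩ := CfsgLib.OddStep14.exists_hall_ge (π := {3, 7}) (M := (⊤ : Subgroup Y))
      (Y := Subgroup.zpowers zY) (by
        haveI := hsol
        exact solvable_of_solvable_injective (f := (⊤ : Subgroup Y).subtype)
          (Subgroup.subtype_injective _)) le_top
      (CfsgLib.OddStep14.isPi_zpowers_iff.2 fun p hp hd7 => by
        rw [hzY7] at hd7
        exact Or.inr ((Nat.prime_dvd_prime_iff_eq hp (by norm_num)).1 hd7))
    have hEn : E ≤ Subgroup.normalizer ((Subgroup.zpowers zY : Subgroup Y) : Set Y) := by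
      have hzE' : (P7 : Subgroup Y) ≤ E := by rw [hP7]; exact hzE
      let PE : Sylow 7 E := P7.subtype hzE'
      have hone : Nat.card (Sylow 7 E) = 1 := by
        have hmod := card_sylow_modEq_one 7 E
        have hdiv : Nat.card (Sylow 7 E) ∣ Nat.card E :=
          PE.card_dvd_index.trans (Subgroup.index_dvd_card _)
        have hcop : (Nat.card (Sylow 7 E)).Coprime 7 := by
          refine ((show Nat.Prime 7 by norm_num).coprime_iff_not_dvd.2 fun hd7 => ?_).symm
          have := hmod.symm.trans (Nat.modEq_zero_iff_dvd.2 hd7)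
          norm_num [Nat.ModEq] at this
        have h5 : (Nat.card (Sylow 7 E)).Coprime 5 := by
          refine ((show Nat.Prime 5 by norm_num).coprime_iff_not_dvd.2 fun hd5 => ?_).symm
          rcases hE.2.1 5 (by norm_num) (hd5.trans hdiv) with h' | h' <;> norm_num at h'
        have h405 : Nat.card (Sylow 7 E) ∣ 405 := by
          refine (hcop.dvd_of_dvd_mul_left (hdiv.trans ((Subgroup.card_subgroup_dvd_card E).trans ?_)))
          rw [hk]
          exact Nat.mul_dvd_mul_left 7 hk405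
        have h81 : Nat.card (Sylow 7 E) ∣ 81 :=
          h5.dvd_of_dvd_mul_right (show Nat.card (Sylow 7 E) ∣ 81 * 5 from h405)
        obtain ⟨i, hi, hic⟩ := (Nat.dvd_prime_pow Nat.prime_three).1
          (show Nat.card (Sylow 7 E) ∣ 3 ^ 4 from h81)
        rw [hic] at hmod ⊢
        unfold Nat.ModEq at hmod
        interval_cases i <;> first | omega | norm_num | norm_num at hmod
      haveI : Subsingleton (Sylow 7 E) := (Nat.card_eq_one_iff_unique.1 hone).1
      haveI : (PE : Subgroup E).Normal := PE.normal_of_subsingleton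
      have hnorm : ((Subgroup.zpowers zY).subgroupOf E).Normal := by
        have hPE : (PE : Subgroup E) = (Subgroup.zpowers zY).subgroupOf E := by
          show ((P7.subtype hzE' : Sylow 7 E) : Subgroup E) = _
          rw [Sylow.coe_subtype, hP7]
        rw [← hPE]
        infer_instance
      exact (Subgroup.normal_subgroupOf_iff_le_normalizer hzE).1 hnorm
    have hn : Nat.card (Sylow 7 Y) ∣ E.index := by
      have e := Sylow.card_eq_index_normalizer P7
      rw [e]
      refine Subgroup.index_dvd_of_le ?_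
      exact hEn
    have h3 : ¬ 3 ∣ Nat.card (Sylow 7 Y) := fun h3 => hE.2.2 3 Nat.prime_three (Or.inl rfl) (by
      rw [Subgroup.relIndex_top_right]; exact h3.trans hn)
    have hmod := card_sylow_modEq_one 7 Y
    have hcop : (Nat.card (Sylow 7 Y)).Coprime 7 := by
      refine ((show Nat.Prime 7 by norm_num).coprime_iff_not_dvd.2 fun hd7 => ?_).symm
      have := hmod.symm.trans (Nat.modEq_zero_iff_dvd.2 hd7)
      norm_num [Nat.ModEq] at this
    have h405 : Nat.card (Sylow 7 Y) ∣ 81 * 5 := by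
      suffices hmul : Nat.card (Sylow 7 Y) ∣ 7 * (81 * 5) from hcop.dvd_of_dvd_mul_left hmul
      refine (P7.card_dvd_index.trans (Subgroup.index_dvd_card _)).trans ?_
      rw [hk]
      exact Nat.mul_dvd_mul_left 7 hk405
    have h5 : Nat.card (Sylow 7 Y) ∣ 5 :=
      (((Nat.prime_three.coprime_iff_not_dvd.2 h3).symm).pow_right 4).dvd_of_dvd_mul_left
        (show Nat.card (Sylow 7 Y) ∣ 3 ^ 4 * 5 from h405)
    rcases (Nat.dvd_prime (by norm_num)).1 h5 with e | e
    · exact e
    · rw [e] at hmod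
      norm_num [Nat.ModEq] at hmod
  have huniq : ∀ c ∈ Y, orderOf c = 7 → c ∈ Subgroup.zpowers z := by
    intro c hc hco
    haveI : Subsingleton (Sylow 7 Y) := (Nat.card_eq_one_iff_unique.1 hn7).1
    obtain ⟨Q, hQ⟩ := IsPGroup.exists_le_sylow (p := 7) (P := Subgroup.zpowers (⟨c, hc⟩ : Y))
      (IsPGroup.of_card (n := 1) (by
        rw [Nat.card_zpowers, ← Subgroup.orderOf_coe, pow_one]; exact hco))
    rw [Subsingleton.elim Q P7, hP7] at hQ
    obtain ⟨i, hi⟩ := Subgroup.mem_zpowers_iff.1 (hQ (Subgroup.mem_zpowers (⟨c, hc⟩ : Y)))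
    exact Subgroup.mem_zpowers_iff.2 ⟨i, by simpa [zY] using congrArg Subtype.val hi⟩
  -- the centraliser of `z` in `Y`
  have hcyz : Commute y z := (hmemY.1 hzY).symm
  have hy3' : y ^ 3 = 1 := by rw [← hy3, pow_orderOf_eq_one]
  have hz7' : z ^ 7 = 1 := by rw [← hz7, pow_orderOf_eq_one]
  have hW2 : ∀ W : AddSubgroup V, (∀ w ∈ W, y • w ∈ W) → (∀ w ∈ W, z • w ∈ W) →
      W = ⊥ ∨ W = ⊤ := by
    intro W hW hWz
    have h1 := card_modEq_one (k := 1) (by rw [pow_one, hz7]) W hWz fun w _ => h7fpf z hzY hz7 w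
    rcases hWy W hW with e | e | e | e <;> rw [e] at h1
    · exact Or.inl (AddSubgroup.eq_bot_of_card_eq _ e)
    · norm_num [Nat.ModEq] at h1
    · norm_num [Nat.ModEq] at h1
    · exact Or.inr (AddSubgroup.eq_top_of_card_eq _ (by rw [e, hV]))
  haveI : IsCyclic (Subgroup.centralizer ({y * z} : Set L)) := by
    refine isCyclic_cen h.exists_ne fun W hW => hW2 W ?_ ?_
    · intro w hw
      have e : (y * z) ^ 7 = y := by
        rw [hcyz.mul_pow, hz7', mul_one, show (7 : ℕ) = 3 * 2 + 1 by norm_num, pow_succ, pow_mul,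
          hy3', one_pow, one_mul]
      exact e ▸ pow_smul_mem hW 7 w hw
    · intro w hw
      have e : (y * z) ^ 15 = z := by
        rw [hcyz.mul_pow, show (15 : ℕ) = 7 * 2 + 1 by norm_num, pow_succ z, pow_mul z, hz7', one_pow,
          one_mul, show 7 * 2 + 1 = 3 * 5 by norm_num, pow_mul, hy3', one_pow, one_mul]
      exact e ▸ pow_smul_mem hW 15 w hw
  let D : Subgroup L := Y ⊓ cen z
  have hDC : D ≤ Subgroup.centralizer ({y * z} : Set L) := fun c hc =>
    Subgroup.mem_centralizer_singleton_iff.2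
      ((hmemY.1 hc.1).mul_right (show Commute c z from mem_cen.1 hc.2)).eq
  haveI : IsCyclic D := Subgroup.isCyclic_of_le hDC
  have hD63 : Nat.card D ∣ 63 := by
    have := card_dvd_of_semiregular (V := V) D ⊤ (fun _ _ _ _ => AddSubgroup.mem_top _) (by
      intro c hc hc1 w _ hw
      rcases hW2 (fixSub V c) (hfixY c hc.1)
        (fun v hv => smul_fixSub (show Commute c z from mem_cen.1 hc.2) hv) with e | e
      · exact AddSubgroup.mem_bot.1 (e ▸ (mem_fixSub.2 hw : w ∈ fixSub V c))
      · exact absurd (hfix_top c (by rw [e, AddSubgroup.card_top, hV])) hc1)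
    rwa [AddSubgroup.card_top, hV] at this
  have hyD : y ∈ D := ⟨hyY, mem_cen.2 hcyz.eq⟩
  have hzD : z ∈ D := ⟨hzY, mem_cen.2 rfl⟩
  have h21 : 21 ∣ Nat.card D := by
    have h3 : 3 ∣ Nat.card D := hy3 ▸ Subgroup.orderOf_dvd_natCard D hyD
    have h7 : 7 ∣ Nat.card D := hz7 ▸ Subgroup.orderOf_dvd_natCard D hzD
    exact (show Nat.Coprime 3 7 by norm_num).mul_dvd_of_dvd_of_dvd h3 h7
  have hgY : ∀ c ∈ Y, g0 * c * g0⁻¹ ∈ Y := by
    intro c hc
    refine hmemY.2 (Commute.inv_right_iff.1 ?_)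
    rw [← hg0]
    exact (hmemY.1 hc).map (MulAut.conj g0).toMonoidHom
  -- an element of order nine
  obtain ⟨x, g, hx, hyx, hgy, hgx⟩ : ∃ x g : L, orderOf x = 9 ∧ y ∈ Subgroup.zpowers x ∧
      g * y * g⁻¹ = y⁻¹ ∧ g * x * g⁻¹ ∈ Subgroup.zpowers x := by
    obtain ⟨e, he⟩ := h21
    have he3 : e ∣ 3 := Nat.dvd_of_mul_dvd_mul_left (show 0 < 21 by norm_num)
      (he ▸ hD63 : 21 * e ∣ 21 * 3)
    rcases (Nat.dvd_prime Nat.prime_three).1 he3 with rfl | rfl
    · -- `D` of order 21: `Y` is regular of order 63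
      rw [mul_one] at he
      have hYcard : Nat.card Y = 63 := by
        haveI : (Subgroup.zpowers zY).Normal := by
          haveI : Subsingleton (Sylow 7 Y) := (Nat.card_eq_one_iff_unique.1 hn7).1
          rw [← hP7]
          exact P7.normal_of_subsingleton
        let φ : Y →* MulAut (Subgroup.zpowers zY) := MulAut.conjNormal
        have hker : φ.ker = (D).subgroupOf Y := by
          ext c
          constructor
          · intro hc
            have h1 := congrArg (fun a : MulAut (Subgroup.zpowers zY) =>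
              (((a ⟨zY, Subgroup.mem_zpowers _⟩ : Subgroup.zpowers zY) : Y) : L))
              (MonoidHom.mem_ker.1 hc)
            simp only [φ, MulAut.conjNormal_apply, MulAut.one_apply, Subgroup.coe_mul,
              Subgroup.coe_inv, zY] at h1
            exact Subgroup.mem_subgroupOf.2 ⟨c.2, mem_cen.2 (mul_inv_eq_iff_eq_mul.1 h1)⟩
          · intro hc
            refine MonoidHom.mem_ker.2 (MulEquiv.ext fun a => Subtype.ext ?_)
            obtain ⟨i, hi⟩ := Subgroup.mem_zpowers_iff.1 a.2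
            have hcz : Commute c zY := Subtype.ext (mem_cen.1 (Subgroup.mem_subgroupOf.1 hc).2)
            simp only [φ, MulAut.conjNormal_apply, MulAut.one_apply]
            rw [← hi, (hcz.zpow_right i).eq, mul_inv_cancel_right]
        have hidx : ((D).subgroupOf Y).index ∣ 6 := by
          rw [← hker, Subgroup.index_ker]
          refine (Subgroup.card_subgroup_dvd_card _).trans ?_
          rw [IsCyclic.card_mulAut, Nat.card_zpowers, hzY7,
            Nat.totient_prime (by norm_num : Nat.Prime 7)]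
        have hmul := ((D).subgroupOf Y).card_mul_index
        rw [Nat.card_congr (Subgroup.subgroupOfEquivOfLe (inf_le_left : D ≤ Y)).toEquiv, he] at hmul
        obtain ⟨i, hi⟩ : ∃ i, ((D).subgroupOf Y).index = i := ⟨_, rfl⟩
        rw [hi] at hmul hidx
        have hi6 : i ≤ 6 := Nat.le_of_dvd (by norm_num) hidx
        rw [← hmul] at hodd h63Y ⊢
        interval_cases i <;> omega
      have hreg : ∀ c ∈ Y, c ≠ 1 → ∀ w : V, c • w = w → w = 0 := by
        intro c hc hc1 w hw
        by_contra hw0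
        have hs := (MulAction.stabilizer Y w).card_mul_index
        rw [hY63 w hw0, hYcard] at hs
        have h1 : Nat.card (MulAction.stabilizer Y w) = 1 := by omega
        have hmem : (⟨c, hc⟩ : Y) ∈ MulAction.stabilizer Y w := hw
        rw [Subgroup.card_eq_one] at h1
        rw [h1, Subgroup.mem_bot] at hmem
        exact hc1 (congrArg Subtype.val hmem)
      have h3y : ¬ 3 ∣ idx y := by
        intro h3
        have := (h.coprime_card_sylow horb hyr)
        rw [hd] at this
        exact absurd (this ▸ Nat.dvd_gcd h3 (by norm_num : 3 ∣ 63) : 3 ∣ 1) (by norm_num)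
      obtain ⟨S, hS⟩ := exists_sylow_centralizing h3y
      have hS9 : Nat.card (S : Subgroup L) = 9 := by
        have h9 : 3 ^ 2 ∣ Nat.card (S : Subgroup L) :=
          S.pow_dvd_card_of_pow_dvd_card ((show 3 ^ 2 ∣ 63 by norm_num).trans
            (h63Y.trans (Subgroup.card_subgroup_dvd_card Y)))
        obtain ⟨i, hi⟩ := S.isPGroup'.exists_card_eq
        have h63 : 3 ^ i ∣ 63 := hi ▸ hYcard ▸ Subgroup.card_dvd_of_le hS
        have hi3 : i ≤ 2 := by
          by_contra hc
          push Not at hc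
          have := (pow_dvd_pow 3 hc).trans h63
          norm_num at this
        rw [hi] at h9 ⊢
        have := (Nat.pow_dvd_pow_iff_le_right (by norm_num : 1 < 3)).1 h9
        rw [show i = 2 by omega]; norm_num
      obtain ⟨x, hxS, hx9⟩ : ∃ x ∈ (S : Subgroup L), orderOf x = 9 := by
        by_contra hno
        push Not at hno
        have h3 : ∀ c ∈ (S : Subgroup L), c ^ 3 = 1 := by
          intro c hc
          obtain ⟨i, hi, hci⟩ := (Nat.dvd_prime_pow Nat.prime_three).1
            (show orderOf c ∣ 3 ^ 2 by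
              rw [show (3 : ℕ) ^ 2 = 9 by norm_num, ← hS9]; exact Subgroup.orderOf_dvd_natCard _ hc)
          have hi1 : i ≤ 1 := by
            by_contra hc1
            exact hno c hc (by rw [hci, show i = 2 by omega]; norm_num)
          exact orderOf_dvd_iff_pow_eq_one.1
            (hci ▸ (pow_dvd_pow 3 hi1).trans (by norm_num))
        -- an element outside `⟨y⟩`
        obtain ⟨u, huS, hu⟩ : ∃ u ∈ (S : Subgroup L), u ∉ Subgroup.zpowers y := by
          by_contra hno'
          push Not at hno'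
          have := Subgroup.card_le_of_le hno'
          rw [hS9, Nat.card_zpowers, hy3] at this
          omega
        have hcuy : Commute u y := hmemY.1 (hS huS)
        have hne : ∀ j : ℕ, u * y ^ j ≠ 1 := fun j hj => hu (by
          rw [mul_eq_one_iff_eq_inv] at hj
          rw [hj]
          exact inv_mem (Subgroup.npow_mem_zpowers y j))
        have h3u : ∀ j : ℕ, (u * y ^ j) ^ 3 = 1 := fun j => by
          rw [(hcuy.pow_right j).mul_pow, h3 u huS, one_mul, ← pow_mul, mul_comm, pow_mul, hy3',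
            one_pow]
        have hsum : ∀ (j : ℕ) (v : V), v + (u * y ^ j) • v + (u * y ^ j) ^ 2 • v = 0 := fun j v =>
          sum_three (h3u j) (hreg _ (mul_mem (hS huS) (pow_mem hyY j)) (hne j)) v
        obtain ⟨v, hv⟩ := h.exists_ne
        have h0 := hsum 0 v
        have h1 := hsum 1 v
        have h2 := hsum 2 v
        have hy4 : y ^ 4 = y := by rw [pow_succ, hy3', one_mul]
        simp only [pow_zero, mul_one, pow_one, hcuy.mul_pow, (hcuy.pow_right 2).mul_pow, ← pow_mul,
          mul_smul] at h0 h1 h2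
        rw [show 2 * 2 = 4 from rfl, hy4] at h2
        have ha : u • (v + y • v + y ^ 2 • v) = 0 := by rw [sum_three hy3' hfy v, smul_zero]
        have hb : u ^ 2 • (v + y • v + y ^ 2 • v) = 0 := by rw [sum_three hy3' hfy v, smul_zero]
        simp only [smul_add] at ha hb
        refine hv ?_
        calc v = (v + u • v + u ^ 2 • v) + (v + u • y • v + u ^ 2 • y ^ 2 • v)
              + (v + u • y ^ 2 • v + u ^ 2 • y • v) + -(u • v + u • y • v + u • y ^ 2 • v)
              + -(u ^ 2 • v + u ^ 2 • y • v + u ^ 2 • y ^ 2 • v) + -(v + v) := by abel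
          _ = 0 := by rw [h0, h1, h2, ha, hb, h.exp2 v]; abel
      have hgen : (S : Subgroup L) = Subgroup.zpowers x := by
        refine (Subgroup.eq_of_le_of_card_ge (Subgroup.zpowers_le.2 hxS) ?_).symm
        rw [Nat.card_zpowers, hx9, hS9]
      obtain ⟨g, _, -, hgy, hgS⟩ := exists_inverter hy hS
      have hyS : y ∈ (S : Subgroup L) := by
        have hp : IsPGroup 3 (Subgroup.zpowers y) := IsPGroup.of_card (n := 1) (by
          rw [Nat.card_zpowers, hy31])
        have hn : (S : Subgroup L) ≤ Subgroup.normalizer ((Subgroup.zpowers y : Subgroup L) : Set L) :=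
          fun c hc => Subgroup.mem_normalizer_iff.2 fun a => by
            constructor
            · intro ha
              obtain ⟨i, rfl⟩ := Subgroup.mem_zpowers_iff.1 ha
              rw [((hmemY.1 (hS hc)).zpow_right i).eq, mul_inv_cancel_right]
              exact ha
            · intro ha
              obtain ⟨i, hi⟩ := Subgroup.mem_zpowers_iff.1 ha
              have : a = c⁻¹ * y ^ i * c := by rw [hi]; group
              rw [this, mul_assoc, ← ((hmemY.1 (hS hc)).zpow_right i).eq, inv_mul_cancel_left]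
              exact Subgroup.zpow_mem_zpowers y i
        have hsup : IsPGroup 3 ((S : Subgroup L) ⊔ Subgroup.zpowers y : Subgroup L) :=
          S.isPGroup'.to_sup_of_normal_right' hp hn
        have := S.is_maximal' hsup le_sup_left
        rw [← this]
        exact (le_sup_right : Subgroup.zpowers y ≤ (S : Subgroup L) ⊔ Subgroup.zpowers y) (Subgroup.mem_zpowers y)
      exact ⟨x, g, hx9, hgen ▸ hyS, hgy, hgen ▸ ((Subgroup.mem_normalizer_iff.1 hgS x).1 hxS)⟩
    · -- `D` of order 63
      obtain ⟨d, hd'⟩ := IsCyclic.exists_generator (α := D)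
      have hd63 : orderOf d = 63 := by
        rw [orderOf_eq_card_of_forall_mem_zpowers hd', he]
      let x : L := ((d ^ 7 : D) : L)
      have hx9 : orderOf (d ^ 7) = 9 := by
        rw [orderOf_pow' _ (by norm_num), hd63]; norm_num
      have hxL : orderOf x = 9 := by rw [Subgroup.orderOf_coe, hx9]
      have hmemx : ∀ c : D, orderOf c ∣ 9 → (c : L) ∈ Subgroup.zpowers x := by
        intro c hc
        obtain ⟨i, hi⟩ := Subgroup.mem_zpowers_iff.1
          (CfsgLib.GaloisDegree.mem_zpowers_of_orderOf_dvd (x := c) (y := d ^ 7) (hx9 ▸ hc))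
        exact Subgroup.mem_zpowers_iff.2 ⟨i, by rw [← hi, Subgroup.coe_zpow]⟩
      have hgz : g0 * z * g0⁻¹ ∈ Subgroup.zpowers z :=
        huniq _ (hgY z hzY) (by rw [← hz7]; exact (MulAut.conj g0).orderOf_eq z)
      have hzgen : z ∈ Subgroup.zpowers (g0 * z * g0⁻¹) := by
        have : Subgroup.zpowers (g0 * z * g0⁻¹) = Subgroup.zpowers z := by
          refine Subgroup.eq_of_le_of_card_ge (Subgroup.zpowers_le.2 hgz) ?_
          rw [Nat.card_zpowers, Nat.card_zpowers]
          exact ((MulAut.conj g0).orderOf_eq z).ge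
        exact this ▸ Subgroup.mem_zpowers z
      have hxD : g0 * x * g0⁻¹ ∈ D := by
        refine ⟨hgY x (d ^ 7).2.1, mem_cen.2 ?_⟩
        obtain ⟨i, hi⟩ := Subgroup.mem_zpowers_iff.1 hzgen
        rw [← hi]
        exact (((show Commute x z from mem_cen.1 (d ^ 7).2.2).map
          (MulAut.conj g0).toMonoidHom).zpow_right i).eq
      refine ⟨x, g0, hxL, hmemx ⟨y, hyD⟩ (by
          rw [← Subgroup.orderOf_coe]; show orderOf y ∣ 9; rw [hy3]; norm_num), hg0,
        hmemx ⟨_, hxD⟩ ?_⟩
      rw [← Subgroup.orderOf_coe]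
      show orderOf (g0 * x * g0⁻¹) ∣ 9
      rw [← hxL]
      exact ((MulAut.conj g0).orderOf_eq x).dvd
  -- conclusion
  have hreal := isConj_inv_of_nine hx hy3 hyx hgy hgx
  refine ⟨x, isCyclic_cen h.exists_ne fun W hW => ?_,
    h.coprime_card_sylow horb ⟨3, 1, Nat.prime_three, by norm_num, by rw [hx]; norm_num, hreal⟩⟩
  have hfix : ∀ c ∈ Subgroup.zpowers x, c ≠ 1 → ∀ w : V, c • w = w → w = 0 := by
    intro c hc hc1 w hw
    obtain ⟨i, hi⟩ : ∃ i : ℕ, c ^ i = y := by
      obtain ⟨j, rfl⟩ : ∃ j : ℕ, x ^ j = c := mem_powers_iff_mem_zpowers.2 hc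
      obtain ⟨l, hl⟩ : ∃ l : ℕ, x ^ l = y := mem_powers_iff_mem_zpowers.2 hyx
      have hl3 : 3 ∣ l := by
        have : 9 ∣ l * 3 := by
          rw [← hx]; exact orderOf_dvd_of_pow_eq_one (by rw [pow_mul, hl, hy3'])
        omega
      have hj : ¬ 9 ∣ j := fun hd9 => hc1 (orderOf_dvd_iff_pow_eq_one.1 (hx ▸ hd9))
      obtain ⟨b, rfl⟩ := hl3
      by_cases hj3 : 3 ∣ j
      · obtain ⟨a, rfl⟩ := hj3
        have ha : a % 3 = 1 ∨ a % 3 = 2 := by omega
        refine ⟨a * b, ?_⟩
        rw [← pow_mul, ← hl, ← pow_mod_orderOf x (3 * a * (a * b)), ← pow_mod_orderOf x (3 * b), hx]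
        congr 1
        have e : 3 * a * (a * b) = 3 * (a * a * b) := by ring
        rw [e, show (9 : ℕ) = 3 * 3 by norm_num, Nat.mul_mod_mul_left, Nat.mul_mod_mul_left,
          Nat.mul_mod, Nat.mul_mod a a]
        rcases ha with e' | e' <;> rw [e'] <;> simp
      · have hc' : Nat.Coprime j 9 := by
          have := (Nat.prime_three.coprime_iff_not_dvd.2 hj3).symm.pow_right 2
          simpa using this
        obtain ⟨e, he⟩ := exists_pow_eq_self_of_coprime (x := x) (n := j) (hx.symm ▸ hc')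
        refine ⟨e * (3 * b), ?_⟩
        rw [pow_mul, he, hl]
    exact hfy w (hi ▸ pow_smul_eq hw i)
  have hWx : ∀ c ∈ Subgroup.zpowers x, ∀ w ∈ W, c • w ∈ W := by
    intro c hc
    obtain ⟨j, rfl⟩ : ∃ j : ℕ, x ^ j = c := mem_powers_iff_mem_zpowers.2 hc
    exact pow_smul_mem hW j
  have h9 := card_dvd_of_semiregular (V := V) (Subgroup.zpowers x) W hWx
    fun c hc hc1 w _ hw => hfix c hc hc1 w hw
  rw [Nat.card_zpowers, hx] at h9
  obtain ⟨i, hi, hc⟩ := card_addSubgroup_eq hV6 W
  rw [hc] at h9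
  interval_cases i
  all_goals first
    | (norm_num at h9; done)
    | (left; apply AddSubgroup.eq_bot_of_card_eq; rw [hc]; norm_num; done)
    | (right; apply AddSubgroup.eq_top_of_card_eq; rw [hc, hV]; norm_num; done)

/-- An element with cyclic centraliser factorising the group over a Sylow 2-normaliser. -/
theorem Spread.exists_cyclic_transitive {L : Type u} {V : Type v} [Group L] [Finite L]
    [AddCommGroup V] [Finite V] [DistribMulAction L V] [FaithfulSMul L V] (h : Spread L V)
    (hex : ∃ y : L, OddReal y) {n m : ℕ} (hV : Nat.card V = 2 ^ (2 * n))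
    (hinv : ∀ t : L, orderOf t = 2 → Nat.card {w : V // t • w = w} = 2 ^ n)
    (hm : 1 ≤ m) (hmn : m < n) (hdvd : 2 ^ m - 1 ∣ 2 ^ n - 1)
    (hcount : Nat.card (Sylow 2 L) * (2 ^ m - 1) = 2 ^ (2 * n) - 1)
    (horb : ∀ w : V, w ≠ 0 → Nat.card (Sylow 2 L) ∣ (MulAction.stabilizer L w).index) :
    ∃ x : L, IsCyclic (Subgroup.centralizer ({x} : Set L)) ∧
      ∀ P : Sylow 2 L, ∀ g : L, ∃ a ∈ Subgroup.centralizer ({x} : Set L),
        ∃ b ∈ Subgroup.normalizer ((P : Subgroup L) : Set L), g = a * b := by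
  obtain ⟨x, hc, hi⟩ : ∃ x : L, IsCyclic (Subgroup.centralizer ({x} : Set L)) ∧
      (idx x).Coprime (Nat.card (Sylow 2 L)) := by
    rcases eq_or_ne n 3 with rfl | hn3
    · have hm1 : m = 1 := by interval_cases m <;> first | rfl | norm_num at hdvd
      subst hm1
      exact h.exists_cyclic_of_three hex (by rw [hV]; norm_num)
        (fun t ht => (hinv t ht).trans (by norm_num)) (by simpa using hcount) horb
    · obtain ⟨r, hr⟩ := CfsgLib.Zsigmondy.exists_isPPD (a := 2) (n := 2 * n) (by norm_num)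
        (by omega) (fun hc => hn3 (by omega)) (fun hc => by omega)
      refine h.exists_cyclic_of_ppd hex hV hr ?_ horb
      have := hr.2.1
      rw [← hcount] at this
      exact (hr.1.dvd_mul.1 this).resolve_right (hr.2.2 m hm (by omega))
  exact exists_factor hc hi

end spread

end CfsgLib.RealClassGraph11
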