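import Cfsg.Agent.RealClassGraph11.Equal
import Cfsg.Agent.RealClassGraph11.Singer
import Cfsg.Agent.SRing54.Schur
import Cfsg.Agent.PermGroups.Burnside

/-!
A group with a spread action is solvable.
-/

set_option autoImplicit false

namespace CfsgLib.RealClassGraph11

open CfsgLib.CoprimeLargest (idx)
open CfsgLib.TwoSizes (cen mem_cen)

universe u v

theorem card_eq_two_pow {A : Type v} [AddCommGroup A] [Finite A] (h : ∀ a : A, a + a = 0) :
    ∃ k, Nat.card A = 2 ^ k := by
  refine ⟨_, Nat.eq_prime_pow_of_unique_prime_dvd Nat.card_pos.ne' fun {p} hp hpd => ?_⟩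
  haveI : Fact p.Prime := ⟨hp⟩
  obtain ⟨a, ha⟩ := exists_prime_addOrderOf_dvd_card' p hpd
  exact (Nat.prime_dvd_prime_iff_eq hp Nat.prime_two).1
    (ha ▸ addOrderOf_dvd_of_nsmul_eq_zero (by rw [two_nsmul, h]))

variable {L : Type u} [Group L] [Finite L] {V : Type v} [AddCommGroup V] [DistribMulAction L V]

/-- The Sylow normalisers are maximal. -/
theorem Minimal.isCoatom_normalizer [FaithfulSMul L V] (h : Minimal L V) (P : Sylow 2 L) :
    IsCoatom (Subgroup.normalizer ((P : Subgroup L) : Set L)) := by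
  haveI : Fact (Nat.Prime 2) := ⟨Nat.prime_two⟩
  refine ⟨fun htop => h.not_normal P (Subgroup.normalizer_eq_top_iff.1 htop),
    fun M hM => by_contra fun hMt => ?_⟩
  have hno : ∀ y ∈ M, ¬ OddReal y := by
    intro y hy hyr
    refine h.not_oddReal_of_normal (N := M.normalCore) inferInstance
      (fun he => hMt (top_le_iff.1 (he.ge.trans (Subgroup.normalCore_le M)))) ?_ hyr
    intro g
    obtain ⟨a, ha, b, hb, hab⟩ := h.spread.exists_mul hyr P g⁻¹
    have hg : g = b⁻¹ * a⁻¹ := by rw [← mul_inv_rev, ← hab, inv_inv]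
    have e : b⁻¹ * a⁻¹ * y * (b⁻¹ * a⁻¹)⁻¹ = b⁻¹ * y * b := by
      calc b⁻¹ * a⁻¹ * y * (b⁻¹ * a⁻¹)⁻¹ = b⁻¹ * (a⁻¹ * (y * a)) * b := by group
        _ = b⁻¹ * (a⁻¹ * (a * y)) * b := by rw [mem_cen.1 ha]
        _ = _ := by group
    rw [hg, e]
    exact mul_mem (mul_mem (inv_mem (hM.le hb)) hy) (hM.le hb)
  have hPM : (P : Subgroup L) ≤ M := Subgroup.le_normalizer.trans hM.le
  obtain ⟨P', -, hN, huniq⟩ := (twoClosed_of_forall_not_oddReal hno).exists_sylow
    fun hd => P.not_dvd_index (hd.trans (Subgroup.index_dvd_of_le hPM))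
  rw [← huniq P hPM] at hN
  exact not_le_of_gt hM hN

/-- A Sylow normaliser is transitive on the other Sylow 2-subgroups. -/
theorem Minimal.transitive_others [FaithfulSMul L V] (h : Minimal L V) {x : L}
    (hcyc : IsCyclic (cen x))
    (hx : ∀ P : Sylow 2 L, ∀ g : L, ∃ a ∈ cen x,
      ∃ b ∈ Subgroup.normalizer ((P : Subgroup L) : Set L), g = a * b)
    (P Q R : Sylow 2 L) (hQ : Q ≠ P) (hR : R ≠ P) :
    ∃ b ∈ Subgroup.normalizer ((P : Subgroup L) : Set L), b • Q = R := by
  classical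
  haveI : Fact (Nat.Prime 2) := ⟨Nat.prime_two⟩
  haveI := Fintype.ofFinite (Sylow 2 L)
  set d := Nat.card (Sylow 2 L) with hd
  have hd2 : 2 ≤ d := h.one_lt_card_sylow
  haveI : NeZero d := ⟨by omega⟩
  haveI : Nontrivial (Sylow 2 L) := ⟨⟨Q, P, hQ⟩⟩
  have hprim : MulAction.IsPreprimitive L (Sylow 2 L) := by
    rw [← MulAction.isCoatom_stabilizer_iff_preprimitive (G := L) P, Sylow.stabilizer_eq_normalizer]
    exact h.isCoatom_normalizer P
  obtain ⟨⟨c, hc⟩, hgen⟩ := hcyc.exists_generator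
  have horb : MulAction.orbit (Subgroup.zpowers c) P = Set.univ := by
    refine Set.eq_univ_of_forall fun T => ?_
    obtain ⟨g, hg⟩ := MulAction.exists_smul_eq L P T
    obtain ⟨a, ha, b, hb, rfl⟩ := hx P g
    rw [mul_smul, Sylow.smul_eq_iff_mem_normalizer.2 hb] at hg
    obtain ⟨i, hi⟩ := Subgroup.mem_zpowers_iff.1 (hgen ⟨a, ha⟩)
    exact ⟨⟨a, Subgroup.mem_zpowers_iff.2 ⟨i, congrArg Subtype.val hi⟩⟩, hg⟩
  have hper : MulAction.period c P = d := by
    haveI := Fintype.ofFinite (MulAction.orbit (Subgroup.zpowers c) P)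
    rw [MulAction.period_eq_minimalPeriod, MulAction.minimalPeriod_eq_card,
      ← Nat.card_eq_fintype_card, Nat.card_coe_set_eq, horb, Set.ncard_univ]
  have h2t : MulAction.IsMultiplyPretransitive L (Sylow 2 L) 2 := by
    by_cases hdp : d.Prime
    · haveI : Fact d.Prime := ⟨hdp⟩
      let f : L →* Equiv.Perm (Sylow 2 L) := MulAction.toPermHom L (Sylow 2 L)
      haveI : MulAction.IsPretransitive f.range (Sylow 2 L) := ⟨fun S T => by
        obtain ⟨g, hg⟩ := MulAction.exists_smul_eq L S T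
        exact ⟨⟨f g, g, rfl⟩, hg⟩⟩
      have hns : ¬ Group.IsSolvable f.range := fun hs => h.not_solvable (by
        haveI := hs
        haveI : Group.IsSolvable f.ker := h.solvable_normal f.ker inferInstance fun htop =>
          hQ (by
            obtain ⟨g, hg⟩ := MulAction.exists_smul_eq L P Q
            have h1 : f g = 1 := (htop.ge (Subgroup.mem_top g) : g ∈ f.ker)
            rw [← hg, show g • P = f g P from rfl, h1]; rfl)
        exact Group.isSolvable_of_ker_le_range f.ker.subtype f.rangeRestrict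
          (by rw [MonoidHom.ker_rangeRestrict, Subgroup.range_subtype]) (hG' := inferInstance)
          (hG'' := inferInstance))
      have h2 := PermGroups.burnside_two_transitive (G := f.range) (X := Sylow 2 L) (p := d)
        (by rw [hd, Nat.card_eq_fintype_card]) hns
      rw [MulAction.is_two_pretransitive_iff] at h2 ⊢
      intro a b c' d' hab hcd
      obtain ⟨⟨_, g, rfl⟩, hg1, hg2⟩ := h2 hab hcd
      exact ⟨g, hg1, hg2⟩
    · exact SRing54.two_trans_of_primitive rfl hd2 hdp c P hper hprim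
  rw [MulAction.is_two_pretransitive_iff] at h2t
  obtain ⟨g, hgP, hgQ⟩ := h2t (Ne.symm hQ) (Ne.symm hR)
  exact ⟨g, Sylow.smul_eq_iff_mem_normalizer.1 hgP, hgQ⟩

/-- The intersections with the fixed spaces partition the non-zero vectors of a subgroup. -/
theorem Spread.card_inter [Finite V] [Fintype (Sylow 2 L)] (h : Spread L V) (A : AddSubgroup V) :
    Nat.card A - 1 =
      ∑ Q : Sylow 2 L, (Nat.card (A ⊓ fixV V (Q : Subgroup L) : AddSubgroup V) - 1) := by
  classical
  let e : {w : V // w ∈ A ∧ w ≠ 0} ≃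
      (Σ Q : Sylow 2 L, {w : V // w ∈ A ⊓ fixV V (Q : Subgroup L) ∧ w ≠ 0}) :=
    { toFun := fun w => ⟨(h.exists_sylow w.2.2).choose,
        ⟨w, ⟨w.2.1, (h.exists_sylow w.2.2).choose_spec.1⟩, w.2.2⟩⟩
      invFun := fun s => ⟨s.2.1, s.2.2.1.1, s.2.2.2⟩
      left_inv := fun w => rfl
      right_inv := by
        rintro ⟨Q, ⟨w, hwQ, hw⟩⟩
        exact Sigma.subtype_ext ((h.exists_sylow hw).choose_spec.2.2 Q hwQ.2).symm rfl }
  have h1 := card_ne_zero_subtype A
  rw [Nat.card_congr e, Nat.card_sigma] at h1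
  have h2 : ∀ Q : Sylow 2 L, Nat.card {w : V // w ∈ A ⊓ fixV V (Q : Subgroup L) ∧ w ≠ 0} =
      Nat.card (A ⊓ fixV V (Q : Subgroup L) : AddSubgroup V) - 1 := fun Q => by
    have := card_ne_zero_subtype (A ⊓ fixV V (Q : Subgroup L))
    omega
  rw [Finset.sum_congr rfl (fun Q _ => h2 Q)] at h1
  omega

/-- The numerical contradiction. -/
theorem exponent_eq {w n m e D : ℕ} (he1 : 1 ≤ e) (hem : e ≤ m) (hmw : m < w) (hw : w ≤ 2 * n)
    (hmn : m < n) (hF : 2 ^ w - 1 = 2 ^ m - 1 + D * (2 ^ e - 1))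
    (hV : 2 ^ (2 * n) - 1 = 2 ^ m - 1 + D * (2 ^ m - 1)) : e = m := by
  by_contra hne
  have hlt : e < m := lt_of_le_of_ne hem hne
  have p1 : ∀ k : ℕ, 1 ≤ 2 ^ k := fun k => Nat.one_le_two_pow
  have hF' : (2 : ℤ) ^ w = 2 ^ m + D * (2 ^ e - 1) := by
    have := congrArg (Nat.cast : ℕ → ℤ) hF
    push_cast [Nat.cast_sub (p1 w), Nat.cast_sub (p1 m), Nat.cast_sub (p1 e)] at this
    linarith
  have hV' : (2 : ℤ) ^ (2 * n) = 2 ^ m + D * (2 ^ m - 1) := by
    have := congrArg (Nat.cast : ℕ → ℤ) hV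
    push_cast [Nat.cast_sub (p1 (2 * n)), Nat.cast_sub (p1 m)] at this
    linarith
  have key : (2 : ℤ) ^ (w + m) + 2 ^ (2 * n) + 2 ^ (m + e) =
      2 ^ (2 * n + e) + 2 ^ w + 2 ^ (2 * m) := by
    rw [pow_add, pow_add, pow_add, two_mul m, pow_add]
    linear_combination ((2 : ℤ) ^ m - 1) * hF' - ((2 : ℤ) ^ e - 1) * hV'
  rcases lt_trichotomy w (m + e) with hc | hc | hc
  · have hd : (2 : ℤ) ^ (w + 1) ∣ 2 ^ w := by
      have e1 : (2 : ℤ) ^ w =
          2 ^ (w + m) + 2 ^ (2 * n) + 2 ^ (m + e) - 2 ^ (2 * n + e) - 2 ^ (2 * m) := by linarith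
      conv_rhs => rw [e1]
      exact dvd_sub (dvd_sub (dvd_add (dvd_add (pow_dvd_pow _ (by omega)) (pow_dvd_pow _ (by omega)))
        (pow_dvd_pow _ (by omega))) (pow_dvd_pow _ (by omega))) (pow_dvd_pow _ (by omega))
    have := Int.le_of_dvd (by positivity) hd
    rw [pow_succ] at this
    have : (0 : ℤ) < 2 ^ w := by positivity
    linarith
  · subst hc
    have e1 : ((2 : ℤ) ^ e - 1) * (2 ^ (2 * n) - 2 ^ (2 * m)) = 0 := by
      rw [show m + e + m = 2 * m + e by omega] at key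
      rw [pow_add, pow_add] at key
      linear_combination -key
    rcases mul_eq_zero.1 e1 with h0 | h0
    · have : (2 : ℤ) ^ 1 ≤ 2 ^ e := pow_le_pow_right₀ (by norm_num) he1
      linarith
    · have : (2 : ℤ) ^ (2 * m) < 2 ^ (2 * n) := pow_lt_pow_right₀ (by norm_num) (by omega)
      linarith
  · have hd : (2 : ℤ) ^ (m + e + 1) ∣ 2 ^ (m + e) := by
      have e1 : (2 : ℤ) ^ (m + e) =
          2 ^ (2 * n + e) + 2 ^ w + 2 ^ (2 * m) - 2 ^ (w + m) - 2 ^ (2 * n) := by linarith
      conv_rhs => rw [e1]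
      exact dvd_sub (dvd_sub (dvd_add (dvd_add (pow_dvd_pow _ (by omega)) (pow_dvd_pow _ (by omega)))
        (pow_dvd_pow _ (by omega))) (pow_dvd_pow _ (by omega))) (pow_dvd_pow _ (by omega))
    have := Int.le_of_dvd (by positivity) hd
    rw [pow_succ] at this
    have : (0 : ℤ) < 2 ^ (m + e) := by positivity
    linarith

/-- There is no minimal non-solvable spread action. -/
theorem Minimal.elim [Finite V] [FaithfulSMul L V] (h : Minimal L V) : False := by
  classical
  haveI : Fact (Nat.Prime 2) := ⟨Nat.prime_two⟩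
  haveI := Fintype.ofFinite (Sylow 2 L)
  obtain ⟨t, P, ht, htP, hne⟩ := h.not_all_fix_eq
  set U := fixV V (P : Subgroup L) with hU
  set T := fixV V (Subgroup.zpowers t) with hT
  obtain ⟨m, hm⟩ := card_eq_two_pow (A := U) fun a => Subtype.ext (h.spread.exp2 a)
  obtain ⟨n, hn⟩ := card_eq_two_pow (A := T) fun a => Subtype.ext (h.spread.exp2 a)
  have hV : Nat.card V = 2 ^ (2 * n) := by
    rw [← (h.spread.involution_fix ht).1, ← hT, hn, ← pow_mul, mul_comm]
  have hinv : ∀ s : L, orderOf s = 2 → Nat.card {w : V // s • w = w} = 2 ^ n := by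
    intro s hs
    have h1 := (h.spread.involution_fix hs).1
    rw [← (h.spread.involution_fix ht).1, ← hT, hn] at h1
    rw [← Nat.pow_left_injective two_ne_zero h1]
    exact Nat.card_congr (Equiv.subtypeEquivRight fun w => mem_fixV_zpowers.symm)
  have hm1 : 1 ≤ m := by
    obtain ⟨w, hw, hw0⟩ := h.spread.exists_fixed_ne P
    by_contra hm1
    rw [show m = 0 by omega, pow_zero] at hm
    exact hw0 (congrArg Subtype.val
      ((Nat.card_eq_one_iff_unique.1 hm).1.elim (⟨w, hw⟩ : U) ⟨0, U.zero_mem⟩))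
  have hmn : m < n := by
    have hle : U ≤ T := fixV_le_zpowers htP
    have hlt : Nat.card U < Nat.card T := lt_of_le_of_ne (AddSubgroup.card_le_of_le hle)
      fun he => hne (AddSubgroup.eq_of_le_of_card_ge hle he.ge)
    rw [hm, hn] at hlt
    exact (Nat.pow_lt_pow_iff_right (by norm_num)).1 hlt
  have hUQ : ∀ Q : Sylow 2 L, Nat.card (fixV V (Q : Subgroup L)) = 2 ^ m := fun Q => by
    rw [← hm]; exact Spread.card_fixV_sylow Q P
  have hcount : Nat.card (Sylow 2 L) * (2 ^ m - 1) = 2 ^ (2 * n) - 1 := by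
    have h1 := h.spread.card_partition P ⊤ Set.univ (fun _ _ => le_top) (fun _ _ _ _ _ => trivial)
    rw [AddSubgroup.card_top, hV, ← hU, hm, Nat.card_coe_set_eq, Set.ncard_univ] at h1
    exact h1.symm
  have hdvd : 2 ^ m - 1 ∣ 2 ^ n - 1 := by
    have h1 := h.spread.card_partition P T {Q | t ∈ (Q : Subgroup L)}
      (fun Q hQ => fixV_le_zpowers hQ)
      (fun w hw hw0 Q hwQ => (h.spread.stab_closed w hw0).mem_sylow (mem_fixV_zpowers.1 hw)
        ⟨1, by rw [ht, pow_one]⟩ fun g hg => hwQ g hg)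
    rw [hn, ← hU, hm] at h1
    exact ⟨_, h1.trans (mul_comm _ _)⟩
  obtain ⟨x, hcyc, hx⟩ := h.spread.exists_cyclic_transitive h.exists_oddReal hV hinv hm1 hmn hdvd
    hcount fun w hw => h.spread.card_sylow_dvd hw
  set N := Subgroup.normalizer ((P : Subgroup L) : Set L) with hN
  let F : AddSubgroup V :=
    { carrier := {w | ∀ g ∈ (P : Subgroup L), g • w + w ∈ U}
      zero_mem' := fun g _ => by rw [smul_zero, add_zero]; exact U.zero_mem
      add_mem' := fun {a b} ha hb g hg => by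
        rw [smul_add, add_add_add_comm]; exact U.add_mem (ha g hg) (hb g hg)
      neg_mem' := fun {a} ha g hg => by
        rw [smul_neg, ← neg_add]; exact U.neg_mem (ha g hg) }
  have hUF : U ≤ F := fun w hw g hg => by
    rw [show g • w = w from hw g hg, h.spread.exp2]; exact U.zero_mem
  have hbU : ∀ b ∈ N, ∀ w ∈ U, b • w ∈ U := fun b hb w hw g hg => by
    have hg' : b⁻¹ * g * b ∈ (P : Subgroup L) := by
      simpa using (Subgroup.mem_normalizer_iff.1 (inv_mem hb) g).1 hg
    calc g • b • w = b • (b⁻¹ * g * b) • w := by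
          rw [← mul_smul, ← mul_smul]; congr 1; group
      _ = b • w := by rw [show (b⁻¹ * g * b) • w = w from hw _ hg']
  have hbF : ∀ b ∈ N, ∀ w ∈ F, b • w ∈ F := fun b hb w hw g hg => by
    have hg' : b⁻¹ * g * b ∈ (P : Subgroup L) := by
      simpa using (Subgroup.mem_normalizer_iff.1 (inv_mem hb) g).1 hg
    have e : g • b • w + b • w = b • ((b⁻¹ * g * b) • w + w) := by
      rw [smul_add, ← mul_smul, ← mul_smul]; congr 2; group
    rw [e]
    exact hbU b hb _ (hw _ hg')
  -- a vector of `F` outside `U`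
  obtain ⟨v, hvF, hvU⟩ : ∃ v ∈ F, v ∉ U := by
    have hinvU : ∀ g : (P : Subgroup L), U ≤ U.comap (DistribMulAction.toAddMonoidHom V (g : L)) :=
      fun g w hw => by
        show (g : L) • w ∈ U
        rw [show (g : L) • w = w from hw g g.2]; exact hw
    letI : MulAction (P : Subgroup L) (V ⧸ U) :=
      { smul := fun g q => QuotientAddGroup.map U U _ (hinvU g) q
        one_smul := fun q => QuotientAddGroup.induction_on q fun w =>
          congrArg (QuotientAddGroup.mk : V → V ⧸ U) (one_smul L w)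
        mul_smul := fun g k q => QuotientAddGroup.induction_on q fun w =>
          congrArg (QuotientAddGroup.mk : V → V ⧸ U) (mul_smul (g : L) (k : L) w) }
    have hdvd2 : 2 ∣ Nat.card (V ⧸ U) := by
      have h1 := AddSubgroup.card_eq_card_quotient_mul_card_addSubgroup U
      rw [hV, hm] at h1
      have h2 : Nat.card (V ⧸ U) = 2 ^ (2 * n - m) := by
        refine Nat.eq_of_mul_eq_mul_right (Nat.two_pow_pos m) (h1.symm.trans ?_)
        rw [← pow_add, Nat.sub_add_cancel (by omega)]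
      rw [h2]; exact dvd_pow_self 2 (by omega)
    obtain ⟨q, hq, hq0⟩ := P.isPGroup'.exists_fixed_point_of_prime_dvd_card_of_fixed_point
      (V ⧸ U) hdvd2 (a := ((0 : V) : V ⧸ U)) fun g =>
        congrArg (QuotientAddGroup.mk : V → V ⧸ U) (smul_zero (g : L))
    obtain ⟨v, rfl⟩ := QuotientAddGroup.mk_surjective q
    refine ⟨v, fun g hg => ?_, fun hv => hq0 ?_⟩
    · have h1 : ((g • v : V) : V ⧸ U) = (v : V ⧸ U) := hq ⟨g, hg⟩
      rw [QuotientAddGroup.eq, ← sub_eq_neg_add] at h1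
      rw [← h.spread.exp2' (g • v), ← sub_eq_neg_add]
      exact h1
    · exact ((QuotientAddGroup.eq_zero_iff v).2 hv).symm
  have hv0 : v ≠ 0 := fun h0 => hvU (h0 ▸ U.zero_mem)
  obtain ⟨Q0, hvQ0, -, -⟩ := h.spread.exists_sylow hv0
  have hQ0 : Q0 ≠ P := fun he => hvU (by rw [hU, ← he]; exact hvQ0)
  obtain ⟨e, he⟩ := card_eq_two_pow (A := (F ⊓ fixV V (Q0 : Subgroup L) : AddSubgroup V))
    fun a => Subtype.ext (h.spread.exp2 a)
  have hQe : ∀ R : Sylow 2 L, R ≠ P →
      Nat.card (F ⊓ fixV V (R : Subgroup L) : AddSubgroup V) = 2 ^ e := by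
    intro R hR
    obtain ⟨b, hb, hbR⟩ := h.transitive_others hcyc hx P Q0 R hQ0 hR
    rw [← he, ← hbR]
    refine (Nat.card_congr ((MulAction.toPerm b).subtypeEquiv fun w => ?_)).symm
    show w ∈ F ⊓ fixV V (Q0 : Subgroup L) ↔ b • w ∈ F ⊓ fixV V ((b • Q0 : Sylow 2 L) : Subgroup L)
    rw [AddSubgroup.mem_inf, AddSubgroup.mem_inf, Sylow.coe_subgroup_smul]
    refine and_congr ⟨hbF b hb w, fun hw => ?_⟩ mem_fixV_conj.symm
    simpa using hbF b⁻¹ (inv_mem hb) _ hw
  have he1 : 1 ≤ e := by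
    by_contra he1
    rw [show e = 0 by omega, pow_zero] at he
    exact hv0 (congrArg Subtype.val ((Nat.card_eq_one_iff_unique.1 he).1.elim
      (⟨v, hvF, hvQ0⟩ : (F ⊓ fixV V (Q0 : Subgroup L) : AddSubgroup V)) 0))
  have hem : e ≤ m := by
    have h1 : Nat.card (F ⊓ fixV V (Q0 : Subgroup L) : AddSubgroup V) ≤
        Nat.card (fixV V (Q0 : Subgroup L)) := AddSubgroup.card_le_of_le inf_le_right
    rw [he, hUQ] at h1
    exact (Nat.pow_le_pow_iff_right (by norm_num)).1 h1
  obtain ⟨w, hw⟩ := card_eq_two_pow (A := F) fun a => Subtype.ext (h.spread.exp2 a)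
  have hmw : m < w := by
    have h1 : Nat.card U < Nat.card F := lt_of_le_of_ne (AddSubgroup.card_le_of_le hUF)
      fun he => hvU ((AddSubgroup.eq_of_le_of_card_ge hUF he.ge).ge hvF)
    rw [hm, hw] at h1
    exact (Nat.pow_lt_pow_iff_right (by norm_num)).1 h1
  have hw2 : w ≤ 2 * n := by
    have h1 : Nat.card F ≤ Nat.card V := Nat.card_le_card_of_injective _ Subtype.val_injective
    rw [hw, hV] at h1
    exact (Nat.pow_le_pow_iff_right (by norm_num)).1 h1
  have hF : 2 ^ w - 1 = 2 ^ m - 1 + (Nat.card (Sylow 2 L) - 1) * (2 ^ e - 1) := by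
    rw [← hw, h.spread.card_inter F, ← Finset.add_sum_erase _ _ (Finset.mem_univ P), ← hU,
      inf_eq_right.2 hUF, hm,
      Finset.sum_congr rfl (fun R hR => by rw [hQe R (Finset.ne_of_mem_erase hR)]), Finset.sum_const,
      smul_eq_mul, Finset.card_erase_of_mem (Finset.mem_univ P), Finset.card_univ,
      ← Nat.card_eq_fintype_card]
  have hV' : 2 ^ (2 * n) - 1 = 2 ^ m - 1 + (Nat.card (Sylow 2 L) - 1) * (2 ^ m - 1) := by
    obtain ⟨d', hd'⟩ : ∃ d', Nat.card (Sylow 2 L) = d' + 1 :=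
      ⟨_, (Nat.sub_add_cancel Nat.card_pos).symm⟩
    rw [← hcount, hd', Nat.add_sub_cancel, add_mul, one_mul, add_comm]
  have hem' : e = m := exponent_eq he1 hem hmw hw2 hmn hF hV'
  have hall : ∀ z : V, z ∈ F := by
    intro z
    by_cases hz : z = 0
    · rw [hz]; exact F.zero_mem
    obtain ⟨R, hzR, -, -⟩ := h.spread.exists_sylow hz
    by_cases hR : R = P
    · exact hUF (by rw [hU, ← hR]; exact hzR)
    have h1 : F ⊓ fixV V (R : Subgroup L) = fixV V (R : Subgroup L) :=
      AddSubgroup.eq_of_le_of_card_ge inf_le_right (by rw [hQe R hR, hUQ, hem'])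
    exact (h1.ge hzR).1
  have hle : T ≤ U := fun z hz => by
    obtain ⟨u, hu⟩ := (h.spread.involution_fix ht).2 z (mem_fixV_zpowers.1 hz)
    rw [← hu]; exact hall u t htP
  have h1 := AddSubgroup.card_le_of_le hle
  rw [hm, hn] at h1
  exact absurd ((Nat.pow_le_pow_iff_right (by norm_num)).1 h1) (not_le.2 hmn)

/-- **A group with a spread action is solvable.** -/
theorem Spread.isSolvable {L : Type u} {V : Type v} [Group L] [Finite L] [AddCommGroup V] [Finite V]
    [DistribMulAction L V] (h : Spread L V) : Group.IsSolvable L :=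
  h.isSolvable_of_no_minimal fun _ _ _ _ _ hmin => hmin.elim

end CfsgLib.RealClassGraph11
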