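import Cfsg.Agent.RealClassGraph11.Graph

/-!
The spread action coming from a disconnected real class graph.
-/

set_option autoImplicit false

namespace CfsgLib.RealClassGraph11

open CfsgLib.CoprimeLargest (idx)
open CfsgLib.TwoSizes (cen mem_cen)

universe u

variable {G : Type u} [Group G] (E : Subgroup G) [E.Normal]

/-- A normal subgroup modulo its central elements. -/
abbrev ModCen : Type u := E ⧸ (Subgroup.center G).subgroupOf E

/-- Conjugation on a normal subgroup modulo its central elements. -/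
def modCenConj (g : G) : ModCen E →* ModCen E :=
  QuotientGroup.map _ _ (MulAut.conjNormal g).toMonoidHom fun z hz => by
    rw [Subgroup.mem_comap, Subgroup.mem_subgroupOf]
    simp only [MulEquiv.coe_toMonoidHom, MulAut.conjNormal_apply]
    exact (inferInstance : (Subgroup.center G).Normal).conj_mem _ (Subgroup.mem_subgroupOf.1 hz) g

theorem modCenConj_mk (g : G) (v : E) :
    modCenConj E g (QuotientGroup.mk v) = QuotientGroup.mk (MulAut.conjNormal g v) := rfl

/-- The commutative group structure. -/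
@[instance_reducible]
def modCenCommGroup (hE : ∀ a ∈ E, ∀ b ∈ E, Commute a b) : CommGroup (ModCen E) :=
  { (inferInstance : Group (ModCen E)) with
    mul_comm := fun a b => QuotientGroup.induction_on a fun x => QuotientGroup.induction_on b fun y =>
      congrArg QuotientGroup.mk (Subtype.ext (hE x x.2 y y.2).eq : x * y = y * x) }

/-- Without real elements of odd prime power order outside `O(G)` the group is solvable. -/
theorem isSolvable_of_oddReal_le_core [Finite G]
    (h : ∀ x : G, OddReal x → x ∈ Cfsg.pPrimeCore 2 G) : Group.IsSolvable G := by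
  haveI : Fact (Nat.Prime 2) := ⟨Nat.prime_two⟩
  obtain ⟨S⟩ : Nonempty (Sylow 2 (G ⧸ Cfsg.pPrimeCore 2 G)) := inferInstance
  haveI := isSolvable_of_normal_sylow S (normal_sylow_quotient _ h S)
  haveI : Group.IsSolvable (Cfsg.pPrimeCore 2 G) := Cfsg.Agent.S0205.result (by
    rw [← Nat.not_even_iff_odd, even_iff_two_dvd]
    exact CfsgLib.Constrained.pPrimeCore_not_dvd)
  exact Group.isSolvable_of_ker_le_range (Cfsg.pPrimeCore 2 G).subtype
    (QuotientGroup.mk' (Cfsg.pPrimeCore 2 G))
    (by rw [QuotientGroup.ker_mk', Subgroup.range_subtype]) (hG' := inferInstance)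
    (hG'' := inferInstance)

variable [Finite G]

/-- A disconnected real class graph gives solvability, granted the theorem on spread actions. -/
theorem Split.isSolvable_of {π₁ π₂ : Set ℕ} (h : Split G π₁ π₂) (h2 : 2 ∈ π₁)
    (hsp : ∀ (V : Type u) [AddCommGroup V] [Finite V] [DistribMulAction G V],
      Spread G V → Group.IsSolvable G) : Group.IsSolvable G := by
  haveI : Fact (Nat.Prime 2) := ⟨Nat.prime_two⟩
  by_cases hO : ∀ x : G, OddReal x → x ∈ Cfsg.pPrimeCore 2 G
  · exact isSolvable_of_oddReal_le_core hO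
  push Not at hO
  obtain ⟨y0, hy0, hy0O⟩ := hO
  set R := Cfsg.pCore 2 G with hR
  haveI hRn : R.Normal := Cfsg.pCore_normal 2 G
  have hR2 : IsPGroup 2 R := CfsgLib.LocalP.isPGroup_pCore
  let Z : Subgroup G :=
    { carrier := {z | z ∈ R ∧ z ^ 2 = 1 ∧ ∀ r ∈ R, Commute z r}
      one_mem' := ⟨one_mem R, one_pow 2, fun r _ => Commute.one_left r⟩
      mul_mem' := fun {a b} ha hb => ⟨mul_mem ha.1 hb.1,
        by rw [(ha.2.2 b hb.1).mul_pow, ha.2.1, hb.2.1, one_mul],
        fun r hr => (ha.2.2 r hr).mul_left (hb.2.2 r hr)⟩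
      inv_mem' := fun {a} ha => ⟨inv_mem ha.1, by rw [inv_pow, ha.2.1, inv_one],
        fun r hr => (ha.2.2 r hr).inv_left⟩ }
  have hZn : Z.Normal := by
    refine ⟨fun z hz g => ⟨hRn.conj_mem z hz.1 g, by rw [conj_pow, hz.2.1]; group, fun r hr => ?_⟩⟩
    have hr' : g⁻¹ * r * g ∈ R := by simpa using hRn.conj_mem r hr g⁻¹
    have h1 := (hz.2.2 _ hr').map (MulAut.conj g).toMonoidHom
    simp only [MulEquiv.coe_toMonoidHom, MulAut.conj_apply] at h1
    rwa [show g * (g⁻¹ * r * g) * g⁻¹ = r by group] at h1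
  have hZ2 : IsPGroup 2 Z := hR2.to_le fun z hz => hz.1
  have hsecZ : ∀ i : G, SecondPart π₂ i → i ∈ Z := by
    intro i hi
    refine ⟨h.second_mem_pCore h2 hy0 hy0O hi, hi.1, fun r hr => ?_⟩
    obtain ⟨S, hS⟩ := exists_sylow_centralizing (h.odd_second h2 hi)
    exact (show Commute r i from mem_cen.1 (hS (IsPGroup.le_sylow_of_normal hR2 S hr))).symm
  let E : Subgroup G :=
    { carrier := {v | v ∈ Z ∧ ∀ p ∈ π₁, p.Prime → ¬ p ∣ idx v}
      one_mem' := ⟨one_mem Z, fun p _ hp hd => hp.ne_one (Nat.dvd_one.1 (by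
        rwa [(CfsgLib.CoprimeLargest.idx_eq_one_iff (1 : G)).2 (one_mem _)] at hd))⟩
      mul_mem' := fun {a b} ha hb => ⟨mul_mem ha.1 hb.1,
        h.mul_mem_second h2 hZn hZ2 ha.1 hb.1 ha.1.2.1 hb.1.2.1 (ha.1.2.2 b hb.1.1) ha.2 hb.2⟩
      inv_mem' := fun {a} ha => ⟨inv_mem ha.1, by rw [idx_inv]; exact ha.2⟩ }
  haveI hEn : E.Normal := ⟨fun v hv g => ⟨hZn.conj_mem v hv.1 g, by
    rw [CfsgLib.CoprimeLargest.idx_conj]; exact hv.2⟩⟩
  letI : CommGroup (ModCen E) :=
    modCenCommGroup E fun a ha b hb => ha.1.2.2 b hb.1.1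
  letI : DistribMulAction G (Additive (ModCen E)) :=
    { smul := fun g a => Additive.ofMul (modCenConj E g (Additive.toMul a))
      one_smul := fun a => by
        induction a using Additive.rec with
        | ofMul a =>
          refine congrArg Additive.ofMul (QuotientGroup.induction_on a fun v => ?_)
          show modCenConj E 1 (QuotientGroup.mk v) = _
          rw [modCenConj_mk, map_one]; rfl
      mul_smul := fun g k a => by
        induction a using Additive.rec with
        | ofMul a =>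
          refine congrArg Additive.ofMul (QuotientGroup.induction_on a fun v => ?_)
          show modCenConj E (g * k) (QuotientGroup.mk v) =
            modCenConj E g (modCenConj E k (QuotientGroup.mk v))
          rw [modCenConj_mk, modCenConj_mk, modCenConj_mk, map_mul]; rfl
      smul_zero := fun g => congrArg Additive.ofMul (map_one (modCenConj E g))
      smul_add := fun g a b => congrArg Additive.ofMul
        (map_mul (modCenConj E g) (Additive.toMul a) (Additive.toMul b)) }
  let cls : E → Additive (ModCen E) := fun v => Additive.ofMul (QuotientGroup.mk v)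
  have hcls : ∀ w : Additive (ModCen E), ∃ v : E, cls v = w := fun w =>
    (QuotientGroup.mk_surjective (Additive.toMul w)).imp fun v hv => by rw [← ofMul_toMul w, ← hv]
  have hsmul : ∀ (g : G) (v : E), g • cls v = cls (MulAut.conjNormal g v) := fun g v => rfl
  have hzero : ∀ v : E, cls v = 0 ↔ (v : G) ∈ Subgroup.center G := fun v => by
    show QuotientGroup.mk v = (1 : ModCen E) ↔ _
    rw [QuotientGroup.eq_one_iff, Subgroup.mem_subgroupOf]
  have hsec : ∀ v : E, (v : G) ∉ Subgroup.center G → SecondPart π₂ (v : G) := by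
    intro v hv
    refine ⟨v.2.1.2.1, ?_⟩
    obtain ⟨p, hp, hpd⟩ := Nat.exists_prime_and_dvd
      (fun h1 => hv ((CfsgLib.CoprimeLargest.idx_eq_one_iff (v : G)).1 h1))
    exact ⟨p, (h.cover _ (isConj_inv_of_sq v.2.1.2.1) p hp hpd).resolve_left
      fun h1 => v.2.2 p h1 hp hpd, hp, hpd⟩
  -- the stabiliser of a non-zero vector is a centralizer
  have hstab : ∀ v : E, (v : G) ∉ Subgroup.center G →
      MulAction.stabilizer G (cls v) = cen (v : G) := by
    intro v hv
    set St := MulAction.stabilizer G (cls v) with hSt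
    have hmem : ∀ g : G, g ∈ St ↔ (v : G)⁻¹ * (g * v * g⁻¹) ∈ Subgroup.center G := fun g => by
      show g • cls v = cls v ↔ _
      rw [hsmul, eq_comm]
      show QuotientGroup.mk v = (QuotientGroup.mk (MulAut.conjNormal g v) : ModCen E) ↔ _
      rw [QuotientGroup.eq, Subgroup.mem_subgroupOf]
      simp [mul_assoc]
    have hle : cen (v : G) ≤ St := fun g hg => by
      rw [hmem, mem_cen.1 hg, mul_inv_cancel_right, inv_mul_cancel]; exact one_mem _
    refine le_antisymm (fun g hg => ?_) hle
    let χ : St →* G :=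
      { toFun := fun g => (v : G)⁻¹ * ((g : G) * v * (g : G)⁻¹)
        map_one' := by simp
        map_mul' := fun a b => by
          have hb : ∀ k : G, k * ((v : G)⁻¹ * ((b : G) * v * (b : G)⁻¹)) =
              (v : G)⁻¹ * ((b : G) * v * (b : G)⁻¹) * k :=
            fun k => Subgroup.mem_center_iff.1 ((hmem b).1 b.2) k
          rw [Subgroup.coe_mul]
          calc (v : G)⁻¹ * ((a : G) * b * v * ((a : G) * b)⁻¹)
              = (v : G)⁻¹ * ((a : G) * v * ((v : G)⁻¹ * ((b : G) * v * (b : G)⁻¹)) * (a : G)⁻¹) := by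
                group
            _ = (v : G)⁻¹ * ((a : G) * v * (a : G)⁻¹ * ((v : G)⁻¹ * ((b : G) * v * (b : G)⁻¹))) := by
                rw [mul_assoc ((a : G) * v) _ (a : G)⁻¹, ← hb (a : G)⁻¹]; group
            _ = _ := by group }
    have hsq : ∀ a : St, χ a ^ 2 = 1 := fun a => by
      have hm : (a : G) * v * (a : G)⁻¹ ∈ Z := hZn.conj_mem _ v.2.1 _
      exact (mul_mem (inv_mem v.2.1) hm : χ a ∈ Z).2.1
    have hker : χ.ker = (cen (v : G)).subgroupOf St := by
      ext a
      rw [MonoidHom.mem_ker, Subgroup.mem_subgroupOf, mem_cen]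
      show (v : G)⁻¹ * ((a : G) * v * (a : G)⁻¹) = 1 ↔ _
      rw [inv_mul_eq_one, eq_comm, mul_inv_eq_iff_eq_mul]
    have hodd : ¬ 2 ∣ Nat.card χ.range := by
      rw [← Subgroup.index_ker, hker]
      exact fun hd => h.odd_second h2 (hsec v hv)
        (hd.trans (Subgroup.relIndex_dvd_index_of_le hle))
    have h1 : χ ⟨g, hg⟩ = 1 := by
      have hd : orderOf (χ ⟨g, hg⟩) ∣ Nat.card χ.range :=
        Subgroup.orderOf_dvd_natCard _ ⟨⟨g, hg⟩, rfl⟩
      rcases (Nat.dvd_prime Nat.prime_two).1 (orderOf_dvd_of_pow_eq_one (hsq ⟨g, hg⟩)) with e | e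
      · exact orderOf_eq_one_iff.1 e
      · exact absurd (e ▸ hd) hodd
    have h3 : (⟨g, hg⟩ : St) ∈ χ.ker := h1
    rw [hker, Subgroup.mem_subgroupOf] at h3
    exact h3
  refine hsp (Additive (ModCen E)) ⟨fun w => ?_, ?_, fun w hw => ?_, fun w hw => ?_,
    fun y hy w hyw => ?_, fun y hy w hw => ?_⟩
  · obtain ⟨v, rfl⟩ := hcls w
    show Additive.ofMul ((QuotientGroup.mk v : ModCen E) * QuotientGroup.mk v) = 0
    rw [← QuotientGroup.mk_mul, show v * v = 1 from Subtype.ext ((pow_two (v : G)).symm.trans v.2.1.2.1)]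
    rfl
  · obtain ⟨i, hi⟩ := h.exists_second h2
    have hiE : i ∈ E := ⟨hsecZ i hi, fun p hp hpp hpd =>
      Set.disjoint_left.1 h.disj hp (h.pure_second hi p hpp hpd)⟩
    refine ⟨cls ⟨i, hiE⟩, fun h0 => ?_⟩
    obtain ⟨p, -, hpp, hpd⟩ := hi.2
    rw [(CfsgLib.CoprimeLargest.idx_eq_one_iff i).2 ((hzero _).1 h0)] at hpd
    exact hpp.ne_one (Nat.dvd_one.1 hpd)
  · obtain ⟨v, rfl⟩ := hcls w
    have hv := fun hc => hw ((hzero v).2 hc)
    rw [hstab v hv]
    exact h.odd_second h2 (hsec v hv)
  · obtain ⟨v, rfl⟩ := hcls w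
    have hv := fun hc => hw ((hzero v).2 hc)
    rw [hstab v hv]
    exact h.twoClosed_cen h2 (hsec v hv)
  · obtain ⟨v, rfl⟩ := hcls w
    by_contra hw
    have hv := fun hc => hw ((hzero v).2 hc)
    have hy' : y ∈ MulAction.stabilizer G (cls v) := hyw
    rw [hstab v hv] at hy'
    exact h.not_commute h2 hy (hsec v hv) (mem_cen.1 hy')
  · obtain ⟨v, rfl⟩ := hcls w
    have hv := fun hc => hw ((hzero v).2 hc)
    rw [hstab v hv]
    exact h.coprime_second h2 hy (hsec v hv)

end CfsgLib.RealClassGraph11
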