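import Cfsg.Agent.RealClassGraph11.Cores
import Cfsg.Agent.RealClassGraph11.Graph

/-!
The subgroup generated by the 2-elements when the real class graph is disconnected.
-/

set_option autoImplicit false

namespace CfsgLib.RealClassGraph11

open CfsgLib.CoprimeLargest (idx)
open CfsgLib.TwoSizes (cen mem_cen)

universe u

variable {G : Type u} [Group G]

/-- The subgroup generated by the 2-elements. -/
abbrev twoGen (G : Type u) [Group G] : Subgroup G :=
  Subgroup.closure {g : G | ∃ k : ℕ, orderOf g = 2 ^ k}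

instance twoGen_normal : (twoGen G).Normal := by
  refine ⟨fun a ha c => ?_⟩
  induction ha using Subgroup.closure_induction with
  | mem w hw =>
    obtain ⟨k, hk⟩ := hw
    exact Subgroup.subset_closure ⟨k, by
      rw [← hk]; exact (MulAut.conj c).orderOf_eq w⟩
  | one => simp
  | mul a b _ _ hea heb => rw [← conj_mul]; exact mul_mem hea heb
  | inv a _ hea => rw [← conj_inv]; exact inv_mem hea

variable [Finite G]

theorem sylow_le_twoGen (P : Sylow 2 G) : (P : Subgroup G) ≤ twoGen G := fun g hg => by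
  haveI : Fact (Nat.Prime 2) := ⟨Nat.prime_two⟩
  obtain ⟨k, hk⟩ := IsPGroup.iff_orderOf.1 P.isPGroup' ⟨g, hg⟩
  exact Subgroup.subset_closure ⟨k, by rw [← hk, Subgroup.orderOf_mk]⟩

theorem odd_index_twoGen : ¬ 2 ∣ (twoGen G).index := fun hd => by
  haveI : Fact (Nat.Prime 2) := ⟨Nat.prime_two⟩
  obtain ⟨P⟩ : Nonempty (Sylow 2 G) := inferInstance
  exact P.not_dvd_index (hd.trans (Subgroup.index_dvd_of_le (sylow_le_twoGen P)))

/-- Real elements are generated by 2-elements and inverted inside. -/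
theorem real_mem_twoGen {x : G} (hx : IsConj x x⁻¹) :
    ∃ hK : x ∈ twoGen G, IsConj (⟨x, hK⟩ : twoGen G) (⟨x, hK⟩ : twoGen G)⁻¹ := by
  obtain ⟨g, k, hk, hg⟩ := exists_two_inverter hx
  have hgK : g ∈ twoGen G := Subgroup.subset_closure ⟨k, hk⟩
  have hinv : g * x⁻¹ * g⁻¹ = x := by
    rw [show g * x⁻¹ * g⁻¹ = (g * x * g⁻¹)⁻¹ by group, hg, inv_inv]
  have h2 : x * x ∈ twoGen G := by
    have e : x * x = (x * g * x⁻¹) * g⁻¹ := by
      calc x * x = x * (g * x⁻¹ * g⁻¹) := by rw [hinv]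
        _ = _ := by group
    rw [e]
    exact mul_mem ((twoGen_normal).conj_mem g hgK x) (inv_mem hgK)
  have hK : x ∈ twoGen G := by
    rw [← QuotientGroup.eq_one_iff]
    have h1 : (QuotientGroup.mk x : G ⧸ twoGen G) * QuotientGroup.mk x = 1 := by
      rw [← QuotientGroup.mk_mul, QuotientGroup.eq_one_iff]; exact h2
    refine eq_one_of_mul_self ?_ h1
    rw [← Nat.not_even_iff_odd, even_iff_two_dvd]
    exact fun hd => odd_index_twoGen (hd.trans (orderOf_dvd_natCard _))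
  exact ⟨hK, isConj_iff.2 ⟨⟨g, hgK⟩, Subtype.ext (by simpa using hg)⟩⟩

theorem idx_twoGen_dvd (x : twoGen G) : idx x ∣ idx (x : G) := by
  have : cen x = (cen (x : G)).subgroupOf (twoGen G) := by
    ext g
    rw [Subgroup.mem_subgroupOf, mem_cen, mem_cen, Subtype.ext_iff]
    simp
  show (cen x).index ∣ _
  rw [this]
  exact relIndex_dvd_index _ _

variable {π₁ π₂ : Set ℕ}

/-- The number of Sylow 2-subgroups divides the class sizes of the second part. -/
theorem Split.card_sylow_dvd (h : Split G π₁ π₂) (h2 : 2 ∈ π₁) {i : G} (hi : SecondPart π₂ i) :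
    Nat.card (Sylow 2 G) ∣ idx i := by
  haveI : Fact (Nat.Prime 2) := ⟨Nat.prime_two⟩
  obtain ⟨P, -, hN, -⟩ := (h.twoClosed_cen h2 hi).exists_sylow (h.odd_second h2 hi)
  rw [P.card_eq_index_normalizer]
  exact Subgroup.index_dvd_of_le hN

theorem card_sylow_quotient_dvd (N : Subgroup G) [N.Normal] :
    Nat.card (Sylow 2 (G ⧸ N)) ∣ Nat.card (Sylow 2 G) := by
  haveI : Fact (Nat.Prime 2) := ⟨Nat.prime_two⟩
  obtain ⟨P⟩ : Nonempty (Sylow 2 G) := inferInstance
  rw [(P.mapSurjective (QuotientGroup.mk'_surjective N)).card_eq_index_normalizer,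
    P.card_eq_index_normalizer,
    show ((P.mapSurjective (QuotientGroup.mk'_surjective N) : Sylow 2 (G ⧸ N)) : Set (G ⧸ N)) =
      (((P : Subgroup G).map (QuotientGroup.mk' N) : Subgroup (G ⧸ N)) : Set (G ⧸ N)) from rfl]
  refine (Subgroup.index_dvd_of_le (Subgroup.le_normalizer_map _)).trans ?_
  exact Subgroup.index_map_dvd _ (QuotientGroup.mk'_surjective N)

/-- The odd primes of the subgroup generated by the 2-elements belong to the second part. -/
theorem Split.prime_dvd_card_twoGen (h : Split G π₁ π₂) (h2 : 2 ∈ π₁) [Group.IsSolvable G]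
    {p : ℕ} (hp : p.Prime) (hp2 : p ≠ 2) (hd : p ∣ Nat.card (twoGen G)) : p ∈ π₂ := by
  haveI : Fact (Nat.Prime 2) := ⟨Nat.prime_two⟩
  haveI : Fact p.Prime := ⟨hp⟩
  obtain ⟨i, hi⟩ := h.exists_second h2
  set R := Cfsg.pCore 2 G with hR
  haveI : R.Normal := Cfsg.pCore_normal 2 G
  let Q := G ⧸ R
  have hO : Cfsg.pCore 2 Q = ⊥ := by
    rw [eq_bot_iff]
    intro a ha
    obtain ⟨b, rfl⟩ := QuotientGroup.mk'_surjective R a
    haveI : (Cfsg.pCore 2 Q).Normal := Cfsg.pCore_normal 2 Q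
    have hle : (Cfsg.pCore 2 Q).comap (QuotientGroup.mk' R) ≤ R :=
      CfsgLib.LocalP.le_pCore (Subgroup.Normal.comap inferInstance _)
        ((CfsgLib.LocalP.isPGroup_pCore (G := Q)).comap_of_ker_isPGroup _ (by
          rw [QuotientGroup.ker_mk']; exact CfsgLib.LocalP.isPGroup_pCore))
    rw [Subgroup.mem_bot, QuotientGroup.mk'_apply, QuotientGroup.eq_one_iff]
    exact hle ha
  set d := Nat.card (Sylow 2 Q) with hdd
  have hdi : d ∣ idx i := (card_sylow_quotient_dvd R).trans (h.card_sylow_dvd h2 hi)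
  have hcop : ∀ y : Q, OddReal y → (idx y).Coprime d := fun y hy => by
    obtain ⟨w, hw, -, hwi⟩ := exists_lift_idx R hy
    exact ((h.coprime_second h2 hw hi).of_dvd_left hwi).of_dvd_right hdi
  have hF : ∀ y : Q, OddReal y → y ∈ Cfsg.fittingSubgroup Q := fun y hy => by
    refine CfsgLib.Constrained.centralizer_fitting_le ?_
    have hle : Cfsg.fittingSubgroup Q ≤ cen y := by
      rw [CfsgLib.Constrained.fitting_eq_iSup_pCore]
      exact iSup₂_le fun s hs a ha => mem_cen.2 (commute_pCore_of hO hcop hy hs ha).1.symm.eq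
    exact Subgroup.mem_centralizer_iff.2 fun a ha => mem_cen.1 (hle ha)
  have hcore : ∀ y : Q, OddReal y → ∃ q : ℕ, q.Prime ∧ q ∣ d ∧ y ∈ Cfsg.pCore q Q ∧
      ∃ k, orderOf y = q ^ k := by
    intro y hy
    obtain ⟨q, k, hq, hq2, ho, hr⟩ := id hy
    haveI : Fact q.Prime := ⟨hq⟩
    have hyF := hF y hy
    obtain ⟨S, hS⟩ := (IsPGroup.of_card (p := q) (n := k + 1)
      (show Nat.card (Subgroup.zpowers (⟨y, hyF⟩ : Cfsg.fittingSubgroup Q)) = q ^ (k + 1) by
        rw [Nat.card_zpowers, Subgroup.orderOf_mk, ho])).exists_le_sylow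
    have hyq : y ∈ Cfsg.pCore q Q := CfsgLib.Constrained.map_sylow_le_pCore inferInstance
      CfsgLib.Constrained.isNilpotent_fitting S ⟨_, hS (Subgroup.mem_zpowers _), rfl⟩
    refine ⟨q, hq, by_contra fun hnd => ?_, hyq, k + 1, ho⟩
    obtain ⟨g, j, hj, hg⟩ := exists_two_inverter hr
    rw [((commute_pCore_of hO hcop hy hq hyq).2 hnd g ⟨j, hj⟩).eq, mul_inv_cancel_right] at hg
    exact hy.sq_ne_one (by rw [pow_two]; nth_rw 1 [hg]; exact inv_mul_cancel y)
  let A : Subgroup Q := Subgroup.closure {y | OddReal y}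
  have hcomm : ∀ a ∈ A, ∀ b ∈ A, Commute a b := by
    have h0 : ∀ a b : Q, OddReal a → OddReal b → Commute a b := fun a b ha hb => by
      obtain ⟨q, hq, -, hbq, -⟩ := hcore b hb
      exact (commute_pCore_of hO hcop ha hq hbq).1
    intro a ha b hb
    have hle : A ≤ cen b := (Subgroup.closure_le _).2 fun s hs => by
      have hle' : A ≤ cen s := (Subgroup.closure_le _).2 fun t ht =>
        mem_cen.2 (h0 t s ht hs).eq
      exact mem_cen.2 (mem_cen.1 (hle' hb)).symm
    exact mem_cen.1 (hle ha)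
  haveI hAn : A.Normal := by
    refine ⟨fun a ha c => ?_⟩
    induction ha using Subgroup.closure_induction with
    | mem w hw => exact Subgroup.subset_closure (OddReal.conj hw c)
    | one => simp
    | mul a b _ _ hea heb => rw [← conj_mul]; exact mul_mem hea heb
    | inv a _ hea => rw [← conj_inv]; exact inv_mem hea
  have hAd : ∀ a ∈ A, a ^ (d ^ Nat.card Q) = 1 := by
    intro a ha
    induction ha using Subgroup.closure_induction with
    | mem w hw =>
      obtain ⟨q, hq, hqd, -, k, hk⟩ := hcore w hw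
      refine orderOf_dvd_iff_pow_eq_one.1 ?_
      rw [hk]
      refine (pow_dvd_pow q ?_).trans (pow_dvd_pow_of_dvd hqd _)
      refine le_trans (Nat.lt_pow_self hq.one_lt).le ?_
      rw [← hk]; exact orderOf_le_card
    | one => exact one_pow _
    | mul a b ham hbm hea heb => rw [(hcomm a ham b hbm).mul_pow, hea, heb, one_mul]
    | inv a _ hea => rw [inv_pow, hea, inv_one]
  obtain ⟨g, hg⟩ := exists_prime_orderOf_dvd_card' p hd
  rw [← Subgroup.orderOf_coe] at hg
  -- the image of `g` lies in `A`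
  let f : G →* Q ⧸ A := (QuotientGroup.mk' A).comp (QuotientGroup.mk' R)
  obtain ⟨S⟩ : Nonempty (Sylow 2 (Q ⧸ A)) := inferInstance
  have hSn := normal_sylow_quotient A (fun y hy => Subgroup.subset_closure hy) S
  haveI : Unique (Sylow 2 (Q ⧸ A)) := Sylow.unique_of_normal _ hSn
  have hKS : twoGen G ≤ (S : Subgroup (Q ⧸ A)).comap f := by
    refine (Subgroup.closure_le _).2 ?_
    rintro a ⟨k, hk⟩
    have hpz : IsPGroup 2 (Subgroup.zpowers a) := IsPGroup.of_card (n := k) (by rw [Nat.card_zpowers, hk])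
    obtain ⟨T, hT⟩ := (hpz.map f).exists_le_sylow
    show f a ∈ (S : Subgroup (Q ⧸ A))
    rw [← Subsingleton.elim T S]
    exact hT ⟨a, Subgroup.mem_zpowers a, rfl⟩
  have hgp : orderOf (g : G) = p := hg
  have hgA : QuotientGroup.mk' R (g : G) ∈ A := by
    rw [← QuotientGroup.eq_one_iff]
    show f g = 1
    refine CfsgLib.LocalP.eq_one_of_mem_of_coprime S.isPGroup' (hKS g.2) ?_
    refine Nat.Coprime.coprime_dvd_left (orderOf_map_dvd f _) ?_
    rw [hgp]
    exact (Nat.coprime_primes hp Nat.prime_two).2 hp2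
  have hgR : orderOf (QuotientGroup.mk' R (g : G)) = p := by
    rcases (Nat.dvd_prime hp).1 ((orderOf_map_dvd (QuotientGroup.mk' R) (g : G)).trans hgp.dvd) with
      e | e
    · exfalso
      rw [orderOf_eq_one_iff, QuotientGroup.mk'_apply, QuotientGroup.eq_one_iff] at e
      have h1 := CfsgLib.LocalP.eq_one_of_mem_of_coprime CfsgLib.LocalP.isPGroup_pCore e
        (by rw [hgp]; exact (Nat.coprime_primes hp Nat.prime_two).2 hp2)
      rw [h1, orderOf_one] at hgp
      exact hp.ne_one hgp.symm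
    · exact e
  have hpd : p ∣ d := by
    have h1 := orderOf_dvd_of_pow_eq_one (hAd _ hgA)
    rw [hgR] at h1
    exact hp.dvd_of_dvd_pow h1
  exact h.pure_second hi p hp (hpd.trans hdi)

/-- The conclusion on the subgroup generated by the 2-elements. -/
theorem Split.twoGen_structure (h : Split G π₁ π₂) (h2 : 2 ∈ π₁) [Group.IsSolvable G]
    (hP : ¬ ∀ P : Sylow 2 G, (P : Subgroup G).Normal) :
    (∃ σ₁ σ₂ : Set ℕ, Split (twoGen G) σ₁ σ₂ ∧ (∀ q ∈ σ₁ ∪ σ₂, q.Prime ∧
      ∃ x : twoGen G, IsConj x x⁻¹ ∧ q ∣ idx x)) ∧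
    ∀ x : twoGen G, IsConj x x⁻¹ → Odd (idx x) ∨ ∃ j : ℕ, idx x = 2 ^ j := by
  haveI : Fact (Nat.Prime 2) := ⟨Nat.prime_two⟩
  push Not at hP
  obtain ⟨P, hP⟩ := hP
  obtain ⟨y, hy⟩ := exists_oddReal P hP
  obtain ⟨hyK, hyr⟩ := real_mem_twoGen hy.real
  obtain ⟨i, hi⟩ := h.exists_second h2
  obtain ⟨hiK, hir⟩ := real_mem_twoGen hi.real
  have hy' : OddReal (⟨y, hyK⟩ : twoGen G) := by
    obtain ⟨q, k, hq, hq2, ho, -⟩ := hy
    exact ⟨q, k, hq, hq2, by rw [Subgroup.orderOf_mk, ho], hyr⟩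
  have hreal : ∀ x : twoGen G, IsConj x x⁻¹ → IsConj (x : G) (x : G)⁻¹ := fun x hx => by
    obtain ⟨g, hg⟩ := isConj_iff.1 hx
    exact isConj_iff.2 ⟨g, by simpa using congrArg Subtype.val hg⟩
  let S : Set ℕ := {p | p.Prime ∧ ∃ x : twoGen G, IsConj x x⁻¹ ∧ p ∣ idx x}
  have hne : ∃ p : ℕ, p.Prime ∧ p ∣ idx (⟨i, hiK⟩ : twoGen G) := by
    refine Nat.exists_prime_and_dvd fun h1 => ?_
    rw [CfsgLib.CoprimeLargest.idx_eq_one_iff, Subgroup.mem_center_iff] at h1
    exact h.not_commute h2 hy hi (congrArg Subtype.val (h1 ⟨y, hyK⟩))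
  refine ⟨⟨π₁ ∩ S, π₂ ∩ S, ⟨?_, ?_, ?_, ?_, ?_⟩, ?_⟩, ?_⟩
  · exact ⟨⟨y, hyK⟩, hyr, 2, ⟨h2, Nat.prime_two, ⟨y, hyK⟩, hyr, hy'.two_dvd_idx⟩,
      Nat.prime_two, hy'.two_dvd_idx⟩
  · obtain ⟨p, hp, hpd⟩ := hne
    exact ⟨⟨i, hiK⟩, hir, p, ⟨h.pure_second hi p hp (hpd.trans (idx_twoGen_dvd _)), hp, _, hir, hpd⟩,
      hp, hpd⟩
  · intro x hx p hp hpd
    exact (h.cover _ (hreal x hx) p hp (hpd.trans (idx_twoGen_dvd x))).imp
      (fun h1 => ⟨h1, hp, x, hx, hpd⟩) (fun h1 => ⟨h1, hp, x, hx, hpd⟩)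
  · intro x hx a ha b hb hab
    exact h.noedge _ (hreal x hx) a ha.1 b hb.1
      ⟨hab.1.trans (idx_twoGen_dvd x), hab.2.trans (idx_twoGen_dvd x)⟩
  · exact h.disj.mono Set.inter_subset_left Set.inter_subset_left
  · rintro q (hq | hq) <;> exact hq.2
  · intro x hx
    by_cases h2x : 2 ∣ idx x
    · refine Or.inr ⟨_, Nat.eq_prime_pow_of_unique_prime_dvd
        (CfsgLib.CoprimeLargest.idx_ne_zero x) fun {p} hp hpd => by_contra fun hp2 => ?_⟩
      have hp1 : p ∈ π₁ := h.pure₁ (hreal x hx) h2 (h2x.trans (idx_twoGen_dvd x)) p hp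
        (hpd.trans (idx_twoGen_dvd x))
      exact Set.disjoint_left.1 h.disj hp1 (h.prime_dvd_card_twoGen h2 hp hp2
        (hpd.trans (Subgroup.index_dvd_card _)))
    · exact Or.inl (Nat.not_even_iff_odd.1 fun he => h2x he.two_dvd)

end CfsgLib.RealClassGraph11
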